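import Cfsg.Agent.Perm.FCNormal
import Mathlib.NumberTheory.Zsqrtd.Basic

/-!
Homomorphisms from `SL₂(3)` and `SL₂(5)` into a group with a quaternion frame, from explicit tables
of the binary tetrahedral and binary icosahedral groups.
-/

set_option autoImplicit false

namespace Cfsg.Lib.Perm

open Matrix

/-- A homomorphism from a multiplication table. -/
theorem exists_hom_of_table {Γ G R ι : Type*} [Group Γ] [Group G] [Ring R] (ρ : G →* R)
    (hρ : Function.Injective ρ) (Φ : Γ → R) (h1 : IsUnit (Φ 1)) (g : ι → Γ) (x : ι → G)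
    (hgen : Subgroup.closure (Set.range g) = ⊤) (hmul : ∀ M k, Φ (M * g k) = Φ M * ρ (x k)) :
    ∃ φ : Γ →* G, (∀ k, φ (g k) = x k) ∧ ∀ M, Φ M = Φ 1 * ρ (φ M) := by
  let T : Subgroup (Γ × G) :=
    { carrier := {p | ∀ M, Φ (M * p.1) = Φ M * ρ p.2}
      one_mem' := fun M => by simp
      mul_mem' := fun {p q} hp hq M => by
        rw [Prod.fst_mul, Prod.snd_mul, ← mul_assoc, hq, hp, map_mul, mul_assoc]
      inv_mem' := fun {p} hp M => by
        have := hp (M * p.1⁻¹)
        rw [inv_mul_cancel_right] at this
        rw [Prod.fst_inv, Prod.snd_inv, this, mul_assoc, ← map_mul, mul_inv_cancel, map_one,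
          mul_one] }
  let π : T →* Γ := (MonoidHom.fst Γ G).comp T.subtype
  have hπ : Function.Bijective π := by
    constructor
    · rw [injective_iff_map_eq_one]
      rintro ⟨⟨M, y⟩, hp⟩ (rfl : M = 1)
      have := hp 1
      rw [mul_one] at this
      have h2 : ρ y = ρ 1 := by rw [map_one]; exact (h1.mul_eq_left.mp this.symm)
      exact Subtype.ext (Prod.ext rfl (hρ h2))
    · rw [← MonoidHom.range_eq_top, eq_top_iff, ← hgen, Subgroup.closure_le]
      rintro _ ⟨k, rfl⟩
      exact ⟨⟨(g k, x k), fun M => hmul M k⟩, rfl⟩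
  let e := MulEquiv.ofBijective π hπ
  refine ⟨((MonoidHom.snd Γ G).comp T.subtype).comp e.symm.toMonoidHom, fun k => ?_, fun M => ?_⟩
  · have : e.symm (g k) = ⟨(g k, x k), fun M => hmul M k⟩ := by
      rw [MulEquiv.symm_apply_eq]; rfl
    change (e.symm (g k)).1.2 = x k
    rw [this]
  · have := (e.symm M).2 1
    rwa [one_mul, show (e.symm M).1.1 = M from e.apply_symm_apply M] at this

theorem closure_eq_top_of_dist {Γ ι : Type*} [Group Γ] (g : ι → Γ) (D : Γ → ℕ)
    (h : ∀ M, M = 1 ∨ ∃ k, D (M * g k) < D M) : Subgroup.closure (Set.range g) = ⊤ := by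
  rw [eq_top_iff]
  intro M hM
  clear hM
  induction hn : D M using Nat.strong_induction_on generalizing M with
  | _ n ih =>
    rcases h M with rfl | ⟨k, hk⟩
    · exact one_mem _
    · have := ih _ (hn ▸ hk) (M := M * g k) rfl
      exact (Subgroup.mul_mem_cancel_right _ (Subgroup.subset_closure (Set.mem_range_self k))).mp this

/-- Quaternion coordinates. -/
structure Q4 (A : Type) where
  /-- real part -/
  a : A
  /-- `i`-part -/
  b : A
  /-- `j`-part -/
  c : A
  /-- `k`-part -/
  d : A
  deriving DecidableEq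

/-- Quaternion multiplication. -/
def Q4.mul {A : Type} [Mul A] [Add A] [Sub A] (p q : Q4 A) : Q4 A :=
  ⟨p.a * q.a - p.b * q.b - p.c * q.c - p.d * q.d, p.a * q.b + p.b * q.a + p.c * q.d - p.d * q.c,
    p.a * q.c - p.b * q.d + p.c * q.a + p.d * q.b, p.a * q.d + p.b * q.c - p.c * q.b + p.d * q.a⟩

/-- Four times a quaternion. -/
def Q4.four {d : ℤ} (p : Q4 (ℤ√d)) : Q4 (ℤ√d) :=
  ⟨⟨4 * p.a.re, 4 * p.a.im⟩, ⟨4 * p.b.re, 4 * p.b.im⟩, ⟨4 * p.c.re, 4 * p.c.im⟩,
    ⟨4 * p.d.re, 4 * p.d.im⟩⟩

/-- The ring homomorphism `ℤ√d → C` sending `√d` to `s`. -/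
def zsqHom {C : Type*} [Ring C] (d : ℤ) (s : C) (hs : s * s = d) : ℤ√d →+* C where
  toFun z := z.re • (1 : C) + z.im • s
  map_one' := by simp
  map_zero' := by simp
  map_add' z w := by simp only [Zsqrtd.re_add, Zsqrtd.im_add]; module
  map_mul' z w := by
    have hs' : s * s = d • (1 : C) := by rw [hs]; simp
    simp only [Zsqrtd.re_mul, Zsqrtd.im_mul, mul_add, add_mul, smul_mul_assoc, mul_smul_comm,
      one_mul, mul_one, hs']
    module

theorem zsqHom_mk {C : Type*} [Ring C] (d : ℤ) (s : C) (hs : s * s = d) (x y : ℤ) :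
    zsqHom d s hs ⟨x, y⟩ = x • (1 : C) + y • s := rfl

/-- Decoding of a table entry. -/
def q4dec (d : ℤ) (n : ℕ) : Q4 (ℤ√d) :=
  ⟨⟨Int.subNatNat (n % 16) 4, Int.subNatNat (n / 16 % 16) 4⟩,
   ⟨Int.subNatNat (n / 256 % 16) 4, Int.subNatNat (n / 4096 % 16) 4⟩,
   ⟨Int.subNatNat (n / 65536 % 16) 4, Int.subNatNat (n / 1048576 % 16) 4⟩,
   ⟨Int.subNatNat (n / 16777216 % 16) 4, Int.subNatNat (n / 268435456 % 16) 4⟩⟩

theorem sl2_mul_apply {K : Type*} [CommRing K] (M N : SpecialLinearGroup (Fin 2) K) (i j : Fin 2) :
    (M * N).1 i j = M.1 i 0 * N.1 0 j + M.1 i 1 * N.1 1 j := by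
  simp [Matrix.mul_apply, Fin.sum_univ_two]

theorem sl2_det {K : Type*} [CommRing K] (M : SpecialLinearGroup (Fin 2) K) :
    M.1 0 0 * M.1 1 1 - M.1 0 1 * M.1 1 0 = 1 := by
  rw [← det_fin_two]; exact M.2

theorem sl2_eq_one {K : Type*} [CommRing K] (M : SpecialLinearGroup (Fin 2) K) (h1 : M.1 0 0 = 1)
    (h2 : M.1 0 1 = 0) (h3 : M.1 1 0 = 0) (h4 : M.1 1 1 = 1) : M = 1 := by
  ext i j
  fin_cases i <;> fin_cases j
  exacts [h1, h2, h3, h4]

/-- A matrix of determinant one from its entries. -/
def sl2mk {K : Type*} [CommRing K] (a b c d : K) (h : a * d - b * c = 1) :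
    SpecialLinearGroup (Fin 2) K := ⟨!![a, b; c, d], by rw [det_fin_two_of, h]⟩

variable {G R : Type*} [Group G] [Ring R] {i j : R}

/-- The element of `R` with the given coordinates. -/
def Q4.ev {d : ℤ} (ψ : ℤ√d →+* Cz i j) (p : Q4 (ℤ√d)) : R := qq (ψ p.a) (ψ p.b) (ψ p.c) (ψ p.d)

theorem Q4.ev_mul {d : ℤ} (h : QS i j) (ψ : ℤ√d →+* Cz i j) (p q : Q4 (ℤ√d)) :
    (p.mul q).ev ψ = p.ev ψ * q.ev ψ := by
  simp only [Q4.ev, Q4.mul, h.qq_mul, map_add, map_sub, map_mul]

theorem Q4.ev_four {d : ℤ} (ψ : ℤ√d →+* Cz i j) (p : Q4 (ℤ√d)) :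
    p.four.ev ψ = (4 : ℤ) • p.ev ψ := by
  have : ∀ z : ℤ√d, (⟨4 * z.re, 4 * z.im⟩ : ℤ√d) = z + z + z + z := fun z => by
    ext <;> simp <;> ring
  simp only [Q4.ev, Q4.four, this, map_add, ← qq_add]
  abel

theorem exists_sl2_hom [Nontrivial R] {K ι : Type*} [CommRing K] {ρ : G →* R}
    (hρ : Function.Injective ρ) (h : QS i j) {d : ℤ} (ψ : ℤ√d →+* Cz i j)
    (tab : K → K → K → K → Q4 (ℤ√d)) (D : K → K → K → K → ℕ) (ga gb gc gd : ι → K)
    (hg : ∀ k, ga k * gd k - gb k * gc k = 1) (x : ι → G) (N : ℤ) (hN : IsUnit (N : Cz i j))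
    (h1 : tab 1 0 0 1 = ⟨⟨4, 0⟩, 0, 0, 0⟩)
    (hx : ∀ k, (tab (ga k) (gb k) (gc k) (gd k)).ev ψ = (4 : ℤ) • ρ (x k))
    (htab : ∀ a b c e : K, a * e - b * c = 1 →
      (∀ k, (tab a b c e).mul (tab (ga k) (gb k) (gc k) (gd k)) =
        (tab (a * ga k + b * gc k) (a * gb k + b * gd k) (c * ga k + e * gc k)
          (c * gb k + e * gd k)).four) ∧
      ((a = 1 ∧ b = 0 ∧ c = 0 ∧ e = 1) ∨ (((tab a b c e).a - ⟨4, 0⟩).norm ∣ N ∧
        ∃ k, D (a * ga k + b * gc k) (a * gb k + b * gd k) (c * ga k + e * gc k)
          (c * gb k + e * gd k) < D a b c e))) :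
    ∃ φ : SpecialLinearGroup (Fin 2) K →* G, Function.Injective φ ∧
      (∀ k, φ (sl2mk _ _ _ _ (hg k)) = x k) ∧ φ.range = Subgroup.closure (Set.range x) := by
  let Φ : SpecialLinearGroup (Fin 2) K → R := fun M =>
    (tab (M.1 0 0) (M.1 0 1) (M.1 1 0) (M.1 1 1)).ev ψ
  have e4 : ψ ⟨4, 0⟩ = 4 := by
    rw [show (⟨4, 0⟩ : ℤ√d) = 4 from rfl, map_ofNat]
  have hΦ1 : Φ 1 = 4 := by
    have : Φ 1 = (tab 1 0 0 1).ev ψ := by simp [Φ]
    rw [this, h1, qq_ofNat (i := i) (j := j)]
    simp [Q4.ev, e4]
  have h4 : IsUnit (4 : R) := by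
    rw [show (4 : R) = 2 * 2 by norm_num]; exact h.two.mul h.two
  have hgen : Subgroup.closure (Set.range fun k => sl2mk _ _ _ _ (hg k)) = ⊤ := by
    refine closure_eq_top_of_dist _ (fun M => D (M.1 0 0) (M.1 0 1) (M.1 1 0) (M.1 1 1)) fun M => ?_
    rcases (htab _ _ _ _ (sl2_det M)).2 with ⟨a1, a2, a3, a4⟩ | ⟨-, k, hk⟩
    · exact Or.inl (sl2_eq_one M a1 a2 a3 a4)
    · exact Or.inr ⟨k, by simp only [sl2_mul_apply]; exact hk⟩
  obtain ⟨φ, hφ, hΦ⟩ := exists_hom_of_table ρ hρ Φ (hΦ1 ▸ h4) _ x hgen (fun M k => by
    have := congrArg (Q4.ev ψ) ((htab _ _ _ _ (sl2_det M)).1 k)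
    rw [Q4.ev_mul h, Q4.ev_four, hx] at this
    refine sub_eq_zero.mp (eq_zero_of_two_pow h.two 2 4 ?_)
    rw [smul_sub, ← mul_smul_comm, sub_eq_zero]
    simp only [Φ, sl2_mul_apply]
    exact this.symm)
  refine ⟨φ, (injective_iff_map_eq_one φ).mpr fun M hM => ?_, hφ, ?_⟩
  · rcases (htab _ _ _ _ (sl2_det M)).2 with ⟨a1, a2, a3, a4⟩ | ⟨⟨m, hm⟩, -⟩
    · exact sl2_eq_one M a1 a2 a3 a4
    exfalso
    have := hΦ M
    rw [hM, map_one, mul_one, hΦ1, qq_ofNat (i := i) (j := j)] at this
    have e1 := (h.qq_inj.mp this).1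
    rw [← e4, ← sub_eq_zero, ← map_sub] at e1
    apply hN.ne_zero
    rw [hm, Int.cast_mul, ← map_intCast ψ, Zsqrtd.norm_eq_mul_conj, map_mul, e1, zero_mul, zero_mul]
  · rw [MonoidHom.range_eq_map, ← hgen, MonoidHom.map_closure, ← Set.range_comp]
    congr 2
    exact funext hφ

/-- The table of the binary tetrahedral group. -/
def tab3 (a b c e : ZMod 3) : Q4 (ℤ√0) :=
  q4dec 0 (0x4844444400000000000000000000000042424242424646460000000000000000000000000000000042424642000000004448444400000000464242460000000000000000424642460000000000000000464246460000000000000000444444400000000000000000444044440000000000000000000000000000000046464246000000004246464200000000000000000000000046464646404444440000000000000000000000004642424200000000000000004246424200000000000000004642464200000000000000004444444800000000000000000000000000000000464642424242424644444844000000000000000000000000464646424242464644444044000000000000000000000000000000000000000000000000000000000000000000000000000000000000000000000000000000000000000000000000 >>> (32 * (((a.val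 * 3 + b.val) * 3 + c.val) * 3 + e.val)) % 4294967296)

/-- Distance to the identity in `SL₂(3)`. -/
def dist3 (a b c e : ZMod 3) : ℕ :=
  0x20001300006030500400500200100004030003200050040020000000243000231000000000000000 >>> (4 * (((a.val * 3 + b.val) * 3 + c.val) * 3 + e.val)) % 16

/-- The table of the binary icosahedral group. -/
def tab5 (a b c e : ZMod 5) : Q4 (ℤ√5) :=
  q4dec 5 (0x464455530000000000000000000000000000000000000000535544460000000000000000000000000000000000000000354633440000000000000000000000000000000000000000424242424433463500000000000000000000000000000000000000000000000055443546000000000000000000000000000000000000000000000000464642420000000042534433000000000000000000000000000000000000000000000000333546440000000044425355000000000000000000000000000000000000000000000000000000004444404400000000000000004442353300000000000000000000000000000000000000000000000000000000443555420000000000000000445355460000000000000000444635550000000000000000000000000000000000000000000000000000000000000000334435420000000000000000000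0000042335344000000000000000000000000464246460000000000000000000000005546445300000000000000000000000044554235000000000000000000000000000000004244553500000000000000000000000000000000354446550000000000000000000000000000000053444255000000000000000000000000000000004644333500000000000000000000000000000000444444400000000000000000000000000000000033424453000000000000000000000000000000000000000000000000000000005355444200000000000000005333444600000000000000000000000000000000000000000000000000000000334644350000000000000000484444440000000000000000000000000000000000000000554435420000000000000000000000000000000000000000423544554446533300000000000000000000000000000000000000004642424600000000000000000000000000000000000000003353464400000000000000000000000042464646000000000000000000000000463544330000000000000000000000000000000000000000000000000000000000000000354442550000000000000000000000004453554200000000000000000000000053423344000000000000000000000000000000000000000000000000443342350000000035554446000000000000000000000000000000000000000000000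0004642464200000000424433530000000000000000000000000000000000000000000000005346554400000000000000000000000000000000465553440000000000000000000000000000000044404444000000000000000000000000000000004255354400000000000000000000000000000000553546440000000000000000000000000000000033354244000000000000000000000000000000000000000046445535000000004246424600000000000000000000000000000000000000000000000053334442000000000000000000000000000000000000000000000000445546530000000035423344000000000000000000000000443533460000000000000000000000000000000000000000000000000000000000000000534446330000000000000000000000004253445500000000000000000000000046424242000000000000000000000000354655440000000000000000000000000000000000000000424646420000000000000000000000000000000000000000444235550000000000000000000000000000000000000000465344333344534600000000000000000000000000000000000000005535424400000000000000000000000000000000000000000000000000000000554244530000000000000000355544420000000000000000353344460000000000000000000000000000000000000000000000000000000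0554644350000000000000000404444440000000000000000000000000000000033534244000000000000000000000000000000004633534400000000000000000000000000000000444844440000000000000000000000000000000042333544000000000000000000000000000000005553464400000000000000000000000000000000000000003342443500000000000000000000000042464242000000000000000000000000465535440000000000000000000000000000000000000000000000000000000000000000554453460000000000000000000000004433465300000000000000004435334200000000000000000000000000000000000000000000000000000000445333460000000000000000444653550000000000000000444448440000000000000000000000000000000000000000000000000000000044425333000000005553424400000000000000000000000000000000000000000000000046354455000000000000000000000000000000000000000000000000424246460000000033445342000000000000000000000000000000000000000000000000444635330000000000000000000000000000000000000000464646465342554400000000000000000000000000000000000000003533444200000000000000000000000000000000000000004244333500000000000000000000000000000000000000004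455425300000000000000000000000000000000424455530000000000000000000000000000000035444633000000000000000000000000000000005344423300000000000000000000000000000000464433530000000000000000000000000000000044444448000000000000000000000000000000000000000000000000000000000000000000000000000000000000000000000000000000000000000000000000000000005544534244554635334644534242424646333544000000000000000000000000000000000000000000000000000000000000000000000000000000004453334253444655423544334646424635425544000000000000000000000000000000000000000000000000000000000000000000000000000000000000000000000000000000000000000000000000000000000000000000000000000000000000000000000000000000000000000000000000000000004242464246534455354442334435554653463344000000000000000000000000000000000000000000000000000000000000000000000000000000004646464255424435443342533344354642555344000000000000000000000000000000000000000000000000000000000000000000000000000000000000000000000000000000000000000000000000000000000000000000000000000000000000000000000000000000000000000000000000000000000000000000000000000000000000000000000000000000000000000000000000000000000000000000000000000000000000000000000000000000000000000000000000000000000000000000000000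 >>> (32 * (((a.val * 5 + b.val) * 5 + c.val) * 5 + e.val)) % 4294967296)

/-- Distance to the identity in `SL₂(5)`. -/
def dist5 (a b c e : ZMod 5) : ℕ :=
  0x300000300000400000140000003000000205000000204000000010040000000500600300000000500040003000400030000300006000040000500002000040000000500300000003002000005000003200000400000400030005000000003000600040000004030000002040000005000060000100005000040000400000303000000100000060400040000000050003000400020000020000040000053000005000000040020040000000600200004000040000300004000020000040005000200000000300040050000000300300300000004040000005000000404000000200000340000040000030000040000300005000050000300000000000000000000046534000000000043434000000000000000000000000043434000000000023445000000000000000000000000000000000000000000000 >>> (4 * (((a.val * 5 + b.val) * 5 + c.val) * 5 + e.val)) % 16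

theorem tab3_ok : ∀ a b c e : ZMod 3, a * e - b * c = 1 →
    (∀ k : Fin 3, (tab3 a b c e).mul (tab3 (![0, 0, 2] k) (![1, 2, 1] k) (![2, 1, 1] k)
        (![2, 0, 1] k)) =
      (tab3 (a * ![0, 0, 2] k + b * ![2, 1, 1] k) (a * ![1, 2, 1] k + b * ![2, 0, 1] k)
        (c * ![0, 0, 2] k + e * ![2, 1, 1] k) (c * ![1, 2, 1] k + e * ![2, 0, 1] k)).four) ∧
    ((a = 1 ∧ b = 0 ∧ c = 0 ∧ e = 1) ∨ (((tab3 a b c e).a - ⟨4, 0⟩).norm ∣ 576 ∧
      ∃ k : Fin 3, dist3 (a * ![0, 0, 2] k + b * ![2, 1, 1] k) (a * ![1, 2, 1] k + b * ![2, 0, 1] k)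
        (c * ![0, 0, 2] k + e * ![2, 1, 1] k) (c * ![1, 2, 1] k + e * ![2, 0, 1] k) <
          dist3 a b c e)) := by
  decide +kernel

theorem tab5_ok : ∀ a b c e : ZMod 5, a * e - b * c = 1 →
    (∀ k : Fin 4, (tab5 a b c e).mul (tab5 (![0, 1, 2, 2] k) (![1, 3, 0, 1] k) (![4, 1, 2, 3] k)
        (![4, 4, 3, 2] k)) =
      (tab5 (a * ![0, 1, 2, 2] k + b * ![4, 1, 2, 3] k) (a * ![1, 3, 0, 1] k + b * ![4, 4, 3, 2] k)
        (c * ![0, 1, 2, 2] k + e * ![4, 1, 2, 3] k)
        (c * ![1, 3, 0, 1] k + e * ![4, 4, 3, 2] k)).four) ∧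
    ((a = 1 ∧ b = 0 ∧ c = 0 ∧ e = 1) ∨ (((tab5 a b c e).a - ⟨4, 0⟩).norm ∣ 2880 ∧
      ∃ k : Fin 4, dist5 (a * ![0, 1, 2, 2] k + b * ![4, 1, 2, 3] k)
        (a * ![1, 3, 0, 1] k + b * ![4, 4, 3, 2] k) (c * ![0, 1, 2, 2] k + e * ![4, 1, 2, 3] k)
        (c * ![1, 3, 0, 1] k + e * ![4, 4, 3, 2] k) < dist5 a b c e)) := by
  decide +kernel

variable [Nontrivial R] {ρ : G →* R} {a I J : G}

omit [Nontrivial R] in
theorem Frame.four_a (hρ : FPF ρ) (f : Frame ρ a I J) :
    (4 : ℤ) • ρ a = qq (-2 : Cz (ρ I) (ρ J)) 2 2 2 := by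
  have := hρ.th_eq f.ha
  rw [f.th_a] at this
  have e : (4 : ℤ) • ρ a = (ρ a + ρ a + 1) + (ρ a + ρ a + 1) - 1 - 1 := by abel
  rw [e, ← this, qq_one (i := ρ I) (j := ρ J), qq_add, qq_sub, qq_sub]
  congr 1 <;> norm_num

omit [Nontrivial R] in
theorem four_qq (a b c d : Cz i j) : (4 : ℤ) • qq a b c d = qq (4 * a) (4 * b) (4 * c) (4 * d) := by
  have : ∀ x : Cz i j, 4 * x = x + x + x + x := fun x => by noncomm_ring
  simp only [this, ← qq_add]
  abel

/-- The frame group is a copy of `SL₂(3)`. -/
theorem Frame.exists_sl2_three (hρ : FPF ρ) (f : Frame ρ a I J) :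
    ∃ φ : SpecialLinearGroup (Fin 2) (ZMod 3) →* G, Function.Injective φ ∧
      φ.range = Subgroup.closure {a, I, J} := by
  have h2 := f.qs.cz_two
  have h3 := QS.isUnit_cz (i := ρ I) (j := ρ J) 3 (hρ.isUnit_three f.ha)
  obtain ⟨φ, h1, -, h4⟩ := exists_sl2_hom hρ.injective f.qs (zsqHom 0 0 (by simp)) tab3 dist3
    ![0, 0, 2] ![1, 2, 1] ![2, 1, 1] ![2, 0, 1] (by decide) ![a, I, J] 576
    (by rw [show ((576 : ℤ) : Cz (ρ I) (ρ J)) = 2 ^ 6 * 3 ^ 2 by norm_num]
        exact (h2.pow 6).mul (h3.pow 2))
    (by decide +kernel) (by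
      have e0 : tab3 0 1 2 2 = ⟨⟨-2, 0⟩, ⟨2, 0⟩, ⟨2, 0⟩, ⟨2, 0⟩⟩ := by decide +kernel
      have e1 : tab3 0 2 1 0 = ⟨⟨0, 0⟩, ⟨4, 0⟩, ⟨0, 0⟩, ⟨0, 0⟩⟩ := by decide +kernel
      have e2 : tab3 2 1 1 1 = ⟨⟨0, 0⟩, ⟨0, 0⟩, ⟨4, 0⟩, ⟨0, 0⟩⟩ := by decide +kernel
      intro k
      fin_cases k
      · change (tab3 0 1 2 2).ev _ = (4 : ℤ) • ρ a
        rw [e0, f.four_a hρ]; simp [Q4.ev, zsqHom_mk]
      · change (tab3 0 2 1 0).ev _ = (4 : ℤ) • ρ I
        rw [e1, congrArg ((4 : ℤ) • ·) (qq_i (i := ρ I) (j := ρ J)), four_qq]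
        simp [Q4.ev, zsqHom_mk]
      · change (tab3 2 1 1 1).ev _ = (4 : ℤ) • ρ J
        rw [e2, congrArg ((4 : ℤ) • ·) (qq_j (i := ρ I) (j := ρ J)), four_qq]
        simp [Q4.ev, zsqHom_mk]) tab3_ok
  exact ⟨φ, h1, by rw [h4]; congr 1; ext; simp [or_comm, or_left_comm]⟩

/-- The frame group together with an element in normal position is a copy of `SL₂(5)`. -/
theorem Frame.exists_sl2_five (hρ : FPF ρ) (f : Frame ρ a I J)
    (h5 : IsUnit (5 : Cz (ρ I) (ρ J))) {c : G} (hc : orderOf c = 3) {s : Cz (ρ I) (ρ J)}
    (hs : NF ρ I J c s) :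
    ∃ φ : SpecialLinearGroup (Fin 2) (ZMod 5) →* G, Function.Injective φ ∧
      φ.range = Subgroup.closure {a, I, J, c} ∧ ∃ x ∈ φ.range, c = x * a * x⁻¹ := by
  have h2 := f.qs.cz_two
  have h3 := QS.isUnit_cz (i := ρ I) (j := ρ J) 3 (hρ.isUnit_three f.ha)
  obtain ⟨hs1, hs2⟩ := hs
  have hg : ∀ k : Fin 4, (![0, 1, 2, 2] k : ZMod 5) * ![4, 4, 3, 2] k -
    ![1, 3, 0, 1] k * ![4, 1, 2, 3] k = 1 := by decide
  obtain ⟨φ, h1, h6, h4⟩ := exists_sl2_hom hρ.injective f.qs
    (zsqHom 5 s (by rw [hs1]; simp)) tab5 dist5
    ![0, 1, 2, 2] ![1, 3, 0, 1] ![4, 1, 2, 3] ![4, 4, 3, 2] hg ![a, I, J, c] 2880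
    (by rw [show ((2880 : ℤ) : Cz (ρ I) (ρ J)) = 2 ^ 6 * 3 ^ 2 * 5 by norm_num]
        exact ((h2.pow 6).mul (h3.pow 2)).mul h5)
    (by decide +kernel) (by
      have e0 : tab5 0 1 4 4 = ⟨⟨-2, 0⟩, ⟨2, 0⟩, ⟨2, 0⟩, ⟨2, 0⟩⟩ := by decide +kernel
      have e1 : tab5 1 3 1 4 = ⟨⟨0, 0⟩, ⟨4, 0⟩, ⟨0, 0⟩, ⟨0, 0⟩⟩ := by decide +kernel
      have e2 : tab5 2 0 2 3 = ⟨⟨0, 0⟩, ⟨0, 0⟩, ⟨4, 0⟩, ⟨0, 0⟩⟩ := by decide +kernel
      have e3 : tab5 2 1 3 2 = ⟨⟨-2, 0⟩, ⟨0, 0⟩, ⟨1, 1⟩, ⟨1, -1⟩⟩ := by decide +kernel
      intro k
      fin_cases k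
      · change (tab5 0 1 4 4).ev _ = (4 : ℤ) • ρ a
        rw [e0, f.four_a hρ]; simp [Q4.ev, zsqHom_mk]
      · change (tab5 1 3 1 4).ev _ = (4 : ℤ) • ρ I
        rw [e1, congrArg ((4 : ℤ) • ·) (qq_i (i := ρ I) (j := ρ J)), four_qq]
        simp [Q4.ev, zsqHom_mk]
      · change (tab5 2 0 2 3).ev _ = (4 : ℤ) • ρ J
        rw [e2, congrArg ((4 : ℤ) • ·) (qq_j (i := ρ I) (j := ρ J)), four_qq]
        simp [Q4.ev, zsqHom_mk]
      · change (tab5 2 1 3 2).ev _ = (4 : ℤ) • ρ c
        have e : (4 : ℤ) • ρ c = (ρ c + ρ c + 1) + (ρ c + ρ c + 1) - 1 - 1 := by abel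
        rw [e3, e, ← hρ.th_eq hc, hs2, qq_one (i := ρ I) (j := ρ J), qq_sub, qq_sub]
        simp only [Q4.ev, zsqHom_mk]
        congr 1 <;> norm_num [sub_eq_add_neg]) tab5_ok
  refine ⟨φ, h1, by rw [h4]; congr 1; ext; simp [or_comm, or_left_comm], 
    φ (sl2mk 0 1 4 2 (by decide)), ⟨_, rfl⟩, ?_⟩
  have e0 : φ _ = a := h6 0
  have e3 : φ _ = c := h6 3
  rw [eq_mul_inv_iff_mul_eq, ← e0, ← e3, ← map_mul, ← map_mul]
  congr 1
  ext i j
  rw [sl2_mul_apply, sl2_mul_apply]
  revert i j
  simp only [sl2mk]
  decide

end Cfsg.Lib.Perm
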