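import Cfsg.Agent.Perm.FieldOfEnd
import Cfsg.Agent.Perm.FCTri

/-!
Linear groups with an irreducible abelian normal subgroup are one-dimensional semilinear groups.
-/

set_option autoImplicit false

namespace Cfsg.Lib.Perm

open Subgroup Cfsg.Lib.Solv

variable {G : Type*} [Group G]

/-- The action `ρ` is by semilinear maps of a finite field. -/
def IsSemilin {V : Type*} [AddCommGroup V] (ρ : G → V → V) : Prop :=
  ∃ (F : Type) (_ : Field F) (_ : Fintype F) (e : V ≃+ F),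
    ∀ g : G, ∃ (a : F) (σ : F ≃+* F), ∀ v : V, e (ρ g v) = a * σ (e v)

theorem exists_semilinear {p : ℕ} [Fact p.Prime] {V : Type*} [AddCommGroup V] [Module (ZMod p) V]
    [Finite V] [Nontrivial V] (ρ : G →* Module.End (ZMod p) V) (A : Subgroup G) [hA : A.Normal]
    [IsMulCommutative A]
    (hirr : ∀ W : Submodule (ZMod p) V, (∀ a ∈ A, ∀ v ∈ W, ρ a v ∈ W) → W = ⊥ ∨ W = ⊤) :
    ∃ (F : Type) (_ : Field F) (_ : Fintype F) (e : V ≃+ F),
      (∀ a ∈ A, ∃ c : F, ∀ v : V, e (ρ a v) = c * e v) ∧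
      Subring.closure {c : F | ∃ a ∈ A, ∀ v : V, e (ρ a v) = c * e v} = ⊤ ∧
      ∀ g : G, ∃ (a : F) (σ : F ≃+* F), ∀ v : V, e (ρ g v) = a * σ (e v) := by
  obtain ⟨v, hv⟩ := exists_ne (0 : V)
  obtain ⟨K, _, _, ε, -, h1, h2⟩ := exists_field_of_irreducible
    {f : AddMonoid.End V | ∃ a ∈ A, f = (ρ a).toAddMonoidHom} (by
      rintro _ ⟨a, ha, rfl⟩ _ ⟨b, hb, rfl⟩
      ext x
      change (ρ a * ρ b) x = (ρ b * ρ a) x
      rw [← map_mul, ← map_mul, setLike_mul_comm ha hb]) (fun W hW => by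
      rcases hirr (AddSubgroup.toZModSubmodule p W) fun a ha => hW _ ⟨a, ha, rfl⟩ with h | h
      · exact Or.inl (by simpa using h)
      · exact Or.inr (by simpa using h)) hv
  have h3 : ∀ a ∈ A, ∃ c : K, ∀ v : V, ε.symm (ρ a v) = c * ε.symm v := fun a ha => by
    obtain ⟨c, hc⟩ := h1 _ ⟨a, ha, rfl⟩
    exact ⟨c, fun v => by rw [ε.symm_apply_eq, ← hc, ε.apply_symm_apply]; rfl⟩
  have h4 : Subring.closure {c : K | ∃ a ∈ A, ∀ v : V, ε.symm (ρ a v) = c * ε.symm v} = ⊤ := by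
    rw [eq_top_iff, ← h2]
    refine Subring.closure_mono ?_
    rintro c ⟨_, ⟨a, ha, rfl⟩, hc⟩
    exact ⟨a, ha, fun v => by rw [ε.symm_apply_eq, ← hc, ε.apply_symm_apply]; rfl⟩
  refine ⟨K, inferInstance, inferInstance, ε.symm, h3, h4, fun g => ?_⟩
  let γ : K →+ K := (ε.symm.toAddMonoidHom.comp (ρ g).toAddMonoidHom).comp ε.toAddMonoidHom
  have hγ : ∀ x, γ x = ε.symm (ρ g (ε x)) := fun _ => rfl
  obtain ⟨θ, hθ⟩ := exists_ringHom_of_normalizes h4 γ (fun e => by
      rw [hγ, AddEquiv.map_eq_zero_iff] at e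
      have := congrArg (ρ g⁻¹) e
      rw [← Module.End.mul_apply, ← map_mul, inv_mul_cancel, map_one, map_zero,
        Module.End.one_apply, AddEquiv.map_eq_zero_iff] at this
      exact one_ne_zero this) (by
      rintro c ⟨a, ha, hc⟩
      obtain ⟨c', hc'⟩ := h3 _ (hA.conj_mem a ha g)
      refine ⟨c', fun x => ?_⟩
      have := hc (ε x)
      rw [ε.symm_apply_apply] at this
      rw [hγ, hγ, ← hc', ← this, ε.apply_symm_apply]
      simp only [← Module.End.mul_apply, ← map_mul, inv_mul_cancel_right])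
  refine ⟨γ 1, RingEquiv.ofBijective θ (Finite.injective_iff_bijective.mp θ.injective), fun v => ?_⟩
  have := hθ (ε.symm v)
  rwa [hγ, ε.apply_symm_apply] at this

theorem nonempty_equiv_SL23 [Finite G] {Q : Subgroup G} (e : Q ≃* QuaternionGroup 2) {g : G}
    (hg : g ∈ normalizer (Q : Set G)) (ho : (orderOf g).Coprime 2)
    (hc : g ∉ centralizer (Q : Set G)) (hG : Nat.card G = 24) : Nonempty (G ≃* SL23) := by
  obtain ⟨H, K, hK, ⟨f⟩⟩ := exists_section_sl23 e hg ho hc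
  have h1 := (K.subgroupOf H).card_mul_index
  rw [index, Nat.card_congr f.toEquiv, card_SL23] at h1
  have h2 : Nat.card H ≤ 24 := hG ▸ H.card_le_card_group
  have h3 : 0 < Nat.card (K.subgroupOf H) := Nat.card_pos
  have h4 : K.subgroupOf H = ⊥ := card_eq_one.mp (by omega)
  have h5 : H = ⊤ := eq_top_of_card_eq _ (by omega)
  exact ⟨((topEquiv.symm.trans (MulEquiv.subgroupCongr h5.symm)).trans
    (QuotientGroup.quotientBot.symm.trans (QuotientGroup.quotientMulEquivOfEq h4.symm))).trans f⟩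

theorem nonempty_sup_equiv_SL23 [Finite G] {Q : Subgroup G} (e : Q ≃* QuaternionGroup 2) {g : G}
    (hg : g ∈ normalizer (Q : Set G)) (ho : orderOf g = 3)
    (hc : g ∉ centralizer (Q : Set G)) : Nonempty ((Q ⊔ zpowers g : Subgroup G) ≃* SL23) := by
  refine nonempty_equiv_SL23 (Q := Q.subgroupOf _) (g := ⟨g, mem_sup_right (mem_zpowers g)⟩)
    ((subgroupOfEquivOfLe le_sup_left).trans e) ?_ (by rw [orderOf_mk, ho]; norm_num) ?_ ?_
  · rw [← subgroupOf_normalizer_eq le_sup_left]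
    exact hg
  · exact fun h => hc fun x hx => congrArg Subtype.val (h ⟨x, mem_sup_left hx⟩ hx)
  · have h1 := card_sup_mul_card_inf_of_le_normalizer (zpowers_le.mpr hg)
    rw [disjoint_iff.mp (disjoint_of_coprime_natCard (by
      rw [Nat.card_zpowers, ho, Trans.q8_card e]; norm_num)), card_bot, Nat.card_zpowers, ho,
      Trans.q8_card e] at h1
    omega

end Cfsg.Lib.Perm
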