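import Cfsg.Agent.Perm.HalfP2
import Cfsg.Agent.Perm.NearExc
import Cfsg.Agent.Perm.Semilin

/-!
Huppert's theorem on solvable linear groups that are transitive on the non-zero vectors.
-/

set_option autoImplicit false

namespace Cfsg.Lib.Perm

open Subgroup Cfsg.Lib.Solv
open scoped commutatorElement

section
variable {k : Type} {V G : Type*} [Field k] [AddCommGroup V] [Module k V] [Group G]

/-- Transitive on the non-zero vectors. -/
def VTrans (ρ : G →* (V ≃ₗ[k] V)) : Prop := ∀ v w : V, v ≠ 0 → w ≠ 0 → ∃ g : G, ρ g v = w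

theorem HalfTr.index_dvd [Finite V] {ρ : G →* (V ≃ₗ[k] V)} (h : HalfTr ρ) {U : Submodule k V}
    (hU : ∀ g, ∀ u ∈ U, ρ g u ∈ U) {v : V} (hv : v ≠ 0) :
    (vStab ρ v).index ∣ Nat.card U - 1 := by
  let := MulAction.compHom V ρ
  let S : SubMulAction G V := ⟨(U : Set V) \ {0}, fun g y hy =>
    ⟨hU g y hy.1, fun e => hy.2 ((ρ g).map_eq_zero_iff.1 e)⟩⟩
  have h1 : (vStab ρ v).index ∣ Nat.card S := dvd_card_of_card_stabilizer (L := G) fun y => by
    rw [← h y v y.2.2 hv, SubMulAction.stabilizer_of_subMul]; rfl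
  rwa [show Nat.card S = Nat.card U - 1 from
    Nat.eq_sub_of_add_eq (Set.ncard_sdiff_singleton_add_one U.zero_mem)] at h1

namespace VTrans

variable {ρ : G →* (V ≃ₗ[k] V)}

theorem halfTr (h : VTrans ρ) (N : Subgroup G) [hN : N.Normal] : HalfTr (ρ.comp N.subtype) := by
  intro v w hv hw
  obtain ⟨g, rfl⟩ := h v w hv hw
  rw [← card_orb, ← card_orb]
  refine Nat.card_congr ((ρ g).toEquiv.subtypeEquiv fun u => ⟨?_, ?_⟩)
  · rintro ⟨n, rfl⟩
    exact ⟨⟨_, hN.conj_mem n n.2 g⟩, by simp⟩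
  · rintro ⟨n, hn⟩
    refine ⟨⟨_, hN.conj_mem' n n.2 g⟩, (ρ g).injective ?_⟩
    simpa [rho_apply_inv] using hn

theorem index_eq [Finite V] (h : VTrans ρ) {v : V} (hv : v ≠ 0) :
    (vStab ρ v).index = Nat.card V - 1 := by
  rw [← card_orb, show {u : V | ∃ g : G, ρ g v = u} = Set.univ \ {0} from ?_,
    ← Nat.card_univ (α := V)]
  · exact Nat.eq_sub_of_add_eq
      (Set.ncard_sdiff_singleton_add_one (Set.mem_univ (0 : V)) Set.finite_univ)
  · ext u
    refine ⟨?_, fun hu => h v u hv hu.2⟩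
    rintro ⟨g, rfl⟩
    exact ⟨trivial, by simpa⟩

theorem semiregular [Finite V] [Finite G] (h : VTrans ρ) (hρ : Function.Injective ρ)
    (A : Subgroup G) [A.Normal] [IsMulCommutative A] :
    ∀ a ∈ A, ∀ v, v ≠ 0 → ρ a v = v → a = 1 := by
  intro a ha v hv e
  by_contra h1
  have hρ' : Function.Injective (ρ.comp A.subtype) := hρ.comp A.subtype_injective
  have h2 : (⟨a, ha⟩ : A) ≠ 1 := fun e => h1 (congrArg Subtype.val e)
  exact hv (((h.halfTr A).irred hρ' hv fun h0 => h2 (h0.le e)).eq_zero_of_central hρ'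
    (mem_center_iff.2 fun g => mul_comm' _ _) h2 e)

end VTrans

end

variable {q : ℕ} [hq : Fact q.Prime] {V G : Type*} [AddCommGroup V] [Module (ZMod q) V] [Finite V]
  [Nontrivial V] [Group G] [Finite G] {ρ : G →* (V ≃ₗ[ZMod q] V)}

namespace VTrans

theorem lt_centralizer (h : VTrans ρ) (hρ : Function.Injective ρ) (A : Subgroup G)
    [hAn : A.Normal] [IsMulCommutative A] {W₀ : Submodule (ZMod q) V}
    (hW₀ : W₀ ≠ ⊥ ∧ W₀ ≠ ⊤ ∧ ∀ a ∈ A, ∀ v ∈ W₀, ρ a v ∈ W₀) : A < centralizer (A : Set G) := by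
  refine lt_of_le_of_ne (le_centralizer A) fun hAC => ?_
  have hs := h.semiregular hρ A
  have hc := isCyclic_of_semiregular hs
  obtain ⟨W, ⟨h0, h1, hW⟩, hmin⟩ := (wellFounded_lt (α := Submodule (ZMod q) V)).has_min
    {W | W ≠ ⊥ ∧ W ≠ ⊤ ∧ ∀ a ∈ A, ∀ v ∈ W, ρ a v ∈ W} ⟨W₀, hW₀⟩
  obtain ⟨w, hw, hw0⟩ := W.ne_bot_iff.mp h0
  have hdvd := (h.halfTr A).index_dvd (U := W) (fun g => hW g g.2) hw0
  rw [show vStab (ρ.comp A.subtype) w = ⊥ from eq_bot_iff.2 fun g hg =>
    Subtype.ext (hs g g.2 w hw0 hg), index_bot] at hdvd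
  obtain ⟨v, hv⟩ : ∃ v, v ∉ W := by
    by_contra! hcon
    exact h1 (eq_top_iff.mpr fun v _ => hcon v)
  obtain ⟨g, hg⟩ := h w v hw0 fun e => hv (e ▸ W.zero_mem)
  have hW1 : W ⊓ W.comap (ρ g : V →ₗ[ZMod q] V) = ⊥ := by
    by_contra hne
    refine hmin _ ⟨hne, fun e => h1 (top_le_iff.mp (e ▸ inf_le_left)),
      fun a ha x hx => ⟨hW a ha x hx.1, ?_⟩⟩ (lt_of_le_of_ne inf_le_left fun e => ?_)
    · simpa [rho_inv_apply] using hW _ (hAn.conj_mem a ha g) _ hx.2
    · have : w ∈ W ⊓ W.comap (ρ g : V →ₗ[ZMod q] V) := e.symm ▸ hw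
      exact hv (hg ▸ this.2)
  have h2 : Nat.card W * Nat.card W ≤ Nat.card V := by
    rw [← Nat.card_prod]
    refine Nat.card_le_card_of_injective (fun x : W × W => (x.1 : V) + ρ g x.2) fun x y e => ?_
    dsimp only at e
    have h3 : (x.2 : V) - y.2 ∈ W ⊓ W.comap (ρ g : V →ₗ[ZMod q] V) := ⟨W.sub_mem x.2.2 y.2.2, by
      have : ρ g (x.2 - y.2) = y.1 - x.1 := by
        rw [map_sub]; linear_combination (norm := abel) e
      change ρ g (x.2 - y.2) ∈ W
      rw [this]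
      exact W.sub_mem y.1.2 x.1.2⟩
    rw [hW1, Submodule.mem_bot, sub_eq_zero] at h3
    simp only [h3, add_left_inj] at e
    exact Prod.ext (Subtype.ext e) (Subtype.ext h3)
  have h3 : A.index ≤ Nat.card A := by
    have := Trans.relIndex_centralizer_dvd A
    rw [normalizer_eq_top, relIndex_top_right, ← hAC, IsCyclic.card_mulAut] at this
    exact (Nat.le_of_dvd (Nat.totient_pos.mpr Nat.card_pos) this).trans (Nat.totient_le _)
  have h4 : 1 < Nat.card W := by
    have := Submodule.nontrivial_iff_ne_bot.mpr h0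
    exact Finite.one_lt_card
  have h5 := Nat.le_of_dvd (by omega) hdvd
  have h6 := Nat.le_of_dvd Nat.card_pos (vStab ρ w).index_dvd_card
  rw [h.index_eq hw0, ← A.card_mul_index] at h6
  obtain ⟨k, hk⟩ : ∃ k, Nat.card W = k + 1 := ⟨Nat.card W - 1, by omega⟩
  rw [hk] at h2 h4 h5
  have h7 : Nat.card A * A.index ≤ k * k := Nat.mul_le_mul h5 (h3.trans h5)
  have h8 : (k + 1) * (k + 1) = k * k + 2 * k + 1 := by ring
  omega

theorem card_of_q8 (h : VTrans ρ) {N : Subgroup G} [N.Normal] (e : N ≃* QuaternionGroup 2)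
    (hs : ∀ v : V, v ≠ 0 → ∀ g : N, ρ g v = v → g = 1) :
    Nat.card V ∈ ({9, 25, 49, 121, 529, 81} : Set ℕ) := by
  have hF : FPF (subRep ρ N) := FPF.of_apply fun g v hv e => hs v hv g e
  obtain ⟨i, hi, j, hj, h1, -, h2, h3, h4⟩ := exists_quat_of_q8 e
  have h5 : (⟨i, hi⟩ : N) ^ 2 ≠ 1 := fun e => h2 (by
    rw [h4, show i ^ 2 = 1 from congrArg Subtype.val e, one_mul])
  have h6 := hF.eq_neg_one h5 (Subtype.ext (by simpa [← pow_mul] using h1))
  obtain ⟨x, y, hxy⟩ := ZMod.sq_add_sq q (-1)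
  obtain ⟨U, hU, hT⟩ := exists_half (I := subRep ρ N ⟨i, hi⟩) (J := subRep ρ N ⟨j, hj⟩)
    (by rw [← map_mul, ← pow_two, h6])
    (by rw [← map_mul, ← pow_two, ← h6]; exact congrArg _ (Subtype.ext h3.symm))
    (by rw [← map_mul, ← map_mul, ← neg_one_mul, ← h6, ← map_mul]; exact congrArg _ (Subtype.ext h4))
    (by simpa using hF.natCast_ne_zero Nat.prime_two (by rw [Trans.q8_card e]; norm_num)) hxy
  have hC : ∀ g : centralizer (N : Set G), ∀ u ∈ U, ρ g u ∈ U := fun g =>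
    hT (ρ g : V →ₗ[ZMod q] V)
      (LinearMap.ext fun v => (rho_mul ρ g i v).symm.trans (g.2 i hi ▸ rho_mul ρ i g v))
      (LinearMap.ext fun v => (rho_mul ρ g j v).symm.trans (g.2 j hj ▸ rho_mul ρ j g v))
  obtain ⟨v, hv⟩ := exists_ne (0 : V)
  have h7 : (vStab ρ v).relIndex (centralizer (N : Set G)) ∣ Nat.card U - 1 :=
    (h.halfTr _).index_dvd hC hv
  have h8 : 1 < Nat.card U := by
    have := Finite.one_lt_card (α := V)
    rw [hU] at this
    exact (Nat.one_lt_pow_iff (by norm_num)).mp this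
  have h9 := Trans.relIndex_centralizer_dvd N
  rw [normalizer_eq_top, relIndex_top_right] at h9
  have h10 := (index_dvd_of_le (inf_le_left : vStab ρ v ⊓ centralizer (N : Set G) ≤ _))
  rw [← relIndex_mul_index (inf_le_right : _ ⊓ centralizer (N : Set G) ≤ _), inf_relIndex_right,
    h.index_eq hv, hU, show Nat.card U ^ 2 - 1 = (Nat.card U - 1) * (Nat.card U + 1) by
      rw [mul_comm, ← Nat.sq_sub_sq]] at h10
  have h11 := Nat.dvd_of_mul_dvd_mul_left (by omega)
    (h10.trans (Nat.mul_dvd_mul h7 (h9.trans (Trans.q8_card_mulAut_dvd e))))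
  have h12 := hF.card_dvd_card_sub_one ⊤ ⊤ fun _ _ _ _ => trivial
  rw [card_top, Trans.q8_card e, Nat.card_congr Submodule.topEquiv.toEquiv, hU] at h12
  rw [hU]
  have := Nat.le_of_dvd (by norm_num) h11
  generalize Nat.card U = n at *
  have : n ≤ 23 := by omega
  interval_cases n <;> simp_all

theorem card_of_class_two (h : VTrans ρ) (hρ : Function.Injective ρ) {N : Subgroup G} [N.Normal]
    {p : ℕ} [Fact p.Prime] (hN : IsPGroup p N) (hna : ¬ IsMulCommutative N)
    (hcen : ∀ x y z : N, ⁅x, y⁆ * z = z * ⁅x, y⁆) :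
    Nat.card V ∈ ({9, 25, 49, 121, 529, 81} : Set ℕ) := by
  have hinv : ∀ r s : N, s * r * s⁻¹ = r⁻¹ → r ^ 4 = 1 := by
    intro r s hsr
    have h1 : ⁅r, s⁆ = r ^ 2 := by
      rw [commutatorElement_def, mul_assoc, mul_assoc, ← mul_assoc s, ← conj_inv, hsr, inv_inv,
        pow_two]
    have h2 := hcen r s s
    rw [h1] at h2
    have : s * r ^ 2 * s⁻¹ = (r ^ 2)⁻¹ := by rw [← conj_pow, hsr, inv_pow]
    rwa [← h2, mul_inv_cancel_right, eq_inv_iff_mul_eq_one, ← pow_add] at this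
  rcases (h.halfTr N).pgroup hN (hρ.comp N.subtype_injective) with
    ⟨-, hs⟩ | ⟨h1, m, h2, h3⟩ | ⟨h1, -, ε, hε⟩ | ⟨h1, -⟩
  · have hF : IsFC N := IsFC.of_fpf (ρ := subRep ρ N) (FPF.of_apply fun g v hv e => hs v hv g e)
    have hnc : ¬ IsCyclic (⊤ : Subgroup N) := fun hc => by
      have := topEquiv.isCyclic.1 hc
      exact hna inferInstance
    obtain rfl : p = 2 := by_contra fun hp => hnc (hF.isCyclic_of_odd_prime hp (hN.to_subgroup ⊤))
    obtain ⟨n, ⟨e⟩⟩ := (hF.isCyclic_or_quaternion (hN.to_subgroup ⊤)).resolve_left hnc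
    obtain ⟨e⟩ := quaternion_eq_q8_of_class_two (topEquiv.symm.trans e) hcen
    exact h.card_of_q8 e hs
  · have hm : m ≤ 2 := by
      rcases h3 with ⟨⟨e⟩⟩ | ⟨⟨n, hn, hc, x, y, hx, -, hxy⟩, h3⟩
      · obtain ⟨r, s, ho, -, hsr, -⟩ := PG.exists_gens_of_mulEquiv_dihedralGroup e
        have := orderOf_dvd_of_pow_eq_one (hinv r s hsr)
        rwa [ho, show 4 = 2 ^ 2 from rfl, Nat.pow_dvd_pow_iff_le_right one_lt_two] at this
      · have h4 := hinv (x ^ 2) y (by
          rw [← conj_pow, hxy, eq_inv_iff_mul_eq_one, ← pow_mul, ← pow_add,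
            ← orderOf_dvd_iff_pow_eq_one, hx]
          obtain ⟨n, rfl⟩ : ∃ k, n = k + 1 := ⟨n - 1, by omega⟩
          have := Nat.one_le_two_pow (n := n)
          rw [pow_succ, Nat.add_sub_cancel]
          exact ⟨1, by omega⟩)
        rw [← pow_mul, ← orderOf_dvd_iff_pow_eq_one, hx, show 2 * 4 = 2 ^ 3 from rfl,
          Nat.pow_dvd_pow_iff_le_right one_lt_two] at h4
        have := Nat.pow_right_injective le_rfl (hc.symm.trans h3)
        omega
    have := hq.out.two_le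
    interval_cases m
    · omega
    · omega
    · rw [h1, h2]; simp
  · have hq4 : ∀ a : ZMod q, a ≠ 0 → a ^ 4 = 1 := fun a ha => by
      let f : (Fin 2 → ZMod q) ≃ₗ[ZMod q] (Fin 2 → ZMod q) := LinearEquiv.piCongrRight fun i =>
        LinearEquiv.smulOfNeZero (ZMod q) (ZMod q) (![a, a⁻¹] i) (by fin_cases i <;> simpa)
      have hf : ∀ v, f v = ![a * v 0, 1 * a⁻¹ * v 1] := fun v => by
        ext i; fin_cases i <;> simp [f]
      obtain ⟨r, hr⟩ := (hε f).2 ⟨a, 1, ha, Or.inl rfl, Or.inl hf⟩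
      have hf' : ∀ v, LinearEquiv.funCongrLeft (ZMod q) (ZMod q) (Equiv.swap (0 : Fin 2) 1) v =
          ![1 * 1⁻¹ * v 1, 1 * v 0] := fun v => by
        ext i; fin_cases i <;> simp
      obtain ⟨s, hs⟩ := (hε _).2 ⟨1, 1, one_ne_zero, Or.inl rfl, Or.inr hf'⟩
      have e1 : ∀ v, ρ r (ε.symm v) = ε.symm ![a * v 0, a⁻¹ * v 1] := fun v => by
        simpa [hr, LinearEquiv.eq_symm_apply] using hf v
      have e2 : ∀ v, ρ s (ε.symm v) = ε.symm ![v 1, v 0] := fun v => by
        simpa [hs, LinearEquiv.eq_symm_apply] using hf' v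
      have e3 := hinv r s (by
        rw [mul_inv_eq_iff_eq_mul, eq_inv_mul_iff_mul_eq]
        refine Subtype.ext (eq_of_rho hρ fun v => ?_)
        obtain ⟨v, rfl⟩ := ε.symm.surjective v
        simp [e1, e2, ha])
      have e4 := rho_one ρ (ε.symm ![1, 0])
      rw [← show ((r ^ 4 : N) : G) = 1 from congrArg Subtype.val e3] at e4
      simpa [pow_succ, e1, mul_assoc] using e4
    obtain ⟨g, hg⟩ := IsCyclic.exists_ofOrder_eq_natCard (α := (ZMod q)ˣ)
    have h2 := orderOf_dvd_of_pow_eq_one (show g ^ 4 = 1 from Units.ext (hq4 g g.ne_zero))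
    rw [hg, Nat.card_eq_fintype_card, ZMod.card_units] at h2
    have h3 := Nat.le_of_dvd four_pos h2
    have h4 := hq.out.two_le
    have h5 : q ≤ 5 := by omega
    have h6 : q ≠ 2 := by
      rintro rfl
      refine hna ⟨⟨fun x y => Subtype.ext (eq_of_rho hρ fun v => ?_)⟩⟩
      have key : ∀ x : N, (∀ v, ρ x (ε.symm v) = ε.symm v) ∨
          ∀ v, ρ x (ε.symm v) = ε.symm ![v 1, v 0] := fun x => by
        obtain ⟨a, s, ha, hs, hf⟩ := (hε _).1 ⟨x, rfl⟩
        obtain rfl : a = 1 := by fin_cases a; exacts [(ha rfl).elim, rfl]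
        obtain rfl : s = 1 := hs.elim id id
        refine hf.imp (fun h v => ?_) fun h v => ?_
        · rw [LinearEquiv.eq_symm_apply]
          exact (h v).trans (by ext i; fin_cases i <;> simp)
        · simpa [LinearEquiv.eq_symm_apply] using h v
      obtain ⟨v, rfl⟩ := ε.symm.surjective v
      rcases key x with hx | hx <;> rcases key y with hy | hy <;> simp [hx, hy]
    rw [h1]
    interval_cases q <;> simp_all
  · simp [h1]

theorem huppert (h : VTrans ρ) (hρ : Function.Injective ρ) (hs : Group.IsSolvable G) :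
    (∃ (F : Type) (_ : Field F) (_ : Fintype F) (e : V ≃+ F),
      ∀ g : G, ∃ (a : F) (σ : F ≃+* F), ∀ v : V, e (ρ g v) = a * σ (e v)) ∨
    Nat.card V ∈ ({9, 25, 49, 121, 529, 81} : Set ℕ) := by
  obtain ⟨A, ⟨hAn, hAc⟩, hmax⟩ := (wellFounded_gt (α := Subgroup G)).has_min
    {A | A.Normal ∧ IsMulCommutative A} ⟨⊥, inferInstance, inferInstance⟩
  have hAmax : ∀ B : Subgroup G, B.Normal → IsMulCommutative B → A ≤ B → B = A :=
    fun B h1 h2 h3 => (eq_of_le_of_not_lt h3 (hmax B ⟨h1, h2⟩)).symm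
  by_cases hirr : ∀ W : Submodule (ZMod q) V, (∀ a ∈ A, ∀ v ∈ W, ρ a v ∈ W) → W = ⊥ ∨ W = ⊤
  · obtain ⟨F, _, _, e, -, -, h⟩ := exists_semilinear
      (LinearEquiv.automorphismGroup.toLinearMapMonoidHom.comp ρ) A hirr
    exact Or.inl ⟨F, inferInstance, inferInstance, e, h⟩
  right
  push Not at hirr
  obtain ⟨W, hW, h0, h1⟩ := hirr
  obtain ⟨N, ⟨hNn, hNle, hNna⟩, hmin⟩ := (wellFounded_lt (α := Subgroup G)).has_min
    {N | N.Normal ∧ N ≤ centralizer (A : Set G) ∧ ¬ IsMulCommutative N}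
    ⟨centralizer A, inferInstance, le_rfl, fun hc => (h.lt_centralizer hρ A ⟨h0, h1, hW⟩).ne'
      (hAmax _ inferInstance hc (le_centralizer A))⟩
  replace hmin : ∀ M : Subgroup G, M.Normal → M < N → IsMulCommutative M := fun M h1 h2 =>
    by_contra fun h3 => hmin M ⟨h1, h2.le.trans hNle, h3⟩ h2
  have hc := hmin ⁅N, N⁆ inferInstance (Group.IsSolvable.commutator_lt_of_ne_bot fun e =>
    hNna (e ▸ inferInstance))
  have h2 : ⁅N, N⁆ ⊔ A = A := by
    refine hAmax _ inferInstance ?_ le_sup_right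
    have h2 : ⁅N, N⁆ ≤ centralizer (A : Set G) := (commutator_le_self N).trans hNle
    rw [← le_centralizer_iff_isMulCommutative, sup_le_iff, le_centralizer_iff,
      le_centralizer_iff (H := A), sup_le_iff, sup_le_iff]
    exact ⟨⟨le_centralizer _, le_centralizer_iff.mp h2⟩, h2, le_centralizer _⟩
  have hcen : ∀ x y z : N, ⁅x, y⁆ * z = z * ⁅x, y⁆ := fun x y z => Subtype.ext
    ((le_sup_left.trans h2.le).trans (le_centralizer_iff.mp hNle)
      (commutator_mem_commutator x.2 y.2) z z.2).symm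
  have hnil : Group.IsNilpotent N := by
    refine Subgroup.isNilpotent_of_ker_le_center (Abelianization.of : N →* _) ?_
    rw [Abelianization.ker_of, _root_.commutator_def, commutator_le]
    intro x _ y _
    exact mem_center_iff.mpr fun z => (hcen x y z).symm
  by_contra hcon
  let e := Sylow.directProductOfNormal (G := N) fun P => inferInstance
  refine hNna ⟨⟨fun x y => ?_⟩⟩
  obtain ⟨x, rfl⟩ := e.surjective x
  obtain ⟨y, rfl⟩ := e.surjective y
  rw [← map_mul, ← map_mul]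
  congr 1
  ext p P : 2
  have := Fact.mk (Nat.prime_of_mem_primeFactors p.2)
  have := Sylow.characteristic_of_normal P inferInstance
  have := hmin ((P : Subgroup N).map N.subtype) inferInstance
    (lt_of_le_of_ne (map_subtype_le _) fun e => hcon
      (h.card_of_class_two hρ (e ▸ P.2.map N.subtype) hNna hcen))
  exact Subtype.ext (Subtype.ext (setLike_mul_comm (s := (P : Subgroup N).map N.subtype)
    ⟨_, (x p P).2, rfl⟩ ⟨_, (y p P).2, rfl⟩))

end VTrans

end Cfsg.Lib.Perm
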