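import Cfsg.Agent.Perm.Kill2
import Cfsg.Agent.Spor.MoFast

/-!
# Tests for orders of simple groups using several primes
-/

set_option autoImplicit false

open Cfsg Subgroup Cfsg.Lib.PrimeOne Cfsg.Lib.Spor.Mo Cfsg.Lib.Perm.Kill2

namespace Cfsg.Lib.Perm.Kill3

def subs : List (ℕ × ℕ) → List (List (ℕ × ℕ))
  | [] => [[]]
  | r :: R => (subs R).flatMap fun S => (List.range (r.2 + 1)).map fun i => (r.1, i) :: S

theorem exists_subs : ∀ {R : List (ℕ × ℕ)}, (∀ r ∈ R, r.1.Prime) → ∀ {d : ℕ}, d ∣ fval R →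
    ∃ S ∈ subs R, d = fval S
  | [], _, _, h => ⟨[], by simp [subs], Nat.eq_one_of_dvd_one h⟩
  | r :: R, hR, _, h => by
    obtain ⟨a, b, ha, hb, rfl⟩ := exists_dvd_and_dvd_of_dvd_mul h
    obtain ⟨i, hi, rfl⟩ := (Nat.dvd_prime_pow (hR r List.mem_cons_self)).1 ha
    obtain ⟨S, hS, rfl⟩ := exists_subs (fun x hx => hR x (List.mem_cons_of_mem _ hx)) hb
    exact ⟨(r.1, i) :: S, List.mem_flatMap.2 ⟨S, hS,
      List.mem_map.2 ⟨i, List.mem_range.2 (by omega), rfl⟩⟩, rfl⟩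

/-- No column for an involution centralizing an element of order `p`. -/
noncomputable def fe (n p : ℕ) (D : List ℕ) (w : ℕ → Bool) (M e : ℕ) (l : List ℤ) : Bool :=
  n / (p * M * e) % 2 == 0 && colAllF n p M e D l (fun C => C % p == 0 && w C) fun _ _ => false

/-- No column for a central involution. -/
noncomputable def fc (n p T : ℕ) (D : List ℕ) (w : ℕ → Bool) (M e : ℕ) (l : List ℤ) : Bool :=
  colAllF n p M e D l (fun C => C % T == 0 && (n / (p * M * e) != 1 || C % p != 0) && w C)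
    fun _ _ => false

/-- The test for the prime `p`, depending on the order `p * c` of the centralizer. -/
noncomputable def kp (R : List (ℕ × ℕ)) (p a : ℕ) (ok w : ℕ → Bool) (skip : ℕ → ℕ → Bool)
    (fin : List ℤ → Bool) : Bool :=
  ordB R && p != 2 && fval R % 2 == 0 && fval R % 2 ^ a == 0 &&
    enumF (fval R) p R (dvs R) ok (fun M e => skip e (fval R / (p * M * e))) fun M e l =>
      fin l || fe (fval R) p (dvs R) w M e l || fc (fval R) p (2 ^ a) (dvs R) w M e l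

variable {G : Type*} [Group G] [Finite G] [IsSimpleGroup G] (hG : ¬ IsMulCommutative G)
  {p M e c t : ℕ} [hp : Fact p.Prime] {L : List (IrrCharacter G)} {Y : Finset (IrrCharacter G)}
  {θ : IrrCharacter G} {δ : IrrCharacter G → ℤ} {ε : ℤ} (h : Blk p M e c t L Y θ δ ε)
  {w : ℕ → Bool} (hw : ∀ s : G, orderOf s = 2 → w (Nat.card (centralizer ({s} : Set G))) = true)
include hG h hw

theorem not_fe (hp2 : p ≠ 2) {R : List (ℕ × ℕ)} {D : List ℕ} (ord : Ord (Nat.card G) R D) :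
    ¬ fe (Nat.card G) p D w M e (sd δ L) = true := fun h1 => by
  simp only [fe, Bool.and_eq_true, beq_iff_eq, h.c_eq] at h1
  obtain ⟨s, h3, h4⟩ := h.exists_inv (Nat.dvd_of_mod_eq_zero h1.1)
  exact absurd (h.colAllF hG hp2 rfl ord h3
    (by simp [Nat.mod_eq_zero_of_dvd h4, hw s h3]) h1.2) (by simp)

theorem kp_sound (hm : t = 1 → ∀ χ ∈ L, deg χ ≤ deg θ) {R : List (ℕ × ℕ)}
    (hn : Nat.card G = fval R) {ok : ℕ → Bool} (hok : ∀ χ ∈ θ :: L, ok (deg χ) = true) {a : ℕ}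
    {skip : ℕ → ℕ → Bool} {fin : List ℤ → Bool} (hk : kp R p a ok w skip fin = true) :
    skip e c = true ∨ ∃ L', Blk p M e c t L' Y θ δ ε ∧ fin (sd δ L') = true := by
  simp only [kp, Bool.and_eq_true, beq_iff_eq, bne_iff_ne, ← hn] at hk
  obtain ⟨⟨⟨⟨k1, k4⟩, k5⟩, k6⟩, k7⟩ := hk
  have ord := ord_of k1
  rw [← hn] at ord
  refine (h.enumF hG rfl ord hm hok k7).imp (by rw [h.c_eq]; exact id) fun ⟨L, h, h1⟩ => ⟨L, h, ?_⟩
  simp only [Bool.or_eq_true] at h1
  refine (h1.resolve_right fun h1 => ?_).resolve_right (not_fe hG h hw k4 ord)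
  obtain ⟨s, h2, h3⟩ := exists_inv (Nat.dvd_of_mod_eq_zero k5) (Nat.dvd_of_mod_eq_zero k6)
  refine absurd (h.colAllF hG k4 rfl ord h2 ?_ h1) (by simp)
  simp only [h3, hw s h2, h.c_eq, beq_self_eq_true, Bool.true_and, Bool.and_true, Bool.or_eq_true,
    bne_iff_ne]
  refine or_iff_not_imp_left.2 fun h4 h5 => k4 ?_
  rw [← (h.selfC (not_not.1 h4) (h.two_le hG)).cent s (fun e => by simp [e] at h2)
    (Nat.dvd_of_mod_eq_zero h5), h2]

end Cfsg.Lib.Perm.Kill3
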