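import Cfsg.Agent.Perm.KerLem
import Cfsg.Agent.Perm.Kill3
import Cfsg.Agent.Spor.O10200960A

/-!
# Simple groups of order divisible by 11 and dividing 443520
-/

set_option autoImplicit false

open Cfsg Subgroup Cfsg.Lib.PrimeOne Cfsg.Lib.Spor.Mo Cfsg.Lib.Perm.Kill3 Cfsg.Lib.Perm.KerLem
open Cfsg.Lib.Spor.O7920 (instFact11)
open Cfsg.Lib.Spor.O443520 (instFact7)

namespace Cfsg.Lib.Perm.Sec11

noncomputable def tst (S : List (ℕ × ℕ)) : Bool :=
  (11 * fval S % 12 != 0 && 11 * fval S % 16 != 0 && 11 * fval S % 56 != 0) ||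
  [60, 720, 40320].contains (fval S) ||
  (kp ((11, 1) :: S) 11 (S.headD (0, 0)).2 (fun _ => true) (fun _ => true)
    (fun e c => ([420, 3360, 6720].contains (fval S) && c % 7 != 0) ||
      (fval S == 10080 && e == 10 && c == 7)) (fun _ => false) &&
  (!([420, 3360, 6720, 10080].contains (fval S)) ||
    kp ((11, 1) :: S) 7 (S.headD (0, 0)).2 (fun _ => true) (fun _ => true)
      (fun _ c => if fval S = 10080 then c % 55 != 0 else c % 11 == 0) fun _ => false))

theorem all_tst : (subs [(2, 7), (3, 2), (5, 1), (7, 1)]).all tst = true := by decide +kernel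

theorem card_mem {G : Type*} [Group G] [Finite G] [IsSimpleGroup G] (hG : ¬ IsMulCommutative G)
    (h1 : Nat.card G ∣ 443520) (h2 : 11 ∣ Nat.card G) :
    Nat.card G = 660 ∨ Nat.card G = 7920 ∨ Nat.card G = 443520 := by
  obtain ⟨m, hm⟩ := id h2
  obtain ⟨S, hS, rfl⟩ := exists_subs (R := [(2, 7), (3, 2), (5, 1), (7, 1)]) (by decide)
    (Nat.dvd_of_mul_dvd_mul_left (by norm_num) (hm ▸ h1 : 11 * m ∣ 11 * 40320))
  have h3 := List.all_eq_true.1 all_tst S hS
  have h4 := twelve_or hG
  simp only [tst, Bool.or_eq_true, Bool.and_eq_true, bne_iff_ne, List.contains_iff_mem,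
    List.mem_cons, List.not_mem_nil, or_false, ← hm] at h3
  rcases h3 with (h3 | h3) | ⟨h3, h5⟩
  · omega
  · omega
  have hn : Nat.card G = fval ((11, 1) :: S) := hm
  obtain ⟨M, e, c, t, L, Y, θ, δ, ε, k, hk⟩ := exists_blk' (G := G) (p := 11) h2
    fun e => absurd (e.trans h1) (by norm_num)
  have h6 := (kp_sound hG k (fun _ _ => rfl) hk hn (fun _ _ => rfl) h3).resolve_right (by simp)
  simp only [Bool.or_eq_true, Bool.and_eq_true, bne_iff_ne, List.contains_iff_mem,
    List.mem_cons, List.not_mem_nil, or_false, beq_iff_eq] at h6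
  obtain ⟨_, _, d, _, _, _, _, _, _, j, hj⟩ := exists_blk' (G := G) (p := 7) (by omega)
    fun e => absurd (e.trans h1) (by norm_num)
  have h7 := (kp_sound hG j (fun _ _ => rfl) hj hn (fun _ _ => rfl) (h5.resolve_left
    (by simp; omega))).resolve_right (by simp)
  rcases h6 with ⟨h6, h8⟩ | ⟨⟨h6, rfl⟩, rfl⟩
  · rw [if_neg (by omega), beq_iff_eq] at h7
    exact absurd (j.dvd_c k (by norm_num) h7) h8
  · obtain ⟨z, h8, h9, h10⟩ := exists_comm k (r := 5) (s := 7) (by norm_num) (by norm_num)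
      (by norm_num) (by norm_num) dvd_rfl fun d h8 _ hd => by
        have := Nat.le_of_dvd (by norm_num) hd
        have : d ≠ 1 := h8.ne_one
        interval_cases d <;> omega
    rw [j.card_centralizer h8] at h9 h10
    rw [if_pos h6, bne_iff_ne] at h7
    omega

end Cfsg.Lib.Perm.Sec11
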