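import Cfsg.Agent.Perm.Kill3

/-!
# Numerical tests for simple groups of order dividing 244823040
-/

set_option autoImplicit false

open Cfsg.Lib.PrimeOne Cfsg.Lib.Spor.Mo Cfsg.Lib.Perm.Kill2 Cfsg.Lib.Perm.Kill3

namespace Cfsg.Lib.Perm.Sec23

theorem t11 : ([4, 5].all fun a => kp [(2, a), (3, 1), (5, 1), (7, 1), (11, 1), (23, 1)] 11 a
    (fun _ => true) (fun _ => true) (fun _ c => c % 7 == 0 || (a == 5 && c % 2 != 0))
    fun _ => false) = true := by decide +kernel

theorem t7 : ([4, 5].all fun a => kp [(2, a), (3, 1), (5, 1), (7, 1), (11, 1), (23, 1)] 7 a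
    (fun _ => true) (fun _ => true) (fun _ c => c % 11 != 0 || c % 23 == 0)
    fun _ => false) = true := by decide +kernel

def R1 : List (ℕ × ℕ) := [(2, 8), (3, 2), (5, 1), (7, 1), (11, 1), (23, 1)]

theorem u7 : kp R1 7 8 (modOk 23 22) (· % 23 != 0) (fun _ c => c % 11 != 0 || c % 23 == 0)
    (tauBad 23 22) = true := by decide +kernel

end Cfsg.Lib.Perm.Sec23
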