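import Cfsg.Agent.Perm.Kill3

/-!
# Numerical tests for simple groups of order dividing 244823040
-/

set_option autoImplicit false

open Cfsg.Lib.PrimeOne Cfsg.Lib.Spor.Mo Cfsg.Lib.Perm.Kill2 Cfsg.Lib.Perm.Kill3

namespace Cfsg.Lib.Perm.Sec23

theorem u11 : kp [(2, 8), (3, 2), (5, 1), (7, 1), (11, 1), (23, 1)] 11 8 (modOk 23 22) (· % 23 != 0)
    (fun e c => c % 7 == 0 || c % 2 != 0 || c % 23 == 0 || (e == 5 && c == 2))
    (tauBad 23 22) = true := by decide +kernel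

end Cfsg.Lib.Perm.Sec23
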