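import Cfsg.Agent.Perm.Kill3

/-!
# Numerical tests for simple groups of order dividing 244823040
-/

set_option autoImplicit false

open Cfsg.Lib.PrimeOne Cfsg.Lib.Spor.Mo Cfsg.Lib.Perm.Kill2 Cfsg.Lib.Perm.Kill3

namespace Cfsg.Lib.Perm.Sec23

theorem u11' : kp [(2, 8), (3, 2), (5, 1), (7, 1), (11, 1), (23, 1)] 11 8 (modOk 23 22) (· % 23 != 0)
    (fun e c => e != 5 || c != 2) (fun l => tauBad 23 22 l || colAllF 20401920 11 185472 5
      (dvs [(2, 8), (3, 2), (5, 1), (7, 1), (11, 1), (23, 1)]) l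
      (fun C => C % 55 == 0 && C % 23 != 0) fun _ _ => false) = true := by
  decide +kernel

end Cfsg.Lib.Perm.Sec23
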