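import Cfsg.Agent.Perm.KerLem
import Cfsg.Agent.Perm.Sec23A
import Cfsg.Agent.Perm.Sec23B
import Cfsg.Agent.Perm.Sec23C
import Cfsg.Agent.Spor.O10200960B

/-!
# Simple groups of order divisible by 23 and dividing 244823040
-/

set_option autoImplicit false

open Cfsg Subgroup Cfsg.Lib.PrimeOne Cfsg.Lib.Spor.Mo Cfsg.Lib.Perm.Kill2 Cfsg.Lib.Perm.Kill3
open Cfsg.Lib.Perm.KerLem
open Cfsg.Lib.Spor.O7920 (instFact11)
open Cfsg.Lib.Spor.O443520 (instFact7)
open Cfsg.Lib.Spor.O10200960 (instFact23)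

namespace Cfsg.Lib.Perm.Sec23

variable {G : Type*} [Group G] [Finite G] [IsSimpleGroup G] (hG : ¬ IsMulCommutative G)
  {M e c t : ℕ} {L : List (IrrCharacter G)} {Y : Finset (IrrCharacter G)}
  {θ : IrrCharacter G} {δ : IrrCharacter G → ℤ} {ε : ℤ}
include hG

theorem mod_eq {p : ℕ} [hp : Fact p.Prime] (h : Blk p M e c t L Y θ δ ε) : M % p = 1 ∧ 1 < M := by
  have h1 := one_lt_card_sylow (p := p) hG ⟨M * e * c, by rw [h.card_group]; ring⟩
  have h2 := card_sylow_modEq_one p G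
  rw [h.num] at h1 h2
  exact ⟨by rwa [Nat.ModEq, Nat.mod_eq_of_lt hp.out.one_lt] at h2, h1⟩

/-- A character of degree divisible by `p` and less than `2 p` makes `c` trivial. -/
theorem c_eq_one {p : ℕ} [hp : Fact p.Prime] (h : Blk p M e c t L Y θ δ ε) {χ : IrrCharacter G}
    (h1 : p ∣ deg χ) (h2 : deg χ < 2 * p) : c = 1 := by
  by_contra h3
  obtain ⟨s, hs, h4⟩ := Nat.exists_prime_and_dvd h3
  have := Fact.mk hs
  obtain ⟨P, hP, hC, -⟩ := h.syl
  have h5 : s ≠ p := fun e' => not_sq_dvd hP ((sq p ▸ Nat.mul_dvd_mul_left p (e' ▸ h4)).trans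
    (hC ▸ card_subgroup_dvd_card _))
  obtain ⟨⟨z, hz⟩, hz1⟩ := exists_prime_orderOf_dvd_card' s (hC ▸ h4.mul_left p)
  rw [orderOf_mk] at hz1
  obtain ⟨x, hx, hx1⟩ := exists_ne_one hP
  have := Fintype.ofFinite (zpowers z)
  have h6 := (Nat.coprime_primes hp.out hs).2 h5.symm
  exact (dv_of_dvd (not_sq_dvd hP) (orderOf_of_mem hP hx hx1 ▸ orderOf_dvd_natCard _
    (mem_centralizer_singleton_iff.2 (hz x hx))) (hz1 ▸ hp.out.coprime_iff_not_dvd.1 h6) h1).false
    hG (fun e => hp.out.ne_one (by simpa [e, deg_triv] using h1))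
    (fun e => hs.ne_one (by simpa [e] using hz1.symm)) (hz1 ▸ h6) h2

theorem not_1680 (h : Blk 23 1680 e 1 t L Y θ δ ε) (he : e = 11 ∨ e = 22) : False := by
  have hS := h.selfC rfl (by omega)
  obtain ⟨a, ha, hn, h1⟩ : ∃ a ∈ [4, 5], Nat.card G =
      fval [(2, a), (3, 1), (5, 1), (7, 1), (11, 1), (23, 1)] ∧ (a = 5 → e = 22) := by
    rw [h.card_group]
    rcases he with rfl | rfl
    exacts [⟨4, by simp, by decide, by simp⟩, ⟨5, by simp, by decide, by simp⟩]
  have h2 := h.card_group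
  obtain ⟨_, _, c, _, _, _, _, _, _, k, hk⟩ := exists_blk' (G := G) (p := 11) (by omega) (by omega)
  obtain ⟨_, _, d, _, _, _, _, _, _, j, hj⟩ := exists_blk' (G := G) (p := 7) (by omega) (by omega)
  have h3 := (kp_sound hG k (fun _ _ => rfl) hk hn (fun _ _ => rfl)
    (List.all_eq_true.1 t11 a ha)).resolve_right (by simp)
  have h4 := (kp_sound hG j (fun _ _ => rfl) hj hn (fun _ _ => rfl)
    (List.all_eq_true.1 t7 a ha)).resolve_right (by simp)
  simp only [Bool.or_eq_true, Bool.and_eq_true, beq_iff_eq, bne_iff_ne] at h3 h4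
  refine h4.elim (fun h4 => h4 (k.dvd_c j (by norm_num) (h3.resolve_right fun ⟨h5, h6⟩ => ?_)))
    (j.c_ne hS (by norm_num))
  obtain ⟨g, hg⟩ := exists_dvd_orderOf h
  rw [h1 h5] at hg
  have := dvd_c_of_dvd_orderOf k (g := g) (q := 2) (by omega) (by omega) (by norm_num)
  omega

theorem not_40320 (h : Blk 23 40320 22 1 t L Y θ δ ε) : False := by
  have hS := h.selfC rfl (by omega)
  have h2 : Nat.card G = 20401920 := h.card_group
  have hn : Nat.card G = fval R1 := h2
  have hw : ∀ s : G, orderOf s = 2 →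
      (Nat.card (centralizer ({s} : Set G)) % 23 != 0) = true := fun s hs => by
    simpa using hS.ne_zero hs (by norm_num) (by norm_num)
  obtain ⟨M, e, c, _, _, _, _, _, _, k, hk⟩ := exists_blk' (G := G) (p := 11) (by omega) (by omega)
  obtain ⟨_, _, d, _, _, _, _, _, _, j, hj⟩ := exists_blk' (G := G) (p := 7) (by omega) (by omega)
  have h3 := (kp_sound hG k hw hk hn (fun χ _ => hS.mod χ) u11).resolve_right
    fun ⟨_, k, h3⟩ => k.not_tauBad hS (by norm_num) h3
  have h4 := (kp_sound hG j hw hj hn (fun χ _ => hS.mod χ) u7).resolve_right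
    fun ⟨_, j, h3⟩ => j.not_tauBad hS (by norm_num) h3
  simp only [Bool.or_eq_true, Bool.and_eq_true, beq_iff_eq, bne_iff_ne] at h3 h4
  obtain ⟨g, hg⟩ := exists_dvd_orderOf h
  have h5 := dvd_c_of_dvd_orderOf k (g := g) (q := 2) (by omega) (by omega) (by norm_num)
  obtain ⟨rfl, rfl⟩ := h3.resolve_left fun h3 => h3.elim (fun h3 => h3.elim (fun h3 =>
    h4.elim (fun h4 => h4 (k.dvd_c j (by norm_num) h3)) (j.c_ne hS (by norm_num))) (by omega))
    (k.c_ne hS (by norm_num))
  obtain rfl : M = 185472 := by have := k.card_group; omega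
  obtain ⟨_, k, h6⟩ := (kp_sound hG k hw hk hn (fun χ _ => hS.mod χ) u11').resolve_left (by simp)
  obtain ⟨z, h7, h8, h9⟩ := exists_comm k (r := 5) (s := 2) (by norm_num) (by norm_num) dvd_rfl
    (by norm_num) dvd_rfl fun d _ _ hd => by
      have := Nat.le_of_dvd (by norm_num) hd
      interval_cases d <;> omega
  exact absurd (k.colAllF hG (by norm_num) h2 (ord_of (R := R1) (by decide +kernel)) h7
    (by simp [hw z h7]; omega) ((Bool.or_eq_true _ _ ▸ h6).resolve_left
      (k.not_tauBad hS (by norm_num)))) (by simp)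

omit hG in
theorem dec {R : List (ℕ × ℕ)} {P : ℕ → Prop} [DecidablePred P]
    (h : (R.all (isPrimeB 10 ·.1) && (dvs R).all (P ·)) = true) {d : ℕ} (hd : d ∣ fval R) :
    P d := by
  simp only [Bool.and_eq_true, List.all_eq_true, decide_eq_true_eq] at h
  exact h.2 d (mem_dvs (fun r hr => isPrimeB_sound (h.1 r hr)) hd)

theorem card_two (h : Blk 23 M 2 c 11 L Y θ δ ε) (h1 : Nat.card G ∣ 244823040) :
    Nat.card G = 45540 := by
  have g := h.good hG
  have h2 := h.card_group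
  obtain ⟨s, hs⟩ := List.length_eq_one_iff.1 (show (sd δ L).length = 1 by simpa using g.card)
  have h3 : 2 * M ∣ 10644480 := Nat.dvd_of_mul_dvd_mul_left (show 0 < 23 by norm_num)
    ((Dvd.intro c (by rw [h2]; ring)).trans h1)
  rw [hs] at g
  have h4 := g.dvd s (by simp)
  have h5 := g.dvd _ (Multiset.mem_cons_self _ _)
  have h6 := g.one_lt s (by simp)
  have h7 := (g.modEq s (by simp)).dvd
  have h8 := g.small s (by simp)
  simp only [List.sum_cons, List.sum_nil, add_zero, Int.natAbs_neg] at h5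
  have h9 := dec (R := [(2, 10), (3, 3), (5, 1), (7, 1), (11, 1)]) (P := fun d =>
    (d % 23 = 1 → d + 1 ∣ 10644480 → d = 1) ∧ (d % 23 = 22 → d - 1 ∣ 10644480 → d = 22 ∨ d = 45))
    (by decide +kernel) (h4.trans h3)
  obtain rfl : s = -45 := by
    rcases Int.natAbs_eq s with h10 | h10
    · have := h9.1 (by omega) ((dvd_of_eq (by omega)).trans (h5.trans h3))
      omega
    · have := h9.2 (by omega) ((dvd_of_eq (by omega)).trans (h5.trans h3))
      have := mt h8.1 fun e => absurd e.2 (by decide)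
      omega
  obtain rfl := h8.2 (by norm_num)
  obtain rfl | rfl := dec (R := [(2, 9), (3, 3), (5, 1), (7, 1), (11, 1)]) (P := fun d =>
    d % 23 = 1 → d % 990 = 0 → d = 990 ∨ d = 23760) (by decide +kernel) (d := M)
    (Nat.dvd_of_mul_dvd_mul_left two_pos h3) (mod_eq hG h).1 (by norm_num at h4 h5; omega)
  · exact h2
  · exact absurd (hs ▸ by decide) (h.not_bt1Bad (a := 3) Nat.prime_three
      (factorization_eq Nat.prime_three (by rw [h2]; norm_num) (by rw [h2]; norm_num)))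

theorem exists_deg (h : Blk 23 M e c t L Y θ δ ε) (he : e = 11 ∨ e = 22) (h5 : M ∣ 967680) :
    ∃ χ ∈ θ :: L, deg χ ∣ e * M ∧
      (deg χ ∈ [45, 231, 10395] ∨ (e = 11 ∧ deg χ ∈ [11, 35, 495])) := by
  obtain ⟨χ, hχ, h7⟩ := exists_odd h
  have h8 : deg χ ∣ e * M := by
    rcases List.mem_cons.1 hχ with rfl | hχ
    · simpa only [Int.natAbs_neg, h.natAbs_eq] using
        (h.good hG).dvd _ (Multiset.mem_cons_self _ _)
    · exact h.natAbs_sd hχ ▸ (h.good hG).dvd _
        (Multiset.mem_cons_of_mem (Multiset.mem_coe.2 (List.mem_map_of_mem hχ)))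
  refine ⟨χ, hχ, h8, ?_⟩
  have h11 := dec (R := [(3, 3), (5, 1), (7, 1), (11, 1)]) (P := fun d => 1 < d →
    (d % 23 = 1 ∨ d % 23 = 22 → d ∈ [45, 231, 10395]) ∧
      (d % 23 = 11 ∨ d % 23 = 12 → d ∈ [11, 35, 495])) (by decide +kernel) (d := deg χ)
    ((Nat.Coprime.pow_right 11 (Nat.coprime_two_right.2 h7)).dvd_of_dvd_mul_left
      ((h8.trans (Nat.mul_dvd_mul (show e ∣ 22 by rcases he with rfl | rfl <;> decide) h5)).trans
        (by decide))) (one_lt_deg hG (h.ne_triv hχ))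
  rcases List.mem_cons.1 hχ with rfl | hχ
  · have := h.modEq_Y.dvd
    rcases he with rfl | rfl
    · exact Or.inr ⟨rfl, h11.2 (by rcases h.sign with rfl | rfl <;> omega)⟩
    · exact Or.inl (h11.1 (by rcases h.sign with rfl | rfl <;> omega))
  · have := (h.modEq hχ).dvd
    exact Or.inl (h11.1 (by rcases (h.val hχ).1 with h12 | h12 <;> omega))

theorem false_of_deg (h : Blk 23 M e c t L Y θ δ ε) (he : 11 ∣ e) (h1 : ¬ 11 ^ 2 ∣ Nat.card G)
    (h12 : c ∣ 483840) (hc : c ≠ 1) {χ : IrrCharacter G} (hχ : χ ∈ θ :: L)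
    (h2 : deg χ < 46 ∨ (11 ∣ deg χ ∧ deg χ < 506)) : False := by
  obtain ⟨s, hs, h11⟩ := Nat.exists_prime_and_dvd hc
  have h13 : ∀ q : ℕ, q.Coprime 483840 → q.Coprime s := fun q hq =>
    hq.coprime_dvd_right (h11.trans h12)
  obtain ⟨z, rfl, h15, h16⟩ := exists_comm h (r := 11) (by norm_num) hs he
    (fun e => absurd (e.trans (Nat.mul_dvd_mul_left 23 h12)) (by norm_num)) h11
    fun d h14 h15 h16 => (DegSec.forall_primePow (n := 23 * 483840) [2, 3, 5, 7, 23]
      (P := fun d => d = 23 ∨ d % 11 ≠ 1) (by decide +kernel) d h14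
      (h16.trans (Nat.mul_dvd_mul_left 23 h12))).resolve_left fun e => hs.ne_one
        ((h13 23 (by norm_num)).symm.eq_one_of_dvd (e ▸ h15))
  have := Fintype.ofFinite (zpowers z)
  have h17 := dv_of_blk h h15 (instFact23.out.coprime_iff_not_dvd.1 (h13 _ (by norm_num))) hχ
  have h18 : z ≠ 1 := fun e => hs.ne_one (by simp [e])
  rcases h2 with h2 | ⟨h2, h3⟩
  · exact h17.false hG (h.ne_triv hχ) h18 (h13 _ (by norm_num)) h2
  · exact (h17.mul (dv_of_dvd h1 h16 (instFact11.out.coprime_iff_not_dvd.1 (h13 _ (by norm_num)))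
      h2) (by norm_num)).false hG (h.ne_triv hχ) h18 (h13 _ (by norm_num)) h3

theorem not_eleven (h1 : Nat.card G = 145728 ∨ Nat.card G = 3497472) (χ : IrrCharacter G) :
    deg χ ≠ 11 := fun h2 => by
  obtain ⟨M, e, c, t, L, Y, θ, δ, ε, k⟩ := exists_blk (G := G) (p := 11) (by omega) (by omega)
  obtain rfl := c_eq_one hG k (χ := χ) (by omega) (by omega)
  have h12 := k.card_eq
  have h13 := k.card_group
  have h14 := k.two_le hG
  have h15 := k.e_lt
  have h16 := mod_eq hG k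
  interval_cases e <;> omega

theorem card_mem (h1 : Nat.card G ∣ 244823040) (h2 : 23 ∣ Nat.card G) : 11 ∣ Nat.card G ∧
    (Nat.card G < 64009 ∨ Nat.card G = 10200960 ∨ Nat.card G = 244823040) := by
  obtain ⟨M, e, c, t, L, Y, θ, δ, ε, h⟩ := exists_blk (G := G) (p := 23) h2
    fun e => absurd (e.trans h1) (by norm_num)
  have hn := h.card_group
  obtain ⟨rfl, rfl⟩ | he : (e = 2 ∧ t = 11) ∨ (e = 11 ∨ e = 22) := by
    have h3 := h.card_eq
    have h4 := h.two_le hG
    have := h.e_lt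
    clear hn h2
    interval_cases e <;> omega
  · rw [card_two hG h h1]
    norm_num
  have h5 : M * c ∣ 967680 := Nat.dvd_of_mul_dvd_mul_left (show 0 < 253 by norm_num)
    (Dvd.dvd.trans (by rcases he with rfl | rfl; exacts [⟨1, by rw [hn]; ring⟩,
      ⟨2, by rw [hn]; ring⟩]) h1)
  have h6 := dec (R := [(2, 10), (3, 3), (5, 1), (7, 1)]) (P := fun d => d % 23 = 1 → 1 < d →
    d ∈ [24, 70, 576, 1680, 13824, 40320, 967680] ∧ 2 ∣ d ∧ (10395 ∣ 22 * d → d = 967680))
    (by decide +kernel) (d := M) ((Dvd.intro _ rfl).trans h5) (mod_eq hG h).1 (mod_eq hG h).2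
  obtain ⟨χ, hχ, h8, h10⟩ := exists_deg hG h he ((Dvd.intro _ rfl).trans h5)
  simp only [List.mem_cons, List.not_mem_nil, or_false] at h10
  obtain rfl : c = 1 := not_not.1 fun hc => false_of_deg hG h (by omega)
    (fun e => absurd (e.trans h1) (by norm_num)) (Nat.dvd_of_mul_dvd_mul_left two_pos
      ((Nat.mul_dvd_mul_right h6.2.1 c).trans h5)) hc hχ (by
    have h11 : deg χ ≠ 10395 := fun h11 => hc (Nat.eq_one_of_dvd_one
      (Nat.dvd_of_mul_dvd_mul_left (show 0 < 967680 by norm_num) (by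
        rwa [h6.2.2 ((h11 ▸ h8).trans
          (Nat.mul_dvd_mul_right (by rcases he with rfl | rfl <;> decide) M))] at h5)))
    clear h6 hn h2 he
    omega)
  refine ⟨by rcases he with rfl | rfl <;> omega, ?_⟩
  have h11 := fun h => not_eleven hG h χ
  have h12 := Nat.le_of_dvd (by norm_num) h1
  replace h6 := h6.1
  simp only [List.mem_cons, List.not_mem_nil, or_false] at h6
  rcases h6 with rfl | rfl | rfl | rfl | rfl | rfl | rfl
  · omega
  · omega
  · rcases h10 with (h10 | h10 | h10) | ⟨rfl, h10 | h10 | h10⟩ <;> rw [h10] at h8 <;> omega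
  · exact (not_1680 hG h he).elim
  · rcases h10 with (h10 | h10 | h10) | ⟨rfl, h10 | h10 | h10⟩ <;> rw [h10] at h8 <;> omega
  · exact he.elim (fun _ => by omega) fun e => (not_40320 hG (e ▸ h)).elim
  · omega

end Cfsg.Lib.Perm.Sec23
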