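import Cfsg.Agent.Perm.DegSec
import Cfsg.Agent.PrimeOne.Small
import Cfsg.Agent.PrimeOne.Elim
import Cfsg.Agent.Solv.Schur
import Cfsg.Agent.Char.Prod

/-!
# Simple sections with central kernel, and complete normal subgroups
-/

set_option autoImplicit false

open Cfsg Subgroup Cfsg.Lib.Known Cfsg.Lib.Char

namespace Cfsg.Lib.Perm.DegSec

variable {G : Type*} [Group G] [Finite G] {p : ℕ} [hp : Fact p.Prime]

omit [Finite G] hp in
theorem card_sec (K : Subgroup G) (N : Subgroup K) [N.Normal] :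
    Nat.card (K ⧸ N) * (Nat.card N * K.index) = Nat.card G := by
  rw [← mul_assoc, ← card_eq_card_quotient_mul_card_subgroup, card_mul_index]

omit hp in
theorem simple_of_le (N : Subgroup G) [N.Normal] [IsSimpleGroup (G ⧸ N)]
    (h : Nat.card G ≤ Nat.card (G ⧸ N)) : IsSimpleGroup G :=
  (MulEquiv.ofBijective (QuotientGroup.mk' N)
    ((QuotientGroup.mk'_surjective N).bijective_of_nat_card_le h)).isSimpleGroup

omit hp in
theorem simple_of_sec (K : Subgroup G) (N : Subgroup K) [N.Normal] [IsSimpleGroup (K ⧸ N)]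
    (h : Nat.card (K ⧸ N) = Nat.card G) : IsSimpleGroup G :=
  have := simple_of_le N (h ▸ K.card_le_card_group)
  (MulEquiv.ofBijective K.subtype (K.subtype_injective.bijective_of_nat_card_le
    (h ▸ Nat.le_of_dvd Nat.card_pos (card_quotient_dvd_card N)))).symm.isSimpleGroup

theorem le_center (N : Subgroup G) [N.Normal]
    (hG : ∀ M : Subgroup G, M.Normal → ¬ p ∣ M.index → M = ⊤) {m : ℕ} (hm : Nat.card N ∣ m)
    (h : ¬ p ∣ m ∧ m ≠ 0 ∧ ∀ d ∈ m.divisors, IsPrimePow d → d % p ≠ 1) : N ≤ center G := by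
  obtain ⟨P⟩ : Nonempty (Sylow p G) := inferInstance
  have h3 := le_centralizer_of (N := N) P.isPGroup' le_normalizer_of_normal
    (fun e => h.1 (e.trans hm)) fun c h3 h4 =>
      h.2.2 c (Nat.mem_divisors.2 ⟨h4.trans hm, h.2.1⟩) h3
  exact centralizer_eq_top_iff_subset.1 (hG _ inferInstance fun e =>
    P.not_dvd_index (e.trans (index_dvd_of_le (le_centralizer_iff.1 h3))))

omit hp [Finite G] in
theorem commutator_eq_top (N : Subgroup G) [N.Normal] [IsSimpleGroup (G ⧸ N)]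
    (hc : ¬ IsMulCommutative (G ⧸ N))
    (hG : ∀ M : Subgroup G, M.Normal → ¬ p ∣ M.index → M = ⊤) (h : ¬ p ∣ Nat.card N) :
    commutator G = ⊤ := hG _ inferInstance fun e => by
  have h3 : N ⊔ commutator G = ⊤ := by
    rw [← QuotientGroup.ker_mk' N, sup_comm, ← comap_map_eq, map_commutator_eq,
      QuotientGroup.range_mk', ← commutator_def, PrimeOne.commutator_eq_top hc, comap_top]
  rw [← relIndex_top_right, ← h3, relIndex_sup_right] at e
  exact h (e.trans (relIndex_dvd_card _ _))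

omit hp in
theorem sq_le_index {N : Subgroup G} (hN : N ≤ center G) {d : ℕ} (hd : d ∈ charDegrees G) :
    d ^ 2 ≤ N.index := by
  obtain ⟨χ, rfl⟩ := hd
  exact Deg.deg_sq_le_index χ.2 (hN.trans χ.2.center_le_charCenter)

omit hp [Finite G] in
theorem pos_of_mem {d : ℕ} (h : d ∈ charDegrees G) : 0 < d := by
  obtain ⟨χ, rfl⟩ := h
  exact Deg.deg_pos χ.2

omit hp [Finite G] in
theorem equiv_of_multiplier {N : Subgroup G} [N.Normal] (hN : N ≤ center G)
    (hG : commutator G = ⊤) {Q : Type*} [Group Q] (hQ : HasCyclicSchurMultiplier Q 1)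
    (e : G ⧸ N ≃* Q) : Nonempty (G ≃* Q) := by
  have h1 : (e.toMonoidHom.comp (QuotientGroup.mk' N)).ker = N := by
    ext x
    simp
  have h2 := e.surjective.comp (QuotientGroup.mk'_surjective N)
  have h3 := Solv.ker_inf_commutator_eq_bot_of_trivial hQ
    (e.toMonoidHom.comp (QuotientGroup.mk' N)) h2 (h1.le.trans hN)
  rw [hG, inf_top_eq] at h3
  exact ⟨MulEquiv.ofBijective _ ⟨(MonoidHom.ker_eq_bot_iff _).1 h3, h2⟩⟩

omit hp in
/-- A complete normal subgroup is a direct factor. -/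
theorem exists_prod (K : Subgroup G) [K.Normal] {Q : Type*} [Group Q] [IsSimpleGroup Q]
    (hc : ¬ IsMulCommutative Q) (hQ : Nat.card (Out Q) = 1) (e : K ≃* Q) :
    ∃ C : Subgroup G, Nat.card C = K.index ∧ Nonempty (G ≃* C × Q) := by
  have hI : ∀ φ : MulAut Q, ∃ q, MulAut.conj q = φ := fun φ =>
    (index_eq_one.1 hQ).ge (mem_top φ)
  have hcm : ∀ (c : centralizer (K : Set G)) (k : K), Commute
      ((centralizer (K : Set G)).subtype c) (K.subtype k) := fun c k => (c.2 k k.2).symm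
  have hb : Function.Bijective (MonoidHom.noncommCoprod _ _ hcm) := by
    refine ⟨(injective_iff_map_eq_one _).2 fun ⟨c, k⟩ h => ?_, fun g => ?_⟩
    · have h1 : (c : G) * k = 1 := h
      have h2 : e k ∈ center Q := mem_center_iff.2 fun q => by
        obtain ⟨y, rfl⟩ := e.surjective q
        rw [← map_mul, ← map_mul]
        congr 1
        apply Subtype.ext
        rw [coe_mul, coe_mul, eq_inv_of_mul_eq_one_right h1]
        exact (inv_mem c.2) y y.2
      have h3 : k = 1 := e.injective (by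
        rw [map_one]
        exact ((center Q).normal_of_characteristic.eq_bot_or_eq_top.resolve_right
          fun h => hc (center_eq_top_iff.1 h)).le h2)
      subst h3
      exact Prod.ext (Subtype.ext (by simpa using h1)) rfl
    · obtain ⟨q, hq⟩ := hI (MulAut.congr e (MulAut.conjNormal g))
      obtain ⟨k, rfl⟩ := e.surjective q
      refine ⟨(⟨g * (k : G)⁻¹, fun y hy => ?_⟩, k), by simp⟩
      have h1 := DFunLike.congr_fun hq (e (k⁻¹ * ⟨y, hy⟩ * k))
      simp only [MulAut.conj_apply, MulAut.congr_apply, MulEquiv.trans_apply,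
        MulEquiv.symm_apply_apply, ← map_mul, ← map_inv] at h1
      have h2 := congrArg Subtype.val (e.injective h1)
      simp only [coe_mul, coe_inv, MulAut.conjNormal_apply] at h2
      calc y * (g * (k : G)⁻¹) = (k * ((k : G)⁻¹ * y * k) * (k : G)⁻¹) * (g * (k : G)⁻¹) := by group
        _ = _ := by rw [h2]; group
  refine ⟨centralizer (K : Set G), ?_, ⟨(MulEquiv.ofBijective _ hb).symm.trans
    (MulEquiv.prodCongr (MulEquiv.refl _) e)⟩⟩
  have h1 := Nat.card_congr (Equiv.ofBijective _ hb)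
  rw [Nat.card_prod, ← card_mul_index K, mul_comm] at h1
  exact Nat.eq_of_mul_eq_mul_left Nat.card_pos h1

omit hp in
theorem exists_mul {A B : Type*} [Group A] [Group B] (e : G ≃* A × B) {d : ℕ}
    (hd : d ∈ charDegrees G) : ∃ a ∈ charDegrees A, ∃ b ∈ charDegrees B, d = a * b := by
  have : Finite (A × B) := Finite.of_equiv _ e.toEquiv
  have := Finite.prod_left (α := A) B
  have := Finite.prod_right (β := B) A
  obtain ⟨χ, rfl⟩ := GL2.charDegrees_subset_of_surjective e.symm.toMonoidHom e.symm.surjective hd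
  obtain ⟨φ, ψ, hφ, hψ, h⟩ := (isIrrCharacter_prod_iff _).1 χ.2
  refine ⟨_, ⟨⟨φ, hφ⟩, rfl⟩, _, ⟨⟨ψ, hψ⟩, rfl⟩, Deg.deg_eq ?_⟩
  simp only [h, Prod.fst_one, Prod.snd_one, Deg.apply_one_eq hφ.isCharacter,
    Deg.apply_one_eq hψ.isCharacter, Nat.cast_mul]

omit hp in
theorem forall_primePow {n : ℕ} (L : List ℕ) {P : ℕ → Prop} (h : (0 < n ∧ n < 2 ^ 40) ∧
    n ∣ L.prod ^ 40 ∧ ∀ q ∈ L, PrimeOne.isPrimeB 10 q = true ∧
      ∀ j < 40, q ^ (j + 1) ∣ n → P (q ^ (j + 1))) (d : ℕ) (hd : IsPrimePow d) (hn : d ∣ n) :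
    P d := by
  obtain ⟨q, j, hq, hj, rfl⟩ := (isPrimePow_nat_iff d).1 hd
  obtain ⟨j, rfl⟩ := Nat.exists_eq_succ_of_ne_zero hj.ne'
  obtain ⟨r, hr, h1⟩ := (Prime.dvd_prod_iff hq.prime).1
    (hq.dvd_of_dvd_pow (((dvd_pow_self q hj.ne').trans hn).trans h.2.1))
  obtain rfl := (Nat.prime_dvd_prime_iff_eq hq (PrimeOne.isPrimeB_sound (h.2.2 r hr).1)).1 h1
  refine (h.2.2 q hr).2 j (Nat.lt_of_succ_lt ?_) hn
  exact (Nat.pow_lt_pow_iff_right one_lt_two).1
    (((Nat.pow_le_pow_left hq.two_le _).trans (Nat.le_of_dvd h.1.1 hn)).trans_lt h.1.2)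

end Cfsg.Lib.Perm.DegSec
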