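import Cfsg.Agent.Spor.MoEnum

/-!
# A stronger verified test excluding orders of simple groups

The principal block for a prime dividing the order to the first power, together with the values
of its characters on a central involution.
-/

set_option autoImplicit false

open Cfsg Subgroup Cfsg.Lib.PrimeOne Cfsg.Lib.Spor.Mo

namespace Cfsg.Lib.Perm.Kill2

def f2 (n p T : ℕ) (D : List ℕ) (M e : ℕ) (l : List ℤ) : Bool :=
  colAll n p M e D l (fun C => C % T == 0 && (n / (p * M * e) != 1 || C % p != 0))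
    (fun _ _ => false) ||
  (n / (p * M * e) % 2 == 0 && colAll n p M e D l (· % p == 0) fun _ _ => false)

def ordB (R : List (ℕ × ℕ)) : Bool :=
  R.all fun r => isPrimeB 10 r.1 && fval R % r.1 ^ r.2 == 0 && fval R % r.1 ^ (r.2 + 1) != 0

theorem ord_of {R : List (ℕ × ℕ)} (h : ordB R = true) : Ord (fval R) R (dvs R) := by
  simp only [ordB, Bool.and_eq_true, beq_iff_eq, List.all_eq_true, bne_iff_ne] at h
  have h3 := fun r hr => isPrimeB_sound (h r hr).1.1
  exact ⟨h3, fun r hr => factorization_eq (h3 r hr) (h r hr).1.2 (h r hr).2,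
    fun d hd => mem_dvs h3 hd⟩

/-- The test for the order with factorization `R`, the prime `p` and the power `2 ^ a`. -/
def kill2 (R : List (ℕ × ℕ)) (p a : ℕ) : Bool :=
  ordB R && fval R % p == 0 && fval R % p ^ 2 != 0 && p != 2 && fval R % 2 == 0 &&
    fval R % 2 ^ a == 0 &&
    enum (fval R) p R (dvs R) (fun _ => true) (fun _ _ => false) (f2 (fval R) p (2 ^ a) (dvs R))

variable {G : Type*} [Group G] [Finite G]

theorem exists_inv {a : ℕ} (h2 : 2 ∣ Nat.card G) (h : 2 ^ a ∣ Nat.card G) :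
    ∃ s : G, orderOf s = 2 ∧ Nat.card (centralizer ({s} : Set G)) % 2 ^ a = 0 := by
  obtain ⟨s, h1, h3⟩ := exists_central_inv (G := G) h2
  refine ⟨s, h1, Nat.mod_eq_zero_of_dvd ((Nat.Coprime.pow_left a
    ((Nat.Prime.coprime_iff_not_dvd Nat.prime_two).2 h3)).dvd_of_dvd_mul_right ?_)⟩
  rwa [card_mul_index]

theorem card_ne [IsSimpleGroup G] (hG : ¬ IsMulCommutative G) {R : List (ℕ × ℕ)} {p a : ℕ}
    [Fact p.Prime] (hk : kill2 R p a = true) : Nat.card G ≠ fval R := fun hn => by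
  simp only [kill2, Bool.and_eq_true, beq_iff_eq, bne_iff_ne, ← hn] at hk
  obtain ⟨⟨⟨⟨⟨⟨k1, k2⟩, k3⟩, k4⟩, k5⟩, k6⟩, k7⟩ := hk
  have ord := ord_of k1
  rw [← hn] at ord
  obtain ⟨M, e, c, t, L, Y, θ, δ, ε, h⟩ := exists_blk (G := G) (p := p)
    (Nat.dvd_of_mod_eq_zero k2) fun e => k3 (Nat.mod_eq_zero_of_dvd e)
  obtain ⟨L, h, h1⟩ := (h.enum hG rfl ord (fun _ => rfl) k7).resolve_left (by simp)
  simp only [f2, Bool.or_eq_true, Bool.and_eq_true, beq_iff_eq, h.c_eq] at h1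
  rcases h1 with h1 | ⟨h1, h2⟩
  · obtain ⟨s, h2, h3⟩ := exists_inv (Nat.dvd_of_mod_eq_zero k5) (Nat.dvd_of_mod_eq_zero k6)
    refine absurd (h.colAll hG k4 rfl ord h2 ?_ h1) (by simp)
    simp only [h3, beq_self_eq_true, Bool.true_and, Bool.or_eq_true, bne_iff_ne]
    refine or_iff_not_imp_left.2 fun h4 h5 => k4 ?_
    rw [← (h.selfC (not_not.1 h4) (h.two_le hG)).cent s (fun e => by simp [e] at h2)
      (Nat.dvd_of_mod_eq_zero h5), h2]
  · obtain ⟨s, h3, h4⟩ := h.exists_inv (Nat.dvd_of_mod_eq_zero h1)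
    exact absurd (h.colAll hG k4 rfl ord h3
      (by simpa using Nat.mod_eq_zero_of_dvd h4) h2) (by simp)

end Cfsg.Lib.Perm.Kill2
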