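import Cfsg.Agent.Spor.O95040C
import Cfsg.Prelude.Def_DegreeGraph

/-!
# Two character degrees of a simple group of order 95040
-/

set_option autoImplicit false

open Cfsg Cfsg.Lib.PrimeOne Cfsg.Lib.Block.Princ Cfsg.Lib.Spor.Mo Cfsg.Lib.Spor.O95040
open Cfsg.Lib.Spor.O7920 (instFact11 instFact5)

namespace Cfsg.Lib.Perm.M12Deg

variable {G : Type*} [Group G] [Finite G] [IsSimpleGroup G] (hG : Nat.card G = 95040)
include hG

theorem mem66 : 66 ∈ charDegrees G := by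
  obtain ⟨L, Y, θ, δ, ε, L', Y', θ', δ', ε', -, -, k, hL', -⟩ := blocks hG
  obtain ⟨e, d, -⟩ := k.exists_of_mem rfl (hL' 66 (by simp))
  exact ⟨e, d⟩

theorem mem55 : 55 ∈ charDegrees G := by
  classical
  have := Fintype.ofFinite G
  obtain ⟨v, a, b, T⟩ := exists_tab hG
  obtain ⟨L, Y, θ, δ, ε, -, -, -, -, -, h, hL, -⟩ := blocks hG
  have hd := h.map_natAbs
  rw [hL] at hd
  obtain ⟨c1, c2, c3, c4, rfl⟩ : ∃ c1 c2 c3 c4, L = [c1, c2, c3, c4] :=
    List.length_eq_four.1 (by simpa [sd] using congrArg List.length hL)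
  obtain ⟨d0, d1, d2, d3, d4⟩ : deg θ = 16 ∧ deg c1 = 45 ∧ deg c2 = 54 ∧ deg c3 = 120 ∧
    deg c4 = 144 := by simpa [eq_comm] using hd
  obtain ⟨φ, hφ, hφ1⟩ := Finset.exists_mem_ne (h.card_Y ▸ one_lt_two : 1 < Y.card) θ
  have d5 : deg φ = 16 := (h.val_Y hφ).1.trans d0
  have hY : Y = {θ, φ} := (Finset.eq_of_subset_of_card_le (by
    simp [Finset.insert_subset_iff, h.mem, hφ]) (by rw [h.card_Y, Finset.card_pair hφ1.symm])).symm
  have h11 : ∀ χ, ¬ 11 ∣ deg χ → χ ∈ [triv G, c1, c2, c3, c4, θ, φ] := fun χ hχ => by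
    simpa [hY, or_assoc] using h.mem_of_not_dvd rfl hχ
  have da := T.da
  have db := T.db
  have hl : [triv G, c1, c2, c3, c4, θ, φ, a, b].Nodup :=
    nodup_of_deg (by simp [deg_triv, hφ1.symm, T.ne, *])
  have s4 := sum_deg_sq (G := G)
  rw [sum_split hl, ← Finset.sum_filter_add_sum_filter_not _ (deg · = 176),
    Finset.sum_const_nat (m := 176 ^ 2) fun χ hχ => by rw [(Finset.mem_filter.1 hχ).2]] at s4
  by_contra h55
  have h9 : 9 ∣ ∑ χ ∈ (rest [triv G, c1, c2, c3, c4, θ, φ, a, b]).filter (¬ deg · = 176),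
      deg χ ^ 2 := Finset.dvd_sum fun χ hχ => by
    obtain ⟨h1, h2⟩ := Finset.mem_filter.1 hχ
    rw [mem_rest] at h1
    have h3 : 11 ∣ deg χ := not_not.1 fun e => h1 (List.mem_append_left [a, b] (h11 χ e))
    have h4 : deg χ ≠ 11 := fun e => h1 (by rcases T.eq χ e with rfl | rfl <;> simp)
    have h5 : deg χ ≠ 55 := fun e => h55 ⟨χ, e⟩
    have h6 := T.mem χ
    simp only [K, List.mem_cons, List.not_mem_nil, or_false] at h6
    obtain h7 | h7 : deg χ = 66 ∨ deg χ = 99 := by omega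
    all_goals rw [h7]; norm_num
  simp only [List.map_cons, List.sum_cons, List.map_nil, List.sum_nil, d0, d1, d2, d3, d4, d5, da,
    db, deg_triv, hG] at s4
  omega

end Cfsg.Lib.Perm.M12Deg
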