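import Cfsg.Agent.Perm.MatDeg
import Cfsg.Agent.Perm.Sec11
import Cfsg.Agent.Perm.Sec23
import Cfsg.Agent.S3643
import Cfsg.Agent.S2037

/-!
# Groups with the order of a Mathieu group and some of its character degrees are simple
-/

set_option autoImplicit false

open Cfsg Subgroup Cfsg.Lib.Perm.DegSec Cfsg.Lib.Spor
open Cfsg.Lib.Spor.O7920 (instFact11)
open Cfsg.Lib.Spor.O10200960 (instFact23)

namespace Cfsg.Lib.Perm.MatRec

variable {G : Type*} [Group G] [Finite G]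

theorem exists_sec {p r n : ℕ} [hp : Fact p.Prime] (hr : r.Prime) (hrp : r ≠ p)
    (hn : Nat.card G ∣ p * n) (h1 : ¬ p ∣ n) (h2 : ∀ d, IsPrimePow d → d ∣ p * n → d % p ≠ 1)
    {d : ℕ} (hd : d ∈ charDegrees G) (h : r * p ∣ d) :
    ∃ (K : Subgroup G) (_ : K.Normal) (N : Subgroup K) (_ : N.Normal), IsSimpleGroup (K ⧸ N) ∧
      ¬ IsMulCommutative (K ⧸ N) ∧ p ∣ Nat.card (K ⧸ N) ∧ N ≤ center K ∧ commutator K = ⊤ ∧
      (r ∣ Nat.card (K ⧸ N) → ¬ r ^ 2 ∣ p * n → (r * p) ^ 2 ≤ Nat.card (K ⧸ N)) := by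
  have h3 : ¬ p ^ 2 ∣ p * n := fun e => h1 (Nat.dvd_of_mul_dvd_mul_left hp.out.pos (sq p ▸ e))
  obtain ⟨K, hK, N, hN, h4, h5, h6, h7⟩ := exists_section (G := G) (p := p) hrp
    (fun e => h3 (e.trans hn)) ⟨hp.out, d, hd, (Dvd.intro_left _ rfl).trans h⟩
    ⟨hr, d, hd, (Dvd.intro _ rfl).trans h⟩ fun c h4 h5 h6 => absurd h6 (h2 c h4 (h5.trans hn))
  have h8 := (dvd_of_eq (card_sec K N)).trans hn
  have h9 : Nat.card N * K.index ∣ n := Nat.dvd_of_mul_dvd_mul_left hp.out.pos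
    ((Nat.mul_dvd_mul_right h6 _).trans h8)
  have h10 : N ≤ center K := le_center N h7 ((Dvd.intro _ rfl).trans h9)
    ⟨h1, fun e => h1 (e ▸ dvd_zero p), fun c h10 h11 =>
      h2 c h11 ((Nat.dvd_of_mem_divisors h10).mul_left p)⟩
  refine ⟨K, hK, N, hN, h4, h5, h6, h10, commutator_eq_top N h5 h7 fun e =>
    h1 (e.trans ((Dvd.intro _ rfl).trans h9)), fun h11 h12 => ?_⟩
  obtain ⟨e, he, k, rfl, hk⟩ := exists_under K hd
  refine (Nat.pow_le_pow_left (Nat.le_of_dvd (pos_of_mem he) (Nat.Coprime.dvd_of_dvd_mul_left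
    (Nat.Coprime.mul_left (hr.coprime_iff_not_dvd.2 fun e => h12 ?_)
      (hp.out.coprime_iff_not_dvd.2 fun e => h1 ?_)) h)) 2).trans (sq_le_index h10 he)
  · exact (sq r ▸ Nat.mul_dvd_mul h11 ((e.trans hk).mul_left _)).trans h8
  · exact ((e.trans hk).mul_left _).trans h9

theorem simple11 (hG : Nat.card G = 7920) {d : ℕ} (hd : d ∈ charDegrees G) (h : 5 * 11 ∣ d) :
    IsSimpleGroup G := by
  obtain ⟨K, hK, N, hN, h1, h2, h3, -, -, h4⟩ := exists_sec (p := 11) (n := 720) (by norm_num)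
    (by norm_num) hG.dvd (by norm_num) (forall_primePow [2, 3, 5, 11] (by decide +kernel)) hd h
  have h5 : _ ∣ 7920 := Dvd.intro _ ((card_sec K N).trans hG)
  have h6 := Nat.le_of_dvd (by norm_num) h5
  have h7 := Agent.S3643.card_mem h2 (h5.trans (by norm_num)) h3
  exact simple_of_sec K N (by omega)

theorem simple22 (hG : Nat.card G = 443520) {d : ℕ} (hd : d ∈ charDegrees G) (h : 5 * 11 ∣ d)
    {f : ℕ} (hf : f ∈ charDegrees G) (h' : 3 * 11 ∣ f) : IsSimpleGroup G := by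
  have := MP.isSimpleGroup_M11
  obtain ⟨K, hK, N, hN, h1, h2, h3, h4, h5, h6⟩ := exists_sec (p := 11) (n := 40320) (by norm_num)
    (by norm_num) hG.dvd (by norm_num) (forall_primePow [2, 3, 5, 7, 11] (by decide +kernel)) hd h
  have h7 := (card_sec K N).trans hG
  rcases Sec11.card_mem h2 (Dvd.intro _ h7) h3 with h8 | h8 | h8
  · omega
  · obtain ⟨φ⟩ := equiv_of_multiplier h4 h5 Agent.S2034.result (O7920.isoM11 h8).some
    obtain ⟨e, he, k, rfl, hk⟩ := exists_under K hf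
    have h9 : 3 * 11 ∣ e := (Nat.Coprime.coprime_dvd_right (hk.trans (Dvd.intro_left _
      (show Nat.card N * K.index = 56 by rw [h8] at h7; omega))) (by norm_num)).dvd_of_dvd_mul_left h'
    exact absurd ((Dvd.intro _ rfl).trans h9) (Agent.S3643.not_dvd_M11 (charDegrees_congr φ ▸ he)
      ((Dvd.intro_left _ rfl).trans h9))
  · exact simple_of_sec K N (h8.trans hG.symm)

theorem simple23 (hG : Nat.card G = 10200960) {d : ℕ} (hd : d ∈ charDegrees G) (h : 11 * 23 ∣ d) :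
    IsSimpleGroup G := by
  obtain ⟨K, hK, N, hN, h1, h2, h3, -, -, h4⟩ := exists_sec (p := 23) (n := 443520) (by norm_num)
    (by norm_num) hG.dvd (by norm_num) (forall_primePow [2, 3, 5, 7, 11, 23] (by decide +kernel))
    hd h
  have h5 : _ ∣ 10200960 := Dvd.intro _ ((card_sec K N).trans hG)
  have h6 := Nat.le_of_dvd (by norm_num) h5
  obtain ⟨h7, h8⟩ := Sec23.card_mem h2 (h5.trans (by norm_num)) h3
  have := h4 h7 (by norm_num)
  exact simple_of_sec K N (by omega)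

theorem simple24 (hG : Nat.card G = 244823040) {d : ℕ} (hd : d ∈ charDegrees G) (h : 11 * 23 ∣ d)
    {f : ℕ} (hf : f ∈ charDegrees G) (h' : 7 * 23 ∣ f) : IsSimpleGroup G := by
  have := MP.isSimpleGroup_M23
  obtain ⟨K, hK, N, hN, h1, h2, h3, h4, h5, h6⟩ := exists_sec (p := 23) (n := 10644480)
    (by norm_num) (by norm_num) hG.dvd (by norm_num)
    (forall_primePow [2, 3, 5, 7, 11, 23] (by decide +kernel)) hd h
  have h7 := (card_sec K N).trans hG
  obtain ⟨h8, h9 | h9 | h9⟩ := Sec23.card_mem h2 (Dvd.intro _ h7) h3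
  · have := h6 h8 (by norm_num)
    omega
  · obtain ⟨φ⟩ := equiv_of_multiplier h4 h5 Agent.S2037.result (O10200960.isoM23 h9).some
    obtain ⟨e, he, k, rfl, hk⟩ := exists_under K hf
    exact absurd ((Nat.Coprime.coprime_dvd_right (hk.trans (Dvd.intro_left _
      (show Nat.card N * K.index = 24 by rw [h9] at h7; omega))) (by norm_num)).dvd_of_dvd_mul_left
      h') ((MatDeg.mem23 MP.card_M23).2 e (charDegrees_congr φ ▸ he))
  · exact simple_of_sec K N (h9.trans hG.symm)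

omit [Finite G] in
theorem edge {M Q : Type*} [Group M] [Group Q] (h : degreeGraph G = degreeGraph M) (φ : M ≃* Q)
    {p q d : ℕ} (hd : d ∈ charDegrees Q) (h1 : p ≠ q ∧ p.Prime ∧ q.Prime ∧ p * q ∣ d) :
    ∃ f ∈ charDegrees G, p * q ∣ f :=
  (h ▸ ⟨h1.1, h1.2.1, h1.2.2.1, d, charDegrees_congr φ ▸ hd, h1.2.2.2⟩ :
    (degreeGraph G).Adj p q).2.2.2

end Cfsg.Lib.Perm.MatRec
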