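import Cfsg.Agent.Perm.FCExist
import Mathlib.GroupTheory.PresentedGroup

/-!
Generators and relations for groups with cyclic Sylow subgroups.
-/

set_option autoImplicit false

namespace Cfsg.Lib.Perm

open Subgroup Cfsg.Lib.Solv
open scoped commutatorElement

variable {G : Type*} [Group G]

theorem conj_pow_eq_pow_pow {x y : G} {r : ℕ} (h : x⁻¹ * y * x = y ^ r) (k : ℕ) :
    (x ^ k)⁻¹ * y * x ^ k = y ^ r ^ k := by
  induction k with
  | zero => simp
  | succ k ih =>
    have h1 : (x ^ (k + 1))⁻¹ * y * x ^ (k + 1) = x⁻¹ * ((x ^ k)⁻¹ * y * x ^ k) * x⁻¹⁻¹ := by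
      rw [pow_succ]; group
    rw [h1, ih, ← conj_pow, inv_inv, h, ← pow_mul, pow_succ']

theorem pow_mod_eq_of_commute {x y : G} {r k : ℕ} (h : x⁻¹ * y * x = y ^ r)
    (hc : y * x ^ k = x ^ k * y) : r ^ k % orderOf y = 1 % orderOf y := by
  have := conj_pow_eq_pow_pow h k
  rw [mul_assoc, hc, inv_mul_cancel_left] at this
  exact pow_eq_pow_iff_modEq.mp (this.symm.trans (pow_one y).symm)

theorem exists_zgroup_gens [Finite G] [IsZGroup G] :
    ∃ (x y : G) (r : ℕ), closure {x, y} = ⊤ ∧ x⁻¹ * y * x = y ^ r ∧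
      (r - 1).Coprime (orderOf y) ∧ (orderOf x).Coprime (orderOf y) ∧ 1 ≤ r ∧
      Nat.card G = orderOf x * orderOf y ∧ (zpowers y).Normal := by
  obtain ⟨H, hH⟩ := exists_right_complement'_of_coprime (IsZGroup.coprime_commutator_index G)
  have h1 : Abelianization G ≃* H := hH.symm.QuotientMulEquiv
  have : IsCyclic H := isCyclic_of_surjective _ h1.surjective
  have := IsZGroup.isCyclic_commutator G
  obtain ⟨x, hx⟩ := (Subgroup.isCyclic_iff_exists_zpowers_eq_top _).mp ‹IsCyclic H›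
  obtain ⟨y, hy⟩ := (Subgroup.isCyclic_iff_exists_zpowers_eq_top _).mp ‹IsCyclic (commutator G)›
  have h2 : orderOf x = (commutator G).index := by
    rw [← Nat.card_zpowers, hx, hH.symm.index_eq_card]
  have h3 : orderOf y = Nat.card (commutator G) := by rw [← Nat.card_zpowers, hy]
  have hn : (zpowers y).Normal := hy ▸ inferInstance
  obtain ⟨r, hr⟩ := mem_powers_iff_mem_zpowers.mpr (hn.conj_mem' y (mem_zpowers y) x)
  have hr' : x⁻¹ * y * x = y ^ (r + orderOf y) := by
    rw [pow_add, pow_orderOf_eq_one, mul_one]; exact hr.symm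
  have h4 : zpowers y ⊔ zpowers x = ⊤ := by rw [hx, hy, hH.sup_eq_top]
  have h5 : 1 ≤ r + orderOf y := le_add_left (orderOf_pos y)
  refine ⟨x, y, r + orderOf y, ?_, hr', ?_, ?_, h5, ?_, hn⟩
  · rw [← h4, Set.pair_comm, ← Set.singleton_union, Subgroup.closure_union, ← zpowers_eq_closure,
      ← zpowers_eq_closure]
  · have : IsCyclic (zpowers y) := inferInstance
    have hN : (zpowers (y ^ (r + orderOf y - 1))).Normal :=
      Fpf.normal_of_le_of_isCyclic (zpowers_le.mpr (pow_mem (mem_zpowers y) _))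
    let π := QuotientGroup.mk' (zpowers (y ^ (r + orderOf y - 1)))
    have h6 : π y * π x = π x * π y := by
      have h7 : π (y ^ (r + orderOf y - 1)) = 1 := (QuotientGroup.eq_one_iff _).mpr (mem_zpowers _)
      have h8 := congrArg π (hr'.trans (pow_sub_one_mul (by omega) y).symm)
      rw [map_mul, map_mul, map_mul, h7, one_mul, map_inv,
        mul_assoc, inv_mul_eq_iff_eq_mul] at h8
      exact h8
    have h7 : commutator G ≤ π.ker := by
      have : IsMulCommutative (zpowers (π y) ⊔ zpowers (π x) : Subgroup _) :=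
        PG.isMulCommutative_sup_zpowers (by
          rintro _ ⟨k, rfl⟩
          exact (Commute.zpow_left h6 k).eq)
      rw [← MonoidHom.map_zpowers, ← MonoidHom.map_zpowers, ← Subgroup.map_sup, h4] at this
      rw [commutator_def, commutator_le]
      intro a _ b _
      rw [MonoidHom.mem_ker, map_commutatorElement, commutatorElement_eq_one_iff_mul_comm]
      exact setLike_mul_comm (s := map π ⊤) ⟨a, trivial, rfl⟩ ⟨b, trivial, rfl⟩
    rw [QuotientGroup.ker_mk', ← hy, zpowers_le] at h7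
    exact mem_zpowers_pow_iff.mp h7
  · rw [h2, h3]; exact (IsZGroup.coprime_commutator_index G).symm
  · rw [h2, h3, index_mul_card]

theorem nonempty_equiv_presented [Finite G] {x y : G} {r : ℕ} (h1 : closure {x, y} = ⊤)
    (h2 : x⁻¹ * y * x = y ^ r) (h3 : Nat.card G = orderOf x * orderOf y) :
    Nonempty (G ≃* PresentedGroup ({FreeGroup.of (0 : Fin 2) ^ orderOf x,
      FreeGroup.of (1 : Fin 2) ^ orderOf y, (FreeGroup.of (0 : Fin 2))⁻¹ * FreeGroup.of 1 *
        FreeGroup.of 0 * (FreeGroup.of (1 : Fin 2) ^ r)⁻¹} : Set (FreeGroup (Fin 2)))) := by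
  set R : Set (FreeGroup (Fin 2)) := {FreeGroup.of (0 : Fin 2) ^ orderOf x,
      FreeGroup.of (1 : Fin 2) ^ orderOf y, (FreeGroup.of (0 : Fin 2))⁻¹ * FreeGroup.of 1 *
        FreeGroup.of 0 * (FreeGroup.of (1 : Fin 2) ^ r)⁻¹} with hR
  have hf : ∀ w ∈ R, FreeGroup.lift ![x, y] w = 1 := by
    rintro _ (rfl | rfl | rfl) <;> simp [h2]
  let f := PresentedGroup.toGroup hf
  have hs : Function.Surjective f := by
    rw [← MonoidHom.range_eq_top, eq_top_iff, ← h1, closure_le]
    rintro _ (rfl | rfl)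
    · exact ⟨PresentedGroup.of 0, PresentedGroup.toGroup.of hf⟩
    · exact ⟨PresentedGroup.of 1, PresentedGroup.toGroup.of hf⟩
  let a : PresentedGroup R := PresentedGroup.of 0
  let b : PresentedGroup R := PresentedGroup.of 1
  have ha : a ^ orderOf x = 1 := PresentedGroup.one_of_mem (x := _ ^ _) (by simp [hR])
  have hb : b ^ orderOf y = 1 := PresentedGroup.one_of_mem (x := _ ^ _) (by simp [hR])
  have hab : a⁻¹ * b * a = b ^ r :=
    mul_inv_eq_one.mp (PresentedGroup.one_of_mem (x := _ * _ * _ * _) (by simp [hR]))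
  have hb' : IsOfFinOrder b := isOfFinOrder_iff_pow_eq_one.mpr ⟨_, orderOf_pos y, hb⟩
  have ha' : IsOfFinOrder a := isOfFinOrder_iff_pow_eq_one.mpr ⟨_, orderOf_pos x, ha⟩
  have : Finite (zpowers b) := finite_zpowers.mpr hb'
  have hn : zpowers a ≤ normalizer (zpowers b : Set (PresentedGroup R)) := by
    rw [zpowers_le, ← inv_mem_iff]
    apply mem_normalizer_fintype
    rintro _ ⟨k, rfl⟩
    rw [← conj_zpow, inv_inv, hab]
    exact zpow_mem (pow_mem (mem_zpowers b) r) k
  have h4 := card_sup_mul_card_inf_of_le_normalizer hn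
  have h5 : zpowers b ⊔ zpowers a = ⊤ := by
    rw [eq_top_iff, ← PresentedGroup.closure_range_of, closure_le]
    rintro _ ⟨i, rfl⟩
    fin_cases i
    · exact mem_sup_right (mem_zpowers a)
    · exact mem_sup_left (mem_zpowers b)
  rw [h5, card_top, Nat.card_zpowers, Nat.card_zpowers] at h4
  have h6 : 0 < orderOf b * orderOf a := Nat.mul_pos hb'.orderOf_pos ha'.orderOf_pos
  have : Finite (PresentedGroup R) :=
    Nat.finite_of_card_ne_zero (left_ne_zero_of_mul (h4 ▸ h6.ne'))
  refine ⟨(MulEquiv.ofBijective f (hs.bijective_of_nat_card_le ?_)).symm⟩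
  rw [h3, mul_comm]
  exact (Nat.le_of_dvd h6 (Dvd.intro _ h4)).trans (Nat.mul_le_mul
    (orderOf_le_of_pow_eq_one (orderOf_pos y) hb) (orderOf_le_of_pow_eq_one (orderOf_pos x) ha))

theorem IsFC.mem_centralizer_of_prime [Finite G] (h : IsFC G) {D : Subgroup G} [IsMulCommutative D]
    {x : G} (hx : x ∈ normalizer (D : Set G)) {q : ℕ} (hq : q.Prime) (hxq : x ^ q = 1) :
    x ∈ centralizer (D : Set G) := by
  rcases subsingleton_or_nontrivial G with _ | _
  · exact fun _ _ => Subsingleton.elim _ _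
  obtain ⟨L, _, _, H, hH, ⟨e⟩⟩ := h.exists_frobenius.{0}
  obtain ⟨K, -, _, hK, -, hfpf, -⟩ := Fpf.exists_kernel' hH
  let f := H.subtype.comp e.toMonoidHom
  have := Fpf.mem_centralizer_of_prime (Fpf.le_normalizer_of_normal' K H) hK hfpf (D := D.map f)
    (by rintro _ ⟨d, -, rfl⟩; exact (e d).2) (x := f x) (e x).2
    (le_normalizer_map f ⟨x, hx, rfl⟩) hq (by rw [← map_pow, hxq, map_one])
  have hf : Function.Injective f := H.subtype_injective.comp e.injective
  exact fun d hd => hf (by rw [map_mul, map_mul]; exact this _ ⟨d, hd, rfl⟩)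

theorem IsFC.pow_mem_centralizer [Finite G] (h : IsFC G) (D : Subgroup G) [IsMulCommutative D]
    [D.Normal] (x : G) :
    x ^ (orderOf x / ∏ p ∈ (orderOf x).primeFactors, p) ∈ centralizer (D : Set G) := by
  set n := orderOf x
  set n' := ∏ p ∈ n.primeFactors, p
  let π := QuotientGroup.mk' (centralizer (D : Set G))
  rw [← QuotientGroup.eq_one_iff, ← orderOf_eq_one_iff]
  by_contra h1
  obtain ⟨p, hp, hd⟩ := Nat.exists_prime_and_dvd h1
  obtain ⟨c, hc⟩ : n' ∣ n := Nat.prod_primeFactors_dvd n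
  have hsq : Squarefree n' := Finset.squarefree_prod_of_pairwise_isCoprime
    (fun a ha b hb hab => Nat.coprime_iff_isRelPrime.mp ((Nat.coprime_primes
      (Nat.prime_of_mem_primeFactors ha) (Nat.prime_of_mem_primeFactors hb)).mpr hab))
    fun a ha => (Nat.prime_of_mem_primeFactors ha).squarefree
  have h2 : n / n' = c := by rw [hc, Nat.mul_div_cancel_left _ (Nat.pos_of_ne_zero hsq.ne_zero)]
  rw [h2] at hd
  have h3 : (x ^ c) ^ n' = 1 := by rw [← pow_mul, mul_comm, ← hc, pow_orderOf_eq_one]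
  obtain ⟨d, hd'⟩ : p ∣ n' := hd.trans (orderOf_dvd_of_pow_eq_one (by
    rw [← QuotientGroup.mk_pow, h3, QuotientGroup.mk_one]))
  have h4 : (x ^ c) ^ d ∈ centralizer (D : Set G) := h.mem_centralizer_of_prime
    (Fpf.mem_normalizer_of_normal D _) hp (by rw [← pow_mul, mul_comm, ← hd', h3])
  have h5 : p ∣ d := hd.trans (orderOf_dvd_of_pow_eq_one (by
    rwa [← QuotientGroup.mk_pow, QuotientGroup.eq_one_iff]))
  exact hp.one_lt.ne' (Nat.isUnit_iff.mp (hsq p (hd' ▸ mul_dvd_mul_left p h5)))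

end Cfsg.Lib.Perm
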