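import Cfsg.Agent.PrimeOne.Elim
import Cfsg.Agent.PrimeOne.SqOrder
import Cfsg.Agent.S0496
import Cfsg.Agent.S0983

/-!
# The orders of the nonabelian simple groups of order at most 6232
-/

set_option autoImplicit false

open Cfsg Subgroup Cfsg.Lib.Known Cfsg.Lib.PrimeOne Cfsg.Lib.Block

namespace Cfsg.Lib.Perm.SmallOrd

instance fact5 : Fact (Nat.Prime 5) := ⟨Nat.prime_five⟩
instance fact7 : Fact (Nat.Prime 7) := ⟨by norm_num⟩
instance fact3 : Fact (Nat.Prime 3) := ⟨Nat.prime_three⟩

theorem card_sylow_75 {K : Type*} [Group K] [Finite K] (hK : Nat.card K = 75) :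
    Nat.card (Sylow 5 K) = 1 := by
  have h5 := SC.card_sylow_dvd (p := 5) (k := 2) (m := 3) hK (by norm_num)
  have h4 := Nat.le_of_dvd (by norm_num) h5
  have h6 := card_sylow_modEq_one 5 K
  generalize Nat.card (Sylow 5 K) = m at *
  interval_cases m <;> simp_all [Nat.ModEq]

theorem card_sylow_150 {K : Type*} [Group K] [Finite K] (hK : Nat.card K = 150) :
    Nat.card (Sylow 5 K) = 1 := by
  obtain ⟨T⟩ : Nonempty (Sylow 2 K) := inferInstance
  have hT : ∀ T : Sylow 2 K, Nat.card T = 2 := fun T =>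
    SC.sylow_card_eq_pow T (k := 1) (m := 75) hK (by norm_num)
  obtain ⟨T', N, hN, hc⟩ := Trans.hasNormalPComplement_of_isCyclic_of_coprime T
    (isCyclic_of_prime_card (hT T)) (by simp)
  have h2 : N.index = 2 := hc.symm.index_eq_card.trans (hT T')
  have h3 : Nat.card N = 75 := by
    have := card_mul_index N
    rw [h2] at this
    omega
  exact card_sylow_eq_one_of_normal (N := N) (card_sylow_75 h3) (by omega)

variable {G : Type*} [Group G] [Finite G]

theorem card_ne_of_two {P R : Sylow 5 G} (hne : R ≠ P) {K : Subgroup G} (hP : (P : Subgroup G) ≤ K)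
    (hR : (R : Subgroup G) ≤ K) : Nat.card K ≠ 75 ∧ Nat.card K ≠ 150 := by
  have h : Nat.card (Sylow 5 K) ≠ 1 := fun h => by
    have : Subsingleton (Sylow 5 K) := (Nat.card_eq_one_iff_unique.1 h).1
    exact hne (Sylow.subtype_injective (Subsingleton.elim (R.subtype hR) (P.subtype hP)))
  exact ⟨fun e => h (card_sylow_75 e), fun e => h (card_sylow_150 e)⟩

variable [IsSimpleGroup G] (hG : ¬ IsMulCommutative G)
include hG

theorem exists_pair {m : ℕ} (hn : Nat.card G = 5 ^ 2 * m) (hm : ¬ 5 ∣ m)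
    (h : ¬ Nat.card (Sylow 5 G) ≡ 1 [MOD 5 ^ 2]) :
    ∃ (P R : Sylow 5 G) (D : Subgroup G) (s u : ℕ), R ≠ P ∧ Nat.card D = 5 ∧ D ≤ P ∧
      (P : Subgroup G) ≤ centralizer (D : Set G) ∧ (R : Subgroup G) ≤ centralizer (D : Set G) ∧
      s % 5 = 1 ∧ 1 < s ∧
      Nat.card (normalizer ((P : Subgroup G) : Set G) ⊓ normalizer (D : Set G) : Subgroup G) =
        25 * u ∧ Nat.card (normalizer (D : Set G)) = 25 * u * s ∧ u * s ≠ 6 ∧
      u * s * (normalizer (D : Set G)).index = m ∧ 10 ≤ (normalizer (D : Set G)).index := by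
  obtain ⟨P, R, hne, h1, hP, hR⟩ := exists_inf_of_not_modEq h
  obtain ⟨s, hs, hs1, h2⟩ := exists_mul_eq_card hne hP hR
  have hc : ∀ P : Sylow 5 G, Nat.card P = 5 ^ 2 := fun P => SC.sylow_card_eq_pow P hn hm
  have hcomm := fun P : Sylow 5 G => IsPGroup.isMulCommutative_of_card_eq_prime_sq (hc P)
  have hle : ∀ Q : Sylow 5 G, (P : Subgroup G) ⊓ R ≤ Q →
      (Q : Subgroup G) ≤ centralizer (((P : Subgroup G) ⊓ R : Subgroup G) : Set G) := fun Q hQ =>
    have := hcomm Q
    (le_centralizer _).trans (centralizer_le hQ)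
  have hD : Nat.card ((P : Subgroup G) ⊓ R : Subgroup G) = 5 := by
    have h3 : Nat.card ((P : Subgroup G) ⊓ R : Subgroup G) ∣ 5 ^ 2 :=
      (card_dvd_of_le inf_le_left).trans (dvd_of_eq (hc P))
    obtain ⟨j, hj, h4⟩ := (Nat.dvd_prime_pow Nat.prime_five).1 h3
    have h5 : Nat.card P = 5 ^ 2 := hc P
    interval_cases j
    · omega
    · exact h4
    · exfalso
      have h6 := eq_of_le_of_card_ge (inf_le_right : (P : Subgroup G) ⊓ R ≤ R)
        (by rw [h4]; exact (hc R).le)
      exact hne (sylow_eq_of_le_normalizer (h6.ge.trans (inf_le_left.trans le_normalizer)))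
  obtain ⟨u, hu⟩ := card_dvd_of_le (le_inf le_normalizer hP)
  rw [show Nat.card (P : Subgroup G) = 25 from hc P] at hu
  have h5 := two_mul_card_dvd_factorial hG (normalizer_ne_top hG (H := (P : Subgroup G) ⊓ R)
    (fun h => by rw [h, card_bot] at hD; omega)
    fun h => sylow_ne_top hG P (top_le_iff.1 (h.ge.trans inf_le_left)))
  have h6 := card_mul_index (normalizer (((P : Subgroup G) ⊓ R : Subgroup G) : Set G))
  refine ⟨P, R, _, s, u, hne, hD, inf_le_left, hle P inf_le_left, hle R inf_le_right, hs, hs1, hu,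
    by rw [← h2, hu], fun e => (card_ne_of_two hne hP hR).2
    (by rw [← h2, hu, mul_assoc, e]; rfl), ?_, ?_⟩
  · rw [← h2, hu, hn] at h6
    linarith
  · by_contra h7
    have h8 : 25 ∣ (normalizer (((P : Subgroup G) ⊓ R : Subgroup G) : Set G)).index.factorial :=
      Dvd.dvd.trans (by rw [hn]; exact Dvd.intro (2 * m) (by ring)) h5
    generalize (normalizer (((P : Subgroup G) ⊓ R : Subgroup G) : Set G)).index = i at *
    have : i < 10 := by omega
    interval_cases i <;> simp_all [Nat.factorial]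

theorem card_ne_1764 : Nat.card G ≠ 1764 := fun h => by
  obtain ⟨P⟩ : Nonempty (Sylow 7 G) := inferInstance
  have h1 := SC.card_sylow_dvd (p := 7) (k := 2) (m := 36) h (by norm_num)
  have h2 := card_sylow_mul_ne hG (SC.sylow_card_eq_pow P (k := 2) (m := 36) h (by norm_num))
  have h3 := one_lt_card_sylow hG (p := 7) (by omega)
  have h4 := card_sylow_modEq_one 7 G
  have h5 := Nat.le_of_dvd (by norm_num) h1
  rw [h] at h2
  generalize Nat.card (Sylow 7 G) = m at *
  interval_cases m <;> simp_all [Nat.ModEq]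

theorem card_ne_3528 : Nat.card G ≠ 3528 := fun h => by
  have h1 := SC.card_sylow_dvd (p := 7) (k := 2) (m := 72) h (by norm_num)
  have h2 := one_lt_card_sylow hG (p := 7) (by omega)
  obtain ⟨i, s, hs, hs1, h3, h4⟩ := exists_index_of_not_modEq hG (p := 7) (k := 2) (m := 72) h
    (by norm_num) (by norm_num) (by
      have := Nat.le_of_dvd (by norm_num) h1
      unfold Nat.ModEq
      generalize Nat.card (Sylow 7 G) = m at *
      intro h
      have : m = 50 := by omega
      subst this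
      norm_num at h1)
  have h5 := Nat.le_of_dvd (by norm_num) h3
  have h6 : 8 ≤ s := by unfold Nat.ModEq at hs; omega
  have h7 : i ≤ 9 := by nlinarith
  rw [h] at h4
  interval_cases i <;> simp_all [Nat.factorial]

theorem not_modEq {m : ℕ} (hn : Nat.card G = 5 ^ 2 * m) (hm : ¬ 5 ∣ m)
    (h : ∀ d ∈ Nat.divisors m, d % 25 = 1 → d = 1) : ¬ Nat.card (Sylow 5 G) ≡ 1 [MOD 5 ^ 2] :=
  fun e => (one_lt_card_sylow hG (p := 5) (by omega)).ne' (h _ (Nat.mem_divisors.2
    ⟨SC.card_sylow_dvd hn hm, by rintro rfl; simp at hm⟩) e)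

theorem card_ne_1800 : Nat.card G ≠ 1800 := fun h => by
  obtain ⟨P, R, D, s, u, -, -, -, -, -, h1, h2, -, -, h3, h4, h5⟩ :=
    exists_pair hG (m := 72) h (by norm_num) (not_modEq hG (m := 72) h (by norm_num) (by decide))
  generalize (normalizer (D : Set G)).index = i at *
  have h6 : u * s ≤ 7 := by nlinarith
  have h7 : 0 < u := Nat.pos_of_ne_zero (by rintro rfl; simp at h4)
  have h8 : s = 6 := by have : s ≤ 7 := by nlinarith
                        omega
  subst h8
  omega

theorem card_ne_2700 : Nat.card G ≠ 2700 := fun h => by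
  obtain ⟨P, R, D, s, u, -, -, -, -, -, h1, h2, -, -, h3, h4, h5⟩ :=
    exists_pair hG (m := 108) h (by norm_num) (not_modEq hG (m := 108) h (by norm_num) (by decide))
  generalize (normalizer (D : Set G)).index = i at *
  have h6 : u * s ≤ 10 := by nlinarith
  have h7 : 0 < u := Nat.pos_of_ne_zero (by rintro rfl; simp at h4)
  have h8 : s = 6 := by have : s ≤ 10 := by nlinarith
                        omega
  subst h8
  omega

theorem card_ne_3600 : Nat.card G ≠ 3600 := fun h => by
  obtain ⟨P, R, D, s, u, hne, hD, hDP, hP, hR, h1, h2, hM, hH, h3, h4, h5⟩ :=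
    exists_pair hG (m := 144) h (by norm_num) (not_modEq hG (m := 144) h (by norm_num) (by decide))
  have hsu : s = 6 ∧ u = 2 := by
    generalize (normalizer (D : Set G)).index = i at *
    have h6 : u * s ≤ 14 := by nlinarith
    have h7 : 0 < u := Nat.pos_of_ne_zero (by rintro rfl; simp at h4)
    have h8 : s = 6 ∨ s = 11 := by have : s ≤ 14 := by nlinarith
                                   omega
    rcases h8 with rfl | rfl
    · omega
    · obtain rfl : u = 1 := by omega
      omega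
  obtain ⟨rfl, rfl⟩ := hsu
  have hc : Nat.card P = 5 ^ 2 := SC.sylow_card_eq_pow P (k := 2) (m := 144) h (by norm_num)
  have hcomm := IsPGroup.isMulCommutative_of_card_eq_prime_sq hc
  have hC : normalizer (D : Set G) ≤ centralizer (D : Set G) := by
    have h6 := SC.card_normalizer_eq_mul D
    have h7 := SC.relIndex_centralizer_dvd_sub_one Nat.prime_five D hD
    have h8 := card_ne_of_two hne hP hR
    have h9 := Nat.le_of_dvd (by norm_num) h7
    rw [← relIndex_eq_one]
    generalize (centralizer (D : Set G)).relIndex (normalizer (D : Set G)) = r at *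
    interval_cases r <;> omega
  have hN : Nat.card (normalizer ((P : Subgroup G) : Set G)) = 100 := by
    have h6 := SC.card_normalizer_mul_card_sylow P
    obtain ⟨v, hv⟩ := card_dvd_of_le (inf_le_left :
      normalizer ((P : Subgroup G) : Set G) ⊓ normalizer (D : Set G) ≤ _)
    have h7 := two_mul_card_dvd_factorial_sylow hG (p := 5) (by omega)
    have h8 := card_sylow_modEq_one 5 G
    rw [hM] at hv
    rw [hv, h] at h6
    rw [h] at h7
    have h9 : ∀ m ∈ Nat.divisors 72, m % 5 = 1 → m = 1 ∨ m = 6 ∨ m = 36 := by decide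
    rcases h9 _ (Nat.mem_divisors.2 ⟨Dvd.intro_left v (by linarith), by norm_num⟩) h8 with
      e | e | e <;> rw [e] at h6 h7
    · simp at h7
    · norm_num [Nat.factorial] at h7
    · omega
  set N := normalizer ((P : Subgroup G) : Set G)
  set H := normalizer (D : Set G)
  have hi : (H.subgroupOf N).index = 2 := by
    have := card_inf_mul_relIndex H N
    rw [inf_comm, hM, hN] at this
    change H.relIndex N = 2
    omega
  obtain ⟨a, ha⟩ := index_eq_two_iff_exists_notMem_and.1 hi
  obtain ⟨d, hd, hd1⟩ : ∃ d ∈ D, d ≠ 1 := by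
    by_contra! e
    rw [(eq_bot_iff_forall _).2 e, card_bot] at hD
    omega
  have hcd : ∀ x ∈ H, x * d = d * x := fun x hx => (hC hx d hd).symm
  have hn : (H.subgroupOf N).Normal := normal_of_index_eq_two hi
  have hz : ∀ x : N, (x : G) ∈ H → (x : G) * (a * d * (a : G)⁻¹) = a * d * (a : G)⁻¹ * x := by
    intro x hx
    have h6 := hcd _ (mem_subgroupOf.1 (hn.conj_mem' x (mem_subgroupOf.2 hx) a))
    simp only [Subgroup.coe_mul, Subgroup.coe_inv] at h6
    calc (x : G) * (a * d * (a : G)⁻¹) = a * ((a : G)⁻¹ * x * a * d) * (a : G)⁻¹ := by group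
      _ = _ := by rw [h6]; group
  have hPa : (a : G) * d * (a : G)⁻¹ ∈ (P : Subgroup G) := (mem_normalizer_iff.1 a.2 d).1 (hDP hd)
  have hcm : d * (a * d * (a : G)⁻¹) = a * d * (a : G)⁻¹ * d :=
    congrArg Subtype.val (hcomm.is_comm.comm (⟨d, hDP hd⟩ : (P : Subgroup G)) ⟨_, hPa⟩)
  have : Group.IsPerfect G := isPerfect_of_simple_of_not_prime (by rw [h]; norm_num)
  have h6 := eq_one_of_central_in_normalizer P (mul_mem (hDP hd) hPa) fun n hn' => by
    have h7 : ∀ x : N, (x : G) ∈ H → (x : G) * (d * (a * d * (a : G)⁻¹)) =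
        d * (a * d * (a : G)⁻¹) * x := fun x hx => by
      rw [← mul_assoc, hcd _ hx, mul_assoc, hz x hx, ← mul_assoc]
    have h8 : (a : G) * (d * (a * d * (a : G)⁻¹)) = d * (a * d * (a : G)⁻¹) * a := by
      have h9 := hcd _ (mem_subgroupOf.1 ((ha.2 a).resolve_right ha.1))
      simp only [Subgroup.coe_mul] at h9
      rw [hcm]
      calc (a : G) * (a * d * (a : G)⁻¹ * d) = (a * a * d) * (a : G)⁻¹ * d := by group
        _ = d * (a * d * (a : G)⁻¹) * (a * d⁻¹ * (a : G)⁻¹) * a * d := by rw [h9]; group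
        _ = _ := by rw [hcm]; group
    rcases ha.2 ⟨n, hn'⟩ with e | e
    · have h9 := h7 _ (mem_subgroupOf.1 e)
      simp only [Subgroup.coe_mul] at h9
      rw [mul_assoc, h8, ← mul_assoc, ← mul_assoc _ n] at h9
      exact mul_right_cancel h9
    · exact h7 _ (mem_subgroupOf.1 e)
  refine ha.1 (mem_subgroupOf.2 ?_)
  have h7 : (a : G) * d * (a : G)⁻¹ = d⁻¹ := eq_inv_of_mul_eq_one_right h6
  refine mem_normalizer_fintype fun n hn => ?_
  obtain ⟨k, rfl⟩ := (SC.zpowers_eq_of_card_prime Nat.prime_five hD hd hd1).ge hn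
  change (a : G) * d ^ k * (a : G)⁻¹ ∈ D
  rw [← conj_zpow, h7]
  exact zpow_mem (inv_mem hd) k

theorem params {p n B : ℕ} [hp : Fact p.Prime] (hn : Nat.card G = n) (hB : n < B * B)
    {qs : List ℕ} (hq : ∀ q ∈ qs, q.Prime) {P : Sylow p G} (hP : Nat.card P = p) :
    ∃ c e, Nat.card (centralizer ((P : Subgroup G) : Set G)) = p * c ∧
      Nat.card (normalizer ((P : Subgroup G) : Set G)) = p * c * e ∧ 2 ≤ e ∧ e ∣ p - 1 ∧
      n = p * Nat.card (Sylow p G) * e * c ∧ Nat.card (Sylow p G) % p = 1 ∧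
      1 < Nat.card (Sylow p G) ∧ ¬ killE B n p (Nat.card (Sylow p G)) e qs = true := by
  obtain ⟨c, hc⟩ : p ∣ Nat.card (centralizer ((P : Subgroup G) : Set G)) :=
    (dvd_of_eq hP.symm).trans (card_dvd_of_le (le_centralizer_self hP))
  obtain ⟨t, S, y, het, h⟩ := exists_good hG hP hc rfl
  have h2 := two_le_relIndex hP (commutator_eq_top hG)
  have h3 : Nat.card G = p * Nat.card (Sylow p G) * (centralizer ((P : Subgroup G) : Set G)).relIndex
      (normalizer ((P : Subgroup G) : Set G)) * c := by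
    rw [← card_mul_index (centralizer ((P : Subgroup G) : Set G)), index_centralizer, hc]
    ring
  have h4 := one_lt_card_sylow hG (p := p)
    ((dvd_of_eq hP.symm).trans (card_subgroup_dvd_card _))
  have h5 := card_sylow_modEq_one p G
  rw [hn] at h h3
  exact ⟨c, _, hc, by rw [SC.card_normalizer_eq_mul, hc], h2, PS.relIndex_dvd P hP, h3,
    by rwa [Nat.ModEq, Nat.mod_eq_of_lt hp.out.one_lt] at h5, h4,
    h.not_killE hB h2 het hp.out (by omega) h3 hq⟩

omit hG in
theorem dec5 : ∀ M ∈ Nat.divisors 672, ∀ e ∈ Nat.divisors 4, M % 5 = 1 → 1 < M → 2 ≤ e →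
    5 * M * e ∣ 3360 → (M = 336 ∧ e = 2) ∨ killE 60 3360 5 M e [2, 3, 5, 7] = true := by
  decide +kernel

omit hG in
theorem dec3 : ∀ M ∈ Nat.divisors 1120, ∀ e ∈ Nat.divisors 2, M % 3 = 1 → 1 < M → 2 ≤ e →
    3 * M * e ∣ 3360 → (M = 28 ∧ e = 2) ∨ killE 60 3360 3 M e [2, 3, 5, 7] = true := by
  decide +kernel

theorem card_ne_3360 : Nat.card G ≠ 3360 := fun h => by
  have hq : ∀ q ∈ [2, 3, 5, 7], q.Prime := by simp; norm_num
  obtain ⟨Q⟩ : Nonempty (Sylow 3 G) := inferInstance
  have hQ : Nat.card Q = 3 := PS.card_sylow_eq (by rw [h]; norm_num) (by rw [h]; norm_num) Q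
  obtain ⟨c, e, h1, -, h3, h4, h5, h6, h7, h8⟩ := params hG h (B := 60) (by norm_num) hq hQ
  obtain ⟨h9, rfl⟩ := (dec3 _ (Nat.mem_divisors.2 ⟨⟨e * c, by linarith⟩, by norm_num⟩) _
    (Nat.mem_divisors.2 ⟨h4, by norm_num⟩) h6 h7 h3 ⟨c, h5⟩).resolve_right h8
  rw [h9] at h5
  obtain ⟨x, hx⟩ := exists_prime_orderOf_dvd_card' (G := centralizer ((Q : Subgroup G) : Set G)) 5
    (by omega)
  obtain ⟨P, hP⟩ := SC.exists_sylow_mem_of_orderOf (p := 5) (g := (x : G)) (k := 1)
    (by rw [orderOf_coe, hx]; rfl)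
  have hPc : Nat.card P = 5 := PS.card_sylow_eq (by rw [h]; norm_num) (by rw [h]; norm_num) P
  obtain ⟨c', e, g1, -, g3, g4, g5, g6, g7, g8⟩ := params hG h (B := 60) (by norm_num) hq hPc
  obtain ⟨g9, rfl⟩ := (dec5 _ (Nat.mem_divisors.2 ⟨⟨e * c', by linarith⟩, by norm_num⟩) _
    (Nat.mem_divisors.2 ⟨g4, by norm_num⟩) g6 g7 g3 ⟨c', g5⟩).resolve_right g8
  rw [g9] at g5
  have h10 : (Q : Subgroup G) ≤ P := fun y hy => centralizer_le_of_card_prime hPc (by omega) x hP
    (fun e => by rw [← orderOf_coe, e] at hx; simp at hx) y (x.2 y hy)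
  have := card_dvd_of_le h10
  rw [hQ, hPc] at this
  norm_num at this

/-- The orders of the nonabelian simple groups of order at most 6232. -/
theorem card_mem (h : Nat.card G ≤ 6232) : Nat.card G ∈
    [60, 168, 360, 504, 660, 1092, 2448, 2520, 3420, 4080, 5616, 6048, 6072] := by
  simp only [List.mem_cons, List.not_mem_nil, or_false]
  by_cases h1 : Nat.card G ≤ 1092
  · have := Cfsg.Agent.S0496.result hG h1
    omega
  by_cases h2 : 3640 < Nat.card G
  · have := Cfsg.Agent.S0983.result hG h2 h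
    omega
  have h3 : allBelow (fun n => n ≤ 1092 || kill 80 n || n == 1764 || n == 1800 || n == 2448 ||
      n == 2520 || n == 2700 || n == 3360 || n == 3420 || n == 3528 || n == 3600) 3641 = true := by
    decide +kernel
  have h4 := allBelow_sound h3 _ (Nat.lt_succ_of_le (not_lt.1 h2))
  have h5 := card_ne_1764 hG
  have h6 := card_ne_1800 hG
  have h7 := card_ne_2700 hG
  have h8 := card_ne_3360 hG
  have h9 := card_ne_3528 hG
  have h10 := card_ne_3600 hG
  simp only [Bool.or_eq_true, eq_false (not_kill hG 80), or_false, beq_iff_eq,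
    decide_eq_true_eq] at h4
  omega

end Cfsg.Lib.Perm.SmallOrd
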