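import Mathlib.GroupTheory.GroupAction.Primitive
import Cfsg.Agent.Perm.MinNormal
import Cfsg.Agent.Solv.SylowNumber
import Cfsg.Agent.S0144

/-!
# Simple factors of a non-abelian minimal normal subgroup; derangements in primitive groups
-/

set_option autoImplicit false
set_option linter.unusedSectionVars false

open scoped Pointwise

namespace Cfsg.Lib.Perm.Socle

open MulAction

variable {G : Type*} [Group G]

theorem mem_cj {g x : G} {T : Subgroup G} : x ∈ MulAut.conj g • T ↔ g⁻¹ * x * g ∈ T := by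
  rw [Subgroup.mem_pointwise_smul_iff_inv_smul_mem]
  simp [MulAut.smul_def]

theorem eq_one_of_conj {g x : G} (h : g * x * g⁻¹ = 1) : x = 1 := by
  have : x = g⁻¹ * (g * x * g⁻¹) * g := by group
  rw [this, h]; group

/-- `N` is a minimal normal subgroup of `G`. -/
structure MinN (N : Subgroup G) : Prop where
  normal : N.Normal
  ne : N ≠ ⊥
  min : ∀ M : Subgroup G, M.Normal → M ≤ N → M = ⊥ ∨ M = N

/-- `T` is a minimal normal subgroup of `N` (ambient form). -/
structure Factor (N T : Subgroup G) : Prop where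
  le : T ≤ N
  ne : T ≠ ⊥
  conj : ∀ n ∈ N, ∀ t ∈ T, n * t * n⁻¹ ∈ T
  min : ∀ X : Subgroup G, X ≤ T → (∀ n ∈ N, ∀ x ∈ X, n * x * n⁻¹ ∈ X) → X = ⊥ ∨ X = T

theorem exists_minN [Finite G] (K : Subgroup G) [hK : K.Normal] (h : K ≠ ⊥) :
    ∃ N : Subgroup G, MinN N ∧ N ≤ K := by
  classical
  obtain ⟨N, ⟨h1, h2, h3⟩, hmin⟩ := (wellFounded_lt (α := Subgroup G)).has_min
    {N | N.Normal ∧ N ≠ ⊥ ∧ N ≤ K} ⟨K, hK, h, le_rfl⟩
  refine ⟨N, ⟨h1, h2, fun M hM hle => ?_⟩, h3⟩
  by_contra hc
  push Not at hc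
  exact hmin M ⟨hM, hc.1, hle.trans h3⟩ (lt_of_le_of_ne hle hc.2)

theorem exists_factor [Finite G] {N : Subgroup G} (h : N ≠ ⊥) : ∃ T, Factor N T := by
  classical
  obtain ⟨T, ⟨h1, h2, h3⟩, hmin⟩ := (wellFounded_lt (α := Subgroup G)).has_min
    {T | T ≤ N ∧ T ≠ ⊥ ∧ ∀ n ∈ N, ∀ t ∈ T, n * t * n⁻¹ ∈ T}
    ⟨N, le_rfl, h, fun n hn t ht => N.mul_mem (N.mul_mem hn ht) (N.inv_mem hn)⟩
  refine ⟨T, h1, h2, h3, fun X hX hc => ?_⟩
  by_contra hne
  push Not at hne
  exact hmin X ⟨hX.trans h1, hne.1, hc⟩ (lt_of_le_of_ne hX hne.2)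

namespace Factor

variable {N T T' : Subgroup G}

theorem conj' (h : Factor N T) {n t : G} (hn : n ∈ N) (ht : t ∈ T) : n⁻¹ * t * n ∈ T := by
  simpa using h.conj n⁻¹ (N.inv_mem hn) t ht

theorem smul [hN : N.Normal] (h : Factor N T) (g : G) : Factor N (MulAut.conj g • T) where
  le x hx := by
    have := hN.conj_mem _ (h.le (mem_cj.1 hx)) g
    simpa [mul_assoc] using this
  ne := by
    intro h0
    apply h.ne
    rw [eq_bot_iff]
    intro t ht
    have : g * t * g⁻¹ ∈ MulAut.conj g • T := mem_cj.2 (by simpa [mul_assoc] using ht)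
    rw [h0, Subgroup.mem_bot] at this
    exact eq_one_of_conj this
  conj n hn t ht := by
    rw [mem_cj] at ht ⊢
    have := h.conj (g⁻¹ * n * g) (by simpa using hN.conj_mem n hn g⁻¹) _ ht
    simpa [mul_assoc] using this
  min X hX hc := by
    rcases h.min (MulAut.conj g⁻¹ • X) (fun x hx => by
        have := mem_cj.1 (hX (mem_cj.1 hx))
        simpa [mul_assoc] using this) (fun n hn x hx => by
        rw [mem_cj] at hx ⊢
        have := hc (g * n * g⁻¹) (hN.conj_mem n hn g) _ hx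
        simpa [mul_assoc] using this) with h0 | h0
    · left
      rw [eq_bot_iff]
      intro x hx
      have : g⁻¹ * x * g ∈ MulAut.conj g⁻¹ • X := mem_cj.2 (by simpa [mul_assoc] using hx)
      rw [h0, Subgroup.mem_bot] at this
      simpa [mul_assoc, inv_mul_eq_iff_eq_mul] using this
    · right
      refine le_antisymm hX fun x hx => ?_
      have h1 := mem_cj.1 hx
      rw [← h0, mem_cj] at h1
      simpa [mul_assoc] using h1

theorem eq_one_of_mem (h : Factor N T) (h' : Factor N T') (hne : T ≠ T') {x : G} (hx : x ∈ T)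
    (hx' : x ∈ T') : x = 1 := by
  rcases h.min (T ⊓ T') inf_le_left
    (fun n hn y hy => ⟨h.conj n hn y hy.1, h'.conj n hn y hy.2⟩) with h0 | h0
  · have : x ∈ T ⊓ T' := ⟨hx, hx'⟩
    rwa [h0, Subgroup.mem_bot] at this
  · exfalso
    rcases h'.min T (by rw [← h0]; exact inf_le_right) h.conj with h1 | h1
    · exact h.ne h1
    · exact hne h1

theorem comm (h : Factor N T) (h' : Factor N T') (hne : T ≠ T') {x y : G} (hx : x ∈ T)
    (hy : y ∈ T') : x * y = y * x := by
  have h1 : x * y * x⁻¹ * y⁻¹ ∈ T' := T'.mul_mem (h'.conj x (h.le hx) y hy) (T'.inv_mem hy)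
  have h2 : x * y * x⁻¹ * y⁻¹ ∈ T := by
    have := T.mul_mem hx (h.conj y (h'.le hy) x⁻¹ (T.inv_mem hx))
    simpa [mul_assoc] using this
  have := h.eq_one_of_mem h' hne h2 h1
  rw [mul_inv_eq_one, mul_inv_eq_iff_eq_mul] at this
  exact this

/-- The centralizer of a factor is invariant under `N`. -/
theorem cent_conj (h : Factor N T) {n c : G} (hn : n ∈ N) (hc : ∀ s ∈ T, c * s = s * c) :
    ∀ s ∈ T, (n * c * n⁻¹) * s = s * (n * c * n⁻¹) := by
  intro s hs
  have := hc _ (h.conj' hn hs)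
  calc n * c * n⁻¹ * s = n * (c * (n⁻¹ * s * n)) * n⁻¹ := by group
    _ = n * (n⁻¹ * s * n * c) * n⁻¹ := by rw [this]
    _ = s * (n * c * n⁻¹) := by group

theorem normalClosure_eq (hN : MinN N) (h : Factor N T) :
    Subgroup.normalClosure (T : Set G) = N := by
  have := hN.normal
  rcases hN.min (Subgroup.normalClosure (T : Set G)) inferInstance
    (Subgroup.normalClosure_le_normal h.le) with h0 | h0
  · exfalso
    apply h.ne
    rw [eq_bot_iff, ← h0]
    exact Subgroup.le_normalClosure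
  · exact h0

/-- A subgroup containing all conjugates of a factor contains `N`. -/
theorem le_of_conj_mem (hN : MinN N) (h : Factor N T) {X : Subgroup G}
    (hX : ∀ g : G, ∀ t ∈ T, g * t * g⁻¹ ∈ X) : N ≤ X := by
  rw [← h.normalClosure_eq hN, Subgroup.normalClosure, Subgroup.closure_le]
  intro x hx
  obtain ⟨t, ht, hc⟩ := Group.mem_conjugatesOfSet_iff.1 hx
  obtain ⟨g, rfl⟩ := isConj_iff.1 hc
  exact hX g t ht

theorem decomp (hN : MinN N) (h : Factor N T) {n : G} (hn : n ∈ N) :
    ∃ t ∈ T, ∃ c ∈ N, (∀ s ∈ T, c * s = s * c) ∧ n = t * c := by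
  have := hN.normal
  let X : Subgroup G :=
    { carrier := {n | ∃ t ∈ T, ∃ c ∈ N, (∀ s ∈ T, c * s = s * c) ∧ n = t * c}
      one_mem' := ⟨1, T.one_mem, 1, N.one_mem, by simp, by simp⟩
      mul_mem' := by
        rintro _ _ ⟨t, ht, c, hc, hcc, rfl⟩ ⟨t', ht', c', hc', hcc', rfl⟩
        refine ⟨t * t', T.mul_mem ht ht', c * c', N.mul_mem hc hc', fun s hs => ?_, ?_⟩
        · rw [mul_assoc, hcc' s hs, ← mul_assoc, hcc s hs, mul_assoc]
        · rw [mul_assoc t c, ← mul_assoc c, hcc t' ht']; group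
      inv_mem' := by
        rintro _ ⟨t, ht, c, hc, hcc, rfl⟩
        refine ⟨t⁻¹, T.inv_mem ht, c⁻¹, N.inv_mem hc, fun s hs => ?_, ?_⟩
        · rw [inv_mul_eq_iff_eq_mul, ← mul_assoc, hcc s hs]; group
        · rw [← hcc t ht]; group }
  refine h.le_of_conj_mem hN (X := X) (fun g t ht => ?_) hn
  have hm : g * t * g⁻¹ ∈ MulAut.conj g • T := mem_cj.2 (by simpa [mul_assoc] using ht)
  by_cases he : MulAut.conj g • T = T
  · rw [he] at hm
    exact ⟨_, hm, 1, N.one_mem, by simp, by simp⟩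
  · exact ⟨1, T.one_mem, _, (h.smul g).le hm,
      fun s hs => (h.smul g).comm h he hm hs, by simp⟩

theorem eq_one_of_cent (hN : MinN N) (hna : ¬ IsMulCommutative N) (h : Factor N T) {t : G}
    (ht : t ∈ T) (hc : ∀ s ∈ T, t * s = s * t) : t = 1 := by
  have := hN.normal
  rcases h.min (T ⊓ Subgroup.centralizer (T : Set G)) inf_le_left (fun n hn x hx =>
    ⟨h.conj n hn x hx.1, fun s hs =>
      (h.cent_conj hn (fun s hs => (hx.2 s hs).symm) s hs).symm⟩) with h0 | h0
  · have : t ∈ T ⊓ Subgroup.centralizer (T : Set G) := ⟨ht, fun s hs => (hc s hs).symm⟩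
    rwa [h0, Subgroup.mem_bot] at this
  · exfalso
    have hT : T ≤ Subgroup.centralizer (T : Set G) := inf_eq_left.1 h0
    have hNT : N ≤ Subgroup.centralizer (T : Set G) := by
      intro n hn s hs
      obtain ⟨t, ht, c, -, hcc, rfl⟩ := h.decomp hN hn
      rw [← mul_assoc, hT ht s hs, mul_assoc, ← hcc s hs, mul_assoc]
    rcases hN.min (N ⊓ Subgroup.centralizer (N : Set G)) inferInstance inf_le_left with h1 | h1
    · apply h.ne
      rw [eq_bot_iff, ← h1]
      exact fun s hs => ⟨h.le hs, fun n hn => (hNT hn s hs).symm⟩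
    · apply hna
      have : N ≤ Subgroup.centralizer (N : Set G) := inf_eq_left.1 h1
      exact ⟨⟨fun a b => Subtype.ext (this b.2 a a.2)⟩⟩

/-- A subgroup of a factor normalized by the factor is trivial or everything. -/
theorem min' (hN : MinN N) (h : Factor N T) (X : Subgroup G) (hX : X ≤ T)
    (hc : ∀ t ∈ T, ∀ x ∈ X, t * x * t⁻¹ ∈ X) : X = ⊥ ∨ X = T := by
  refine h.min X hX fun n hn x hx => ?_
  obtain ⟨t, ht, c, -, hcc, rfl⟩ := h.decomp hN hn
  have : t * c * x * (t * c)⁻¹ = t * x * t⁻¹ := by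
    rw [mul_assoc t c, hcc x (hX hx)]; group
  rw [this]
  exact hc t ht x hx

theorem isSimpleGroup (hN : MinN N) (h : Factor N T) : IsSimpleGroup T := by
  have : Nontrivial T := (Subgroup.nontrivial_iff_ne_bot T).2 h.ne
  refine ⟨fun X hX => ?_⟩
  rcases h.min' hN (X.map T.subtype) (Subgroup.map_subtype_le X) (by
      rintro t ht _ ⟨x, hx, rfl⟩
      exact ⟨⟨t, ht⟩ * x * ⟨t, ht⟩⁻¹, hX.conj_mem x hx _, rfl⟩) with h0 | h0
  · left
    exact (Subgroup.map_eq_bot_iff_of_injective _ T.subtype_injective).1 h0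
  · right
    rw [eq_top_iff]
    intro x _
    have : (x : G) ∈ X.map T.subtype := by rw [h0]; exact x.2
    obtain ⟨y, hy, hxy⟩ := this
    rwa [← Subtype.ext hxy]

theorem not_comm (hN : MinN N) (hna : ¬ IsMulCommutative N) (h : Factor N T) :
    ¬ IsMulCommutative T := by
  intro hc
  apply h.ne
  rw [eq_bot_iff]
  intro t ht
  exact h.eq_one_of_cent hN hna ht fun s hs =>
    congrArg Subtype.val (hc.is_comm.comm (⟨t, ht⟩ : T) ⟨s, hs⟩)

theorem not_isSolvable (hN : MinN N) (hna : ¬ IsMulCommutative N) (h : Factor N T) :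
    ¬ Group.IsSolvable T := by
  have := h.isSimpleGroup hN
  intro hs
  apply h.not_comm hN hna
  exact ⟨⟨IsSimpleGroup.comm_iff_isSolvable.2 hs⟩⟩

theorem eq_of_normal (hN : MinN N) (h : Factor N T) (hT : T.Normal) : T = N :=
  (hN.min T hT h.le).resolve_left h.ne

theorem exists_ne (hT : ¬ T.Normal) : ∃ g : G, MulAut.conj g • T ≠ T := by
  by_contra hc
  push Not at hc
  refine hT ⟨fun t ht g => ?_⟩
  rw [← hc g, mem_cj]
  simpa [mul_assoc] using ht

end Factor

/-- A finite non-solvable group has elements of three different prime orders. -/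
theorem exists_three_primes [Finite G] {T : Subgroup G} (hT : ¬ Group.IsSolvable T) :
    ∃ s : Fin 3 → G, (∀ i, s i ∈ T) ∧ (∀ i, (orderOf (s i)).Prime) ∧
      Function.Injective fun i => orderOf (s i) := by
  classical
  have hc : 2 < (Nat.card T).primeFactors.card := by
    by_contra hc
    push Not at hc
    apply hT
    have h0 : Nat.card T ≠ 0 := Nat.card_pos.ne'
    obtain ⟨p, q, hp, hq, hpq, hsub⟩ : ∃ p q : ℕ, p.Prime ∧ q.Prime ∧ p ≠ q ∧
        (Nat.card T).primeFactors ⊆ {p, q} := by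
      obtain ⟨r, hr1, hr⟩ := Nat.exists_infinite_primes (Nat.card T + 1)
      obtain ⟨r', hr1', hr'⟩ := Nat.exists_infinite_primes (r + 1)
      rcases Nat.lt_or_ge (Nat.card T).primeFactors.card 1 with h1 | h1
      · have : (Nat.card T).primeFactors = ∅ := Finset.card_eq_zero.1 (by omega)
        exact ⟨r, r', hr, hr', by omega, by simp [this]⟩
      rcases Nat.lt_or_ge (Nat.card T).primeFactors.card 2 with h2 | h2
      · obtain ⟨a, ha⟩ := Finset.card_eq_one.1 (show (Nat.card T).primeFactors.card = 1 by omega)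
        have ha' : a ∈ (Nat.card T).primeFactors := by simp [ha]
        have := Nat.le_of_mem_primeFactors ha'
        exact ⟨a, r, Nat.prime_of_mem_primeFactors ha', hr, by omega, by simp [ha]⟩
      · obtain ⟨a, b, hab, ha⟩ :=
          Finset.card_eq_two.1 (show (Nat.card T).primeFactors.card = 2 by omega)
        exact ⟨a, b, Nat.prime_of_mem_primeFactors (n := Nat.card T) (by rw [ha]; simp),
          Nat.prime_of_mem_primeFactors (n := Nat.card T) (by rw [ha]; simp), hab, by simp [ha]⟩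
    refine Cfsg.Agent.S0144.result p q ((Nat.card T).factorization p)
      ((Nat.card T).factorization q) hp hq ?_
    conv_lhs => rw [← Nat.prod_factorization_pow_eq_self h0]
    rw [Finsupp.prod_of_support_subset _ (s := {p, q}) (by simpa using hsub) _ (by simp),
      Finset.prod_pair hpq]
  obtain ⟨a, ha, b, hb, c, hc', hab, hac, hbc⟩ := Finset.two_lt_card.1 hc
  have key : ∀ p ∈ (Nat.card T).primeFactors, ∃ s ∈ T, orderOf s = p := by
    intro p hp
    have := Fact.mk (Nat.prime_of_mem_primeFactors hp)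
    obtain ⟨s, hs⟩ := exists_prime_orderOf_dvd_card' p (Nat.dvd_of_mem_primeFactors hp)
    exact ⟨s, s.2, by rw [← hs]; exact Subgroup.orderOf_coe s⟩
  obtain ⟨x, hx, hxa⟩ := key a ha
  obtain ⟨y, hy, hyb⟩ := key b hb
  obtain ⟨z, hz, hzc⟩ := key c hc'
  refine ⟨![x, y, z], ?_, ?_, ?_⟩
  · intro i; fin_cases i <;> simpa
  · intro i
    fin_cases i
    · simpa [hxa] using Nat.prime_of_mem_primeFactors ha
    · simpa [hyb] using Nat.prime_of_mem_primeFactors hb
    · simpa [hzc] using Nat.prime_of_mem_primeFactors hc'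
  · intro i j hij
    fin_cases i <;> fin_cases j <;> simp_all

section Action

variable {Ω : Type*} [MulAction G Ω] [FaithfulSMul G Ω]

theorem eq_one_of_fix {g : G} (h : ∀ ω : Ω, g • ω = ω) : g = 1 :=
  eq_of_smul_eq_smul (α := Ω) fun ω => by rw [h, one_smul]

/-- A nontrivial normal subgroup of a faithful primitive group is transitive. -/
theorem exists_smul_of_normal (hprim : IsPreprimitive G Ω) {N : Subgroup G} (hN : N.Normal)
    (h0 : N ≠ ⊥) (a b : Ω) : ∃ n ∈ N, n • a = b := by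
  have : IsPretransitive N Ω := by
    refine IsQuasiPreprimitive.isPretransitive_of_normal fun hu => h0 ?_
    rw [eq_bot_iff]
    intro n hn
    refine eq_one_of_fix (Ω := Ω) fun ω => ?_
    have : ω ∈ fixedPoints N Ω := by rw [hu]; trivial
    exact this ⟨n, hn⟩
  obtain ⟨n, hn⟩ := this.exists_smul_eq a b
  exact ⟨n, n.2, hn⟩

theorem eq_one_of_comm_of_fix {M : Subgroup G} (hM : ∀ a b : Ω, ∃ n ∈ M, n • a = b) {c : G}
    (hc : ∀ m ∈ M, m * c = c * m) {a : Ω} (ha : c • a = a) : c = 1 := by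
  refine eq_one_of_fix (Ω := Ω) fun ω => ?_
  obtain ⟨m, hm, rfl⟩ := hM a ω
  rw [← mul_smul, ← hc m hm, mul_smul, ha]

/-- An abelian nontrivial normal subgroup of a faithful primitive group is regular. -/
theorem eq_one_of_comm_normal (hprim : IsPreprimitive G Ω) {N : Subgroup G} (hN : N.Normal)
    (h0 : N ≠ ⊥) (hc : IsMulCommutative N) {n : G} (hn : n ∈ N) {a : Ω} (ha : n • a = a) :
    n = 1 :=
  eq_one_of_comm_of_fix (exists_smul_of_normal hprim hN h0)
    (fun m hm => congrArg Subtype.val (hc.is_comm.comm (⟨m, hm⟩ : N) ⟨n, hn⟩)) ha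

theorem stabilizer_eq_bot_of {N : Subgroup G} (h : ∀ n ∈ N, ∀ a : Ω, n • a = a → n = 1) (a : Ω) :
    stabilizer N a = ⊥ := by
  rw [eq_bot_iff]
  intro n hn
  exact Subtype.ext (h n n.2 a hn)

variable {N T : Subgroup G}

/-- A factor of a transitive normal subgroup fixes no point. -/
theorem Factor.not_le_stabilizer (h : Factor N T) (hN : ∀ a b : Ω, ∃ n ∈ N, n • a = b) (a : Ω) :
    ¬ T ≤ stabilizer G a := by
  intro hle
  apply h.ne
  rw [eq_bot_iff]
  intro t ht
  refine eq_one_of_fix (Ω := Ω) fun ω => ?_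
  obtain ⟨n, hn, rfl⟩ := hN a ω
  have := hle (h.conj' hn ht)
  rw [mem_stabilizer_iff, mul_smul, mul_smul, inv_smul_eq_iff] at this
  exact this

/-- The projection of `N_a` to the factor `T`. -/
def proj (N T : Subgroup G) (a : Ω) : Subgroup G where
  carrier := {t | t ∈ T ∧ ∃ c ∈ N, (∀ s ∈ T, c * s = s * c) ∧ (t * c) • a = a}
  one_mem' := ⟨T.one_mem, 1, N.one_mem, by simp, by simp⟩
  mul_mem' := by
    rintro t t' ⟨ht, c, hc, hcc, h⟩ ⟨ht', c', hc', hcc', h'⟩
    refine ⟨T.mul_mem ht ht', c * c', N.mul_mem hc hc', fun s hs => ?_, ?_⟩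
    · rw [mul_assoc, hcc' s hs, ← mul_assoc, hcc s hs, mul_assoc]
    · have : t * t' * (c * c') = (t * c) * (t' * c') := by
        rw [mul_assoc t c, ← mul_assoc c, hcc t' ht']; group
      rw [this, mul_smul, h', h]
  inv_mem' := by
    rintro t ⟨ht, c, hc, hcc, h⟩
    refine ⟨T.inv_mem ht, c⁻¹, N.inv_mem hc, fun s hs => ?_, ?_⟩
    · rw [inv_mul_eq_iff_eq_mul, ← mul_assoc, hcc s hs]; group
    · have : t⁻¹ * c⁻¹ = (t * c)⁻¹ := by rw [← hcc t ht]; group
      rw [this, inv_smul_eq_iff, h]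

theorem mem_proj {a : Ω} {t : G} :
    t ∈ proj N T a ↔ t ∈ T ∧ ∃ c ∈ N, (∀ s ∈ T, c * s = s * c) ∧ (t * c) • a = a := Iff.rfl

theorem proj_le (a : Ω) : proj N T a ≤ T := fun _ h => h.1

/-- If every element of `T` acts on `T` like an element of `G_a`, then `T_a = 1`. -/
theorem Factor.eq_one_of_full (hN : MinN N) (h : Factor N T)
    (htr : ∀ a b : Ω, ∃ n ∈ N, n • a = b) {a : Ω}
    (hfull : ∀ t ∈ T, ∃ c : G, (∀ s ∈ T, c * s = s * c) ∧ (t * c) • a = a) {t : G} (ht : t ∈ T)
    (ha : t • a = a) : t = 1 := by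
  rcases h.min' hN (T ⊓ stabilizer G a) inf_le_left (fun s hs x hx => by
      refine ⟨h.conj s (h.le hs) x hx.1, ?_⟩
      obtain ⟨c, hcc, hc⟩ := hfull s hs
      have : s * x * s⁻¹ = (s * c) * x * (s * c)⁻¹ := by
        rw [mul_assoc s c, hcc x hx.1]; group
      rw [this]
      exact (stabilizer G a).mul_mem ((stabilizer G a).mul_mem hc hx.2)
        ((stabilizer G a).inv_mem hc)) with h0 | h0
  · have : t ∈ T ⊓ stabilizer G a := ⟨ht, ha⟩
    rwa [h0, Subgroup.mem_bot] at this
  · exact absurd (by rw [← h0]; exact inf_le_right) (h.not_le_stabilizer htr a)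

/-- If the projection of `N_a` to `T` is proper, some `t ∈ T` makes every `t * c` a
derangement. -/
theorem Factor.exists_der [Finite G] (hN : MinN N) (h : Factor N T)
    (htr : ∀ a b : Ω, ∃ n ∈ N, n • a = b) {a : Ω} (hne : proj N T a ≠ T) :
    ∃ t ∈ T, t ≠ 1 ∧ ∀ c ∈ N, (∀ s ∈ T, c * s = s * c) → ∀ ω : Ω, (t * c) • ω ≠ ω := by
  have hne' : (proj N T a).subgroupOf T ≠ ⊤ := by
    intro h0
    exact hne (le_antisymm (proj_le a) (Subgroup.subgroupOf_eq_top.1 h0))
  obtain ⟨t, ht⟩ := Cfsg.Lib.Solv.exists_forall_not_mem_conj_smul hne'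
  refine ⟨t, t.2, ?_, fun c hc hcc ω hω => ?_⟩
  · intro h1
    apply ht 1
    rw [show t = 1 from Subtype.ext h1]
    exact one_mem _
  · obtain ⟨n, hn, rfl⟩ := htr a ω
    obtain ⟨t1, ht1, c1, hc1, hcc1, rfl⟩ := h.decomp hN hn
    apply ht ⟨t1, ht1⟩
    rw [mem_cj, Subgroup.mem_subgroupOf]
    refine ⟨T.mul_mem (T.mul_mem (T.inv_mem ht1) t.2) ht1, (t1 * c1)⁻¹ * c * (t1 * c1), ?_, ?_, ?_⟩
    · exact N.mul_mem (N.mul_mem (N.inv_mem hn) hc) hn
    · simpa using h.cent_conj (N.inv_mem hn) hcc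
    · have e : (t1⁻¹ * t * t1 : G) = (t1 * c1)⁻¹ * t * (t1 * c1) := by
        have := hcc1 _ (T.mul_mem (T.mul_mem (T.inv_mem ht1) t.2) ht1)
        calc (t1⁻¹ * t * t1 : G) = c1⁻¹ * (c1 * (t1⁻¹ * t * t1)) := by group
          _ = c1⁻¹ * (t1⁻¹ * t * t1 * c1) := by rw [this]
          _ = _ := by group
      show ((t1⁻¹ * t * t1 : G) * _) • a = a
      rw [e]
      have : (t1 * c1)⁻¹ * t * (t1 * c1) * ((t1 * c1)⁻¹ * c * (t1 * c1)) =
          (t1 * c1)⁻¹ * ((t * c) * (t1 * c1)) := by group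
      rw [this, mul_smul, mul_smul, hω, inv_smul_smul]

/-- Not almost simple. -/
def NotAS (G : Type*) [Group G] : Prop :=
  ¬ ∃ T : Subgroup G, T.Normal ∧ IsSimpleGroup T ∧ ¬ IsMulCommutative T ∧
    Subgroup.centralizer (T : Set G) = ⊥

/-- If a factor is normal in a primitive group that is not almost simple, its centralizer is
transitive. -/
theorem Factor.cent_trans (hprim : IsPreprimitive G Ω) (hnas : NotAS G) (hN : MinN N)
    (hna : ¬ IsMulCommutative N) (h : Factor N T) (hT : T.Normal) (a b : Ω) :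
    ∃ c ∈ Subgroup.centralizer (T : Set G), c • a = b :=
  exists_smul_of_normal hprim inferInstance
    (fun h0 => hnas ⟨T, hT, h.isSimpleGroup hN, h.not_comm hN hna, h0⟩) a b

/-- A primitive group that is not almost simple and has a non-abelian minimal normal subgroup has
three pairwise non-conjugate derangements whose orders are divisible by three different primes. -/
theorem exists_three_der [Finite G] (hprim : IsPreprimitive G Ω) (hnas : NotAS G) (hN : MinN N)
    (hna : ¬ IsMulCommutative N) :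
    ∃ (p : Fin 3 → ℕ) (x : Fin 3 → G), (∀ i, (p i).Prime) ∧ Function.Injective p ∧
      (∀ i, p i ∣ orderOf (x i)) ∧ (∀ i, ∀ ω : Ω, x i • ω ≠ ω) ∧
      ∀ i j, IsConj (x i) (x j) → i = j := by
  have := hN.normal
  have htr := exists_smul_of_normal hprim hN.normal hN.ne
  obtain ⟨T, h⟩ := exists_factor hN.ne
  have hord : ∀ {x y : G}, IsConj x y → orderOf x = orderOf y := by
    intro x y hxy
    obtain ⟨g, rfl⟩ := isConj_iff.1 hxy
    exact (MulAut.conj g).orderOf_eq x |>.symm
  by_cases hsr : ∀ t ∈ T, ∀ ω : Ω, t • ω = ω → t = 1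
  · obtain ⟨s, hs, hp, hinj⟩ := exists_three_primes (h.not_isSolvable hN hna)
    refine ⟨fun i => orderOf (s i), s, hp, hinj, fun i => dvd_rfl, fun i ω hω => ?_,
      fun i j hij => hinj (hord hij)⟩
    have := hp i
    rw [hsr _ (hs i) ω hω, orderOf_one] at this
    exact Nat.not_prime_one this
  push Not at hsr
  obtain ⟨t0, ht0, a, ha, ht01⟩ := hsr
  have hT : ¬ T.Normal := fun hT =>
    ht01 (eq_one_of_comm_of_fix (h.cent_trans hprim hnas hN hna hT)
      (fun m hm => (hm t0 ht0).symm) ha)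
  obtain ⟨g0, hg0⟩ := Factor.exists_ne hT
  have h' := h.smul g0
  set T' := MulAut.conj g0 • T with hT'
  have hne : proj N T a ≠ T := by
    intro h0
    refine ht01 (h.eq_one_of_full hN htr (fun t ht => ?_) ht0 ha)
    rw [← h0] at ht
    obtain ⟨-, c, -, hcc, hc⟩ := ht
    exact ⟨c, hcc, hc⟩
  obtain ⟨t, ht, ht1, hder⟩ := h.exists_der hN htr hne
  obtain ⟨s, hs, hp, hinj⟩ := exists_three_primes (h'.not_isSolvable hN hna)
  have hs1 : ∀ i, s i ≠ 1 := fun i h1 => by
    have := hp i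
    rw [h1, orderOf_one] at this
    exact Nat.not_prime_one this
  have hcs : ∀ i, ∀ u ∈ T, s i * u = u * s i := fun i u hu => h'.comm h hg0 (hs i) hu
  refine ⟨fun i => orderOf (s i), fun i => t * s i, hp, hinj, fun i => ?_,
    fun i => hder _ (h'.le (hs i)) (hcs i), fun i j hij => hinj ?_⟩
  · rw [orderOf_dvd_iff_pow_eq_one]
    have e := pow_orderOf_eq_one (t * s i)
    rw [Commute.mul_pow (hcs i t ht).symm] at e
    refine h'.eq_one_of_mem h hg0 (T'.pow_mem (hs i) _) ?_
    rw [eq_inv_of_mul_eq_one_right e]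
    exact T.inv_mem (T.pow_mem ht _)
  · obtain ⟨g, hg⟩ := isConj_iff.1 hij
    replace hg : g * (t * s i) * g⁻¹ = t * s j := hg
    have hA := h.smul g
    have hB := h'.smul g
    have hAB : MulAut.conj g • T ≠ MulAut.conj g • T' := fun e =>
      hg0 (smul_left_cancel _ e).symm
    have ha' : g * t * g⁻¹ ∈ MulAut.conj g • T := mem_cj.2 (by simpa [mul_assoc] using ht)
    have hb' : g * s i * g⁻¹ ∈ MulAut.conj g • T' := mem_cj.2 (by simpa [mul_assoc] using hs i)
    have hab : (g * t * g⁻¹) * (g * s i * g⁻¹) = t * s j := by rw [← hg]; group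
    have hA' : MulAut.conj g • T = T ∨ MulAut.conj g • T = T' := by
      by_contra hc
      push Not at hc
      have : g * t * g⁻¹ = 1 := by
        refine hA.eq_one_of_cent hN hna ha' fun u hu => ?_
        have e1 := hA.comm h hc.1 hu ht
        have e2 := hA.comm h' hc.2 hu (hs j)
        have e3 := hA.comm hB hAB hu hb'
        have e4 : u * (t * s j) = (t * s j) * u := by
          rw [← mul_assoc, e1, mul_assoc, e2, mul_assoc]
        rw [← hab] at e4
        generalize g * t * g⁻¹ = A at e4 ⊢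
        generalize g * s i * g⁻¹ = B at e4 e3
        rw [mul_assoc A B, ← e3, ← mul_assoc, ← mul_assoc] at e4
        exact (mul_right_cancel e4).symm
      exact ht1 (eq_one_of_conj this)
    have hB' : MulAut.conj g • T' = T ∨ MulAut.conj g • T' = T' := by
      by_contra hc
      push Not at hc
      have : g * s i * g⁻¹ = 1 := by
        refine hB.eq_one_of_cent hN hna hb' fun u hu => ?_
        have e1 := hB.comm h hc.1 hu ht
        have e2 := hB.comm h' hc.2 hu (hs j)
        have e3 := hB.comm hA hAB.symm hu ha'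
        have e4 : u * (t * s j) = (t * s j) * u := by
          rw [← mul_assoc, e1, mul_assoc, e2, mul_assoc]
        rw [← hab] at e4
        generalize g * t * g⁻¹ = A at e4 e3
        generalize g * s i * g⁻¹ = B at e4 ⊢
        rw [← mul_assoc, e3, mul_assoc, mul_assoc] at e4
        exact (mul_left_cancel e4).symm
      exact hs1 i (eq_one_of_conj this)
    have hoa : orderOf (g * t * g⁻¹) = orderOf t := (MulAut.conj g).orderOf_eq t
    have hob : orderOf (g * s i * g⁻¹) = orderOf (s i) := (MulAut.conj g).orderOf_eq (s i)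
    show orderOf (s i) = orderOf (s j)
    rcases hA' with hA' | hA' <;> rcases hB' with hB' | hB'
    · exact absurd (hA'.trans hB'.symm) hAB
    · rw [hA'] at ha'
      rw [hB'] at hb'
      have e : t⁻¹ * (g * t * g⁻¹) = s j * (g * s i * g⁻¹)⁻¹ := by
        rw [inv_mul_eq_iff_eq_mul, ← mul_assoc, ← hab]; group
      have := h'.eq_one_of_mem h hg0 (T'.mul_mem (hs j) (T'.inv_mem hb'))
        (e ▸ T.mul_mem (T.inv_mem ht) ha')
      rw [mul_inv_eq_one] at this
      rw [this, hob]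
    · rw [hA'] at ha'
      rw [hB'] at hb'
      rw [h'.comm h hg0 ha' hb'] at hab
      have e : t⁻¹ * (g * s i * g⁻¹) = s j * (g * t * g⁻¹)⁻¹ := by
        rw [inv_mul_eq_iff_eq_mul, ← mul_assoc, ← hab]; group
      have e1 := h'.eq_one_of_mem h hg0 (T'.mul_mem (hs j) (T'.inv_mem ha'))
        (e ▸ T.mul_mem (T.inv_mem ht) hb')
      rw [e1, inv_mul_eq_one] at e
      rw [mul_inv_eq_one] at e1
      rw [e1, hoa, e, hob]
    · exact absurd (hA'.trans hB'.symm) hAB

end Action

end Cfsg.Lib.Perm.Socle
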