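import Mathlib.Data.Nat.Choose.Lucas
import Mathlib.Data.Nat.Choose.Factorization
import Mathlib.Data.Nat.Sqrt
import Mathlib.Data.Nat.Prime.Factorial
import Mathlib.Data.Nat.Count
import Mathlib.Tactic.IntervalCases
import Mathlib.Tactic.NormNum.Prime

/-!
A weak form of Sylvester's theorem: for `1 ≤ k ≤ m / 2` the largest prime divisor `r` of
`m.choose k` satisfies `k < r` or `m < r ^ 2`, and so `m % r < k % r`.
-/

set_option autoImplicit false

namespace Cfsg.Lib.Perm.ChooseBig

theorem pow_desc {j m : ℕ} (h : j ≤ m) (i : ℕ) :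
    m ^ i * j.descFactorial i ≤ j ^ i * m.descFactorial i := by
  induction i with
  | zero => simp
  | succ i ih =>
    have h1 : m * (j - i) ≤ j * (m - i) := by
      rw [Nat.mul_sub, Nat.mul_sub, mul_comm m j]
      exact Nat.sub_le_sub_left (Nat.mul_le_mul_right _ h) _
    rw [Nat.descFactorial_succ, Nat.descFactorial_succ, pow_succ, pow_succ]
    calc _ = m * (j - i) * (m ^ i * j.descFactorial i) := by ring
      _ ≤ j * (m - i) * (j ^ i * m.descFactorial i) := Nat.mul_le_mul h1 ih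
      _ = _ := by ring

theorem pow_le {j m : ℕ} (h : j ≤ m) : m ^ j ≤ j ^ j * m.choose j := by
  have h1 := pow_desc h j
  rw [Nat.descFactorial_self, Nat.descFactorial_eq_factorial_mul_choose, mul_left_comm,
    mul_comm] at h1
  exact Nat.le_of_mul_le_mul_left h1 j.factorial_pos

theorem choose_mono {m j k : ℕ} (h : j ≤ k) (hk : 2 * k ≤ m) : m.choose j ≤ m.choose k := by
  induction k, h using Nat.le_induction with
  | base => exact le_rfl
  | succ k h ih => exact (ih (by omega)).trans (Nat.choose_le_succ_of_lt_half_left (by omega))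

theorem count_even (i : ℕ) : Nat.count Nat.Prime (10 + 2 * i) ≤ 4 + i ∧
    Nat.count Nat.Prime (10 + 2 * i + 1) ≤ 4 + i := by
  have k : ∀ i, Nat.count Nat.Prime (10 + 2 * i + 1) = Nat.count Nat.Prime (10 + 2 * i) :=
    fun i => by
      rw [Nat.count_succ, if_neg, add_zero]
      intro h
      have := h.eq_two_or_odd
      omega
  rw [k, and_self]
  induction i with
  | zero => decide +kernel
  | succ i ih =>
    rw [show 10 + 2 * (i + 1) = 10 + 2 * i + 1 + 1 by ring, Nat.count_succ, k]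
    split_ifs <;> omega

theorem count_lt {j : ℕ} (h : 9 ≤ j) : 2 * Nat.count Nat.Prime (j + 1) < j := by
  obtain ⟨i, hi | hi⟩ : ∃ i, j + 1 = 10 + 2 * i ∨ j + 1 = 10 + 2 * i + 1 :=
    ⟨(j - 9) / 2, by omega⟩
  · have := (count_even i).1
    rw [hi]; omega
  · have := (count_even i).2
    rw [hi]; omega

theorem choose_le {m k j : ℕ} (hk : k ≤ m) (hm : 0 < m)
    (h : ∀ p, p.Prime → p ∣ m.choose k → p ≤ j) : m.choose k ≤ m ^ Nat.count Nat.Prime (j + 1) := by
  have h0 := (Nat.choose_pos hk).ne'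
  calc m.choose k = ∏ p ∈ (m.choose k).primeFactors, p ^ (m.choose k).factorization p :=
        (Nat.prod_factorization_pow_eq_self h0).symm
    _ ≤ m ^ (m.choose k).primeFactors.card :=
        Finset.prod_le_pow_card _ _ _ fun p _ => Nat.pow_factorization_choose_le hm
    _ ≤ _ := by
        refine Nat.pow_le_pow_right hm ?_
        rw [Nat.count_eq_card_filter_range]
        refine Finset.card_le_card fun p hp => ?_
        have h1 := Nat.mem_primeFactors.1 hp
        exact Finset.mem_filter.2 ⟨Finset.mem_range.2 (Nat.lt_succ_of_le (h p h1.1 h1.2.1)), h1.1⟩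

theorem small : ∀ m < 100, ∀ k < 50, (1 ≤ k ∧ 2 * k ≤ m) → ∃ p ∈ ([2, 3, 5, 7, 11, 13, 17, 19, 23,
    29, 31, 37, 41, 43, 47, 53, 59, 61, 67, 71, 73, 79, 83, 89, 97] : List ℕ), m % p < k % p ∧
    (k < p ∨ m < p * p) := by
  set_option synthInstance.maxSize 1000 in decide +kernel

theorem tiny : ∀ j < 9, 1 ≤ j → j ^ j < 100 ^ (j - Nat.count Nat.Prime (j + 1)) ∧
    Nat.count Nat.Prime (j + 1) ≤ j := by decide +kernel

theorem exists_prime {m k : ℕ} (h1 : 1 ≤ k) (hk : 2 * k ≤ m) :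
    ∃ p, p.Prime ∧ p ∣ m.choose k ∧ (k < p ∨ m < p * p) := by
  by_cases hm : m < 100
  · obtain ⟨p, hp, h2, h3⟩ := small m hm k (by omega) ⟨h1, hk⟩
    have hp' : p.Prime := by
      simp only [List.mem_cons, List.not_mem_nil, or_false] at hp
      rcases hp with rfl | rfl | rfl | rfl | rfl | rfl | rfl | rfl | rfl | rfl | rfl | rfl | rfl |
        rfl | rfl | rfl | rfl | rfl | rfl | rfl | rfl | rfl | rfl | rfl | rfl <;> norm_num
    have := Fact.mk hp'
    have h4 := Choose.choose_modEq_choose_mod_mul_choose_div_nat (n := m) (k := k) (p := p)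
    rw [Nat.choose_eq_zero_of_lt h2, zero_mul] at h4
    exact ⟨p, hp', (Nat.modEq_zero_iff_dvd).1 h4, h3⟩
  by_contra! hcon
  have h2 := choose_le (j := min k m.sqrt) (by omega : k ≤ m) (by omega) fun p hp hd =>
    le_min (hcon p hp hd).1 (Nat.le_sqrt.2 (hcon p hp hd).2)
  have h3 := (choose_mono (min_le_left k m.sqrt) hk).trans h2
  have h4 : min k m.sqrt * min k m.sqrt ≤ m := Nat.le_sqrt.1 (min_le_right _ _)
  have h5 : 1 ≤ min k m.sqrt := le_min h1 (Nat.le_sqrt.2 (by omega))
  have h6 := (pow_le ((min_le_left k m.sqrt).trans (by omega : k ≤ m))).trans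
    (Nat.mul_le_mul_left _ h3)
  generalize min k m.sqrt = j at h4 h5 h6
  by_cases h9 : 9 ≤ j
  · have h7 := count_lt h9
    have h8 : m ^ j * m ^ j ≤ m ^ (j + 2 * Nat.count Nat.Prime (j + 1)) :=
      calc _ ≤ _ := Nat.mul_le_mul h6 h6
        _ = (j * j) ^ j * m ^ (2 * Nat.count Nat.Prime (j + 1)) := by ring
        _ ≤ _ := by rw [pow_add]; exact Nat.mul_le_mul_right _ (Nat.pow_le_pow_left h4 j)
    rw [← pow_add, Nat.pow_le_pow_iff_right (by omega)] at h8
    omega
  · obtain ⟨h7, h8⟩ := tiny j (by omega) h5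
    rw [← Nat.sub_add_cancel h8, pow_add, Nat.sub_add_cancel h8] at h6
    exact ((Nat.le_of_mul_le_mul_right h6 (pow_pos (by omega) _)).trans_lt h7).not_ge
      (Nat.pow_le_pow_left (by omega) _)

theorem mod_lt {m k r : ℕ} (h1 : 1 ≤ k) (hk : 2 * k ≤ m) (hr : r.Prime) (hd : r ∣ m.choose k)
    (hmax : ∀ s, s.Prime → s ∣ m.choose k → s ≤ r) : m % r < k % r ∧ (k < r ∨ m < r * r) := by
  obtain ⟨p, hp, h2, h3⟩ := exists_prime h1 hk
  have h4 := hmax p hp h2
  have h5 : k < r ∨ m < r * r := h3.imp (·.trans_le h4) (·.trans_le (Nat.mul_le_mul h4 h4))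
  refine ⟨?_, h5⟩
  by_contra! h
  have := Fact.mk hr
  have k1 : ∀ {a b : ℕ}, b ≤ a → a < r → ¬ r ∣ a.choose b := fun {a b} hb ha hd =>
    ha.not_ge (hr.dvd_factorial.1 (by
      rw [← Nat.choose_mul_factorial_mul_factorial hb]
      exact (hd.mul_right _).mul_right _))
  have h6 := ((Choose.choose_modEq_choose_mod_mul_choose_div_nat (n := m) (k := k)
    (p := r)).dvd_iff dvd_rfl).1 hd
  rcases (Nat.Prime.dvd_mul hr).1 h6 with h7 | h7
  · exact k1 h (Nat.mod_lt m hr.pos) h7
  · rcases h5 with h5 | h5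
    · rw [Nat.div_eq_of_lt h5, Nat.choose_zero_right] at h7
      exact hr.not_dvd_one h7
    · exact k1 (Nat.div_le_div_right (by omega)) (Nat.div_lt_of_lt_mul h5) h7

end Cfsg.Lib.Perm.ChooseBig
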