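import Cfsg.Agent.Char.DegThree
import Cfsg.Agent.Char.DegThompson
import Cfsg.Agent.Trans.SigCop
import Cfsg.Agent.Solv.CardModEq
import Cfsg.Agent.Gold.TFKP
import Cfsg.Agent.Known.PSL2Deg
import Cfsg.Agent.Known.SmallSimple
import Cfsg.Agent.S0007

/-!
# Primes dividing character degrees and nonabelian simple sections
-/

set_option autoImplicit false

open Cfsg Subgroup Cfsg.Lib.Known Cfsg.Lib.Char

namespace Cfsg.Lib.Perm.DegSec

variable {G : Type*} [Group G] [Finite G] {p : ℕ} [hp : Fact p.Prime]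

theorem exists_primePow {s : ℕ} (hs : s.Prime) (hsp : s ≠ p) {P R : Subgroup G}
    (hP : IsPGroup p P) (hR : IsPGroup s R) (hn : P ≤ normalizer (R : Set G))
    (hc : ¬ R ≤ centralizer (P : Set G)) : ∃ d, IsPrimePow d ∧ s ∣ d ∧ d % p = 1 ∧
      Nat.card (R ⊓ centralizer (P : Set G) : Subgroup G) * d = Nat.card R := by
  have := Fact.mk hs
  have h1 := Solv.card_modEq_card_inf_centralizer hP hn
  have h2 := card_inf_mul_relIndex (centralizer (P : Set G)) R
  rw [inf_comm] at h2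
  obtain ⟨j, hj⟩ := hR.index ((centralizer (P : Set G)).subgroupOf R)
  have hj0 : j ≠ 0 := fun e => hc (relIndex_eq_one.1 (by rw [relIndex, hj, e, pow_zero]))
  refine ⟨_, by rw [relIndex, hj]; exact hs.isPrimePow.pow hj0,
    by rw [relIndex, hj]; exact dvd_pow_self s hj0, ?_, h2⟩
  obtain ⟨k, hk⟩ := (hR.to_inf_left (K := centralizer (P : Set G))).exists_card_eq
  rw [← h2] at h1
  rw [← Nat.mod_eq_of_lt hp.out.one_lt]
  refine Nat.ModEq.cancel_left_of_coprime ?_ (h1.trans (by rw [mul_one]))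
  rw [hk]
  exact ((Nat.coprime_primes hp.out hs).2 hsp.symm).pow_right k

omit hp in
theorem isPGroup_of_hall {s : ℕ} (hs : s.Prime) {R N : Subgroup G} (h : FT.IsSylowOf s R N) :
    IsPGroup s R :=
  IsPGroup.of_card (Nat.eq_prime_pow_of_unique_prime_dvd Nat.card_pos.ne'
    fun hq hd => h.2.1 _ hq hd)

theorem not_dvd_relIndex {N P : Subgroup G} (hP : IsPGroup p P) (hn : P ≤ normalizer (N : Set G))
    (hN : ¬ p ∣ Nat.card N) {s : ℕ} (hs : s.Prime)
    (h : ∀ d, IsPrimePow d → s ∣ d → d ∣ Nat.card N → d % p ≠ 1) :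
    ¬ s ∣ (centralizer (P : Set G)).relIndex N := by
  have := Fact.mk hs
  by_cases hsp : s = p
  · exact fun e => hN (hsp ▸ e.trans (relIndex_dvd_card _ _))
  obtain ⟨R, hR, hPR⟩ := Trans.Sig.exists_inv_sylow s hP hn hN
  by_cases hc : R ≤ centralizer (P : Set G)
  · exact fun e => hR.2.2 s hs rfl (e.trans (relIndex_dvd_of_le_left N hc))
  · obtain ⟨d, h1, h2, h3, h4⟩ := exists_primePow hs hsp hP (isPGroup_of_hall hs hR) hPR hc
    exact absurd h3 (h d h1 h2 ((Dvd.intro_left _ h4).trans (card_dvd_of_le hR.1)))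

/-- A `p`-group centralizes every `p'`-group it normalizes whose order has no prime power divisor
congruent to one. -/
theorem le_centralizer_of {N P : Subgroup G} (hP : IsPGroup p P) (hn : P ≤ normalizer (N : Set G))
    (hN : ¬ p ∣ Nat.card N) (h : ∀ d, IsPrimePow d → d ∣ Nat.card N → d % p ≠ 1) :
    N ≤ centralizer (P : Set G) :=
  relIndex_eq_one.1 (Nat.eq_one_iff_not_exists_prime_dvd.2 fun _ hs =>
    not_dvd_relIndex hP hn hN hs fun d h1 _ h2 => h d h1 h2)

omit [Finite G] in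
theorem mem_of_not_dvd_index {N : Subgroup G} [N.Normal]
    (h : ¬ p ∣ N.index) {x : G} (hx : ∃ k, orderOf x = p ^ k) : x ∈ N := by
  obtain ⟨k, hk⟩ := hx
  obtain ⟨j, hj⟩ := exists_pow_eq_self_of_coprime (x := x) (n := N.index)
    (hk ▸ (Nat.Coprime.pow_left k (hp.out.coprime_iff_not_dvd.2 h)).symm)
  exact hj ▸ pow_mem (N.pow_index_mem x) j

omit [Finite G] in
theorem eq_top_of_normalClosure {P : Subgroup G} (hP : IsPGroup p P)
    (N : Subgroup (normalClosure (P : Set G))) (hN : N.Normal) (h : ¬ p ∣ N.index) : N = ⊤ := by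
  have : normalClosure (P : Set G) ≤ N.map (normalClosure (P : Set G)).subtype := by
    refine (closure_le _).2 fun y hy => ⟨⟨y, subset_closure hy⟩, ?_, rfl⟩
    obtain ⟨x, hx, hxy⟩ := Group.mem_conjugatesOfSet_iff.1 hy
    refine mem_of_not_dvd_index h ?_
    obtain ⟨k, hk⟩ := IsPGroup.iff_orderOf.1 hP ⟨x, hx⟩
    obtain ⟨c, rfl⟩ := isConj_iff.1 hxy
    rw [orderOf_mk] at hk
    exact ⟨k, (Subgroup.orderOf_coe _).symm.trans (((MulAut.conj c).orderOf_eq x).trans hk)⟩
  exact top_le_iff.1 fun w _ => by simpa using this w.2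

omit hp in
theorem not_mem_degreePrimes {A : Subgroup G} [A.Normal] (hA : ∀ a ∈ A, ∀ b ∈ A, a * b = b * a)
    (h : ¬ p ∣ A.index) : p ∉ degreePrimes G := by
  rintro ⟨-, d, ⟨χ, rfl⟩, hd⟩
  exact h (hd.trans (Deg.ito χ.2 A hA))

theorem not_mem_of_card_sylow (h1 : ¬ p ^ 2 ∣ Nat.card G) (h : Nat.card (Sylow p G) = 1) :
    p ∉ degreePrimes G := by
  have : Subsingleton (Sylow p G) := (Nat.card_eq_one_iff_unique.1 h).1
  obtain ⟨P⟩ : Nonempty (Sylow p G) := inferInstance
  have := P.normal_of_subsingleton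
  have hc : IsCyclic (P : Subgroup G) := by
    obtain ⟨k, hk⟩ := P.isPGroup'.exists_card_eq
    refine isCyclic_of_card_dvd_prime (p := p) ?_
    have h2 : k ≤ 1 := by
      by_contra! h2
      exact h1 ((pow_dvd_pow p h2).trans (hk ▸ card_subgroup_dvd_card _))
    exact hk ▸ (pow_dvd_pow p h2).trans (pow_one p).dvd
  exact not_mem_degreePrimes (A := P) (fun a ha b hb => congrArg Subtype.val
    (hc.isMulCommutative.is_comm.comm (⟨a, ha⟩ : (P : Subgroup G)) ⟨b, hb⟩)) P.not_dvd_index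

/-- Groups generated by their Sylow `p`-subgroups with a normal complement. -/
theorem normal_or {r n : ℕ} [hr : Fact r.Prime] (hrp : r ≠ p) (hn : Nat.card G ∣ n)
    (h : ∀ d, IsPrimePow d → d ∣ n → d % p = 1 → r ∣ d ∧ ¬ r * d ∣ n)
    (hG : ∀ M : Subgroup G, M.Normal → ¬ p ∣ M.index → M = ⊤) (P : Sylow p G) {N : Subgroup G}
    [N.Normal] (hN : ¬ p ∣ Nat.card N) (hi : N.index = p) :
    (P : Subgroup G).Normal ∨ ∃ R : Subgroup G, R.Characteristic ∧
      (∀ a ∈ R, ∀ b ∈ R, a * b = b * a) ∧ ¬ r * Nat.card R ∣ n := by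
  have hPN : (P : Subgroup G) ≤ normalizer (N : Set G) := le_normalizer_of_normal
  obtain ⟨R, hR, hPR⟩ := Trans.Sig.exists_inv_sylow r P.isPGroup' hPN hN
  have hRp := isPGroup_of_hall hr.out hR
  have hRi : ¬ r ∣ R.index := by
    rw [← relIndex_mul_index hR.1, hi, hr.out.dvd_mul, Nat.prime_dvd_prime_iff_eq hr.out hp.out]
    exact fun e => e.elim (hR.2.2 r hr.out rfl) hrp
  have hco : R.index.Coprime (normalizer ((P : Subgroup G) : Set G)).index := by
    refine Nat.Coprime.symm (Nat.coprime_of_dvd fun s hs h1 h2 => ?_)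
    by_cases hsp : s = p
    · rw [hsp] at h1
      exact P.not_dvd_index (h1.trans (index_dvd_of_le le_normalizer))
    by_cases hsr : s = r
    · exact hRi (hsr ▸ h2)
    have h3 := h1.trans (index_dvd_of_le ((inf_le_left (b := N)).trans
      (centralizer_le_normalizer ((P : Subgroup G) : Set G))))
    rw [← relIndex_mul_index inf_le_right, inf_relIndex_right, hi, hs.dvd_mul,
      Nat.prime_dvd_prime_iff_eq hs hp.out] at h3
    refine not_dvd_relIndex P.isPGroup' hPN hN hs (fun d h4 h5 h6 h7 => hsr ?_)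
      (h3.resolve_right hsp)
    exact (isPrimePow_iff_unique_prime_dvd.1 h4).unique ⟨hs, h5⟩
      ⟨hr.out, (h d h4 (h6.trans ((card_subgroup_dvd_card N).trans hn)) h7).1⟩
  have hRn : R.Normal := by
    have h1 : normalClosure ((P : Subgroup G) : Set G) = ⊤ := hG _ inferInstance fun e =>
      P.not_dvd_index (e.trans (index_dvd_of_le le_normalClosure))
    rw [← normalizer_eq_top_iff, eq_top_iff, ← h1]
    refine (closure_le _).2 fun y hy => ?_
    obtain ⟨x, hx, hxy⟩ := Group.mem_conjugatesOfSet_iff.1 hy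
    obtain ⟨c, rfl⟩ := isConj_iff.1 hxy
    obtain ⟨u, hu, v, hv, rfl⟩ := (Cfsg.Agent.S0007.result _ _ hco).2 c
    have h2 := mul_mem (mul_mem (le_normalizer hu) (hPR ((mem_normalizer_iff.1 hv x).1 hx)))
      (le_normalizer (inv_mem hu))
    simpa [mul_assoc] using h2
  by_cases hc : R ≤ centralizer ((P : Subgroup G) : Set G)
  · left
    rw [← normalizer_eq_top_iff, ← index_eq_one]
    exact Nat.eq_one_of_dvd_coprimes hco
      (index_dvd_of_le (hc.trans (centralizer_le_normalizer _))) dvd_rfl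
  right
  have key : ∀ Z : Subgroup G, Z ≤ R → (P : Subgroup G) ≤ normalizer (Z : Set G) →
      ¬ Z ≤ centralizer ((P : Subgroup G) : Set G) →
      Z ⊓ centralizer ((P : Subgroup G) : Set G) = ⊥ ∧ ¬ r * Nat.card Z ∣ n := by
    intro Z hZ h1 h2
    obtain ⟨d, h3, -, h4, h5⟩ := exists_primePow hr.out hrp P.isPGroup' (hRp.to_le hZ) h1 h2
    have h6 : Nat.card Z ∣ n := (card_subgroup_dvd_card _).trans hn
    have h7 := (h d h3 ((Dvd.intro_left _ h5).trans h6) h4).2
    have h8 : Z ⊓ centralizer ((P : Subgroup G) : Set G) = ⊥ := by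
      obtain ⟨k, hk⟩ := ((hRp.to_le hZ).to_inf_left
        (K := centralizer ((P : Subgroup G) : Set G))).exists_card_eq
      rcases k with _ | k
      · exact card_eq_one.1 hk
      · exact absurd ((Dvd.intro_left (r ^ k) (by rw [← h5, hk]; ring)).trans h6) h7
    rw [h8, card_bot, one_mul] at h5
    exact ⟨h8, h5 ▸ h7⟩
  obtain ⟨k1, k2⟩ := key R le_rfl hPR hc
  refine ⟨R, Sylow.characteristic_of_normal (hRp.toSylow hRi) hRn, ?_, k2⟩
  have hne : R ≠ ⊥ := fun e => hc (e ▸ bot_le)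
  have hZ : R ⊓ centralizer (R : Set G) ≠ ⊥ := by
    have := (Subgroup.nontrivial_iff_ne_bot R).2 hne
    have := hRp.center_nontrivial
    obtain ⟨⟨z, hz⟩, h1⟩ := exists_ne (1 : center R)
    refine fun e => h1 (Subtype.ext (Subtype.ext (e.le ⟨z.2, fun y hy => ?_⟩)))
    exact congrArg Subtype.val (mem_center_iff.1 hz ⟨y, hy⟩)
  obtain ⟨-, k3⟩ := key _ inf_le_left le_normalizer_of_normal fun e =>
    hZ (eq_bot_iff.2 (k1 ▸ le_inf inf_le_left e))
  have h1 := card_inf_mul_relIndex (centralizer (R : Set G)) R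
  obtain ⟨j, hj⟩ := hRp.index ((centralizer (R : Set G)).subgroupOf R)
  rcases j with _ | j
  · exact fun a ha b hb => relIndex_eq_one.1 hj hb a ha
  · rw [relIndex, hj, inf_comm] at h1
    exact absurd ((Dvd.intro_left (r ^ j) (by rw [← h1]; ring)).trans
      ((card_subgroup_dvd_card R).trans hn)) k3

/-- The nonabelian simple section attached to a prime dividing a character degree. -/
theorem exists_section {r : ℕ} (hrp : r ≠ p) (h1 : ¬ p ^ 2 ∣ Nat.card G)
    (hpG : p ∈ degreePrimes G) (hrG : r ∈ degreePrimes G)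
    (h : ∀ d, IsPrimePow d → d ∣ Nat.card G → d % p = 1 → r ∣ d ∧ ¬ r * d ∣ Nat.card G) :
    ∃ (K : Subgroup G) (_ : K.Normal) (N : Subgroup K) (_ : N.Normal), IsSimpleGroup (K ⧸ N) ∧
      ¬ IsMulCommutative (K ⧸ N) ∧ p ∣ Nat.card (K ⧸ N) ∧
      ∀ M : Subgroup K, M.Normal → ¬ p ∣ M.index → M = ⊤ := by
  have := Fact.mk hrG.1
  obtain ⟨P⟩ : Nonempty (Sylow p G) := inferInstance
  have hK := eq_top_of_normalClosure P.isPGroup'
  have hPK : (P : Subgroup G) ≤ normalClosure ((P : Subgroup G) : Set G) := le_normalClosure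
  have hs := mt (not_mem_of_card_sylow h1) (not_not.2 hpG)
  generalize_proofs at hK
  set K := normalClosure ((P : Subgroup G) : Set G)
  have hK1 : Nat.card (Sylow p K) ≠ 1 := fun e => hs (by
    have : Subsingleton (Sylow p K) := (Nat.card_eq_one_iff_unique.1 e).1
    have h2 : (((P.subtype hPK : Sylow p K) : Subgroup K).map K.subtype).Normal := inferInstance
    rw [Sylow.coe_subtype, map_subgroupOf_eq_of_le hPK] at h2
    have := P.unique_of_normal h2
    exact Nat.card_unique)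
  have : Nontrivial K := by
    by_contra! e
    exact hK1 (Nat.card_eq_one_iff_unique.2 ⟨⟨fun a b => Sylow.ext (Subsingleton.elim _ _)⟩,
      inferInstance⟩)
  obtain ⟨N, hN, hNt, hS⟩ := Gold.TF.exists_normal_simple_quotient K
  have hpN : p ∣ N.index := by
    by_contra e
    exact hNt (hK N hN e)
  refine ⟨K, inferInstance, N, hN, hS, fun hc => ?_, hpN, hK⟩
  have hi : N.index = p := by
    let _ : CommGroup (K ⧸ N) := { mul_comm := hc.is_comm.comm }
    exact ((Nat.prime_dvd_prime_iff_eq hp.out IsSimpleGroup.prime_card).1 hpN).symm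
  have hNp : ¬ p ∣ Nat.card N := fun e => h1 (by
    refine Dvd.dvd.trans ?_ (card_subgroup_dvd_card K)
    rw [← card_mul_index N, hi, sq]
    exact Nat.mul_dvd_mul_right e p)
  rcases normal_or hrp (card_subgroup_dvd_card K) h hK (P.subtype hPK) hNp hi with e | ⟨R, e1, e2, e3⟩
  · have := (P.subtype hPK).unique_of_normal e
    exact hK1 Nat.card_unique
  · refine not_mem_degreePrimes (A := R.map K.subtype) ?_ (fun e => e3 ?_) hrG
    · rintro _ ⟨a, ha, rfl⟩ _ ⟨b, hb, rfl⟩
      exact congrArg Subtype.val (e2 a ha b hb)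
    · rw [← card_mul_index (R.map K.subtype), card_map_of_injective K.subtype_injective, mul_comm]
      exact Nat.mul_dvd_mul_left _ e

omit hp in
theorem exists_dvd_of_normal (K : Subgroup G) [K.Normal] {d : ℕ} (hd : d ∈ charDegrees K) :
    ∃ e ∈ charDegrees G, d ∣ e := by
  obtain ⟨θ, rfl⟩ := hd
  obtain ⟨χ, hχ, h⟩ := Deg.exists_irr_over_deg_dvd θ.2
  exact ⟨_, ⟨⟨χ, hχ⟩, rfl⟩, h⟩

omit hp [Finite G] in
theorem mem_of_quotient (N : Subgroup G) [N.Normal] {d : ℕ} (hd : d ∈ charDegrees (G ⧸ N)) :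
    d ∈ charDegrees G :=
  GL2.charDegrees_subset_of_surjective _ (QuotientGroup.mk'_surjective N) hd

omit hp in
theorem exists_under (K : Subgroup G) [K.Normal] {d : ℕ} (hd : d ∈ charDegrees G) :
    ∃ e ∈ charDegrees K, ∃ k, d = k * e ∧ k ∣ K.index := by
  classical
  have := Fintype.ofFinite G
  obtain ⟨χ, rfl⟩ := hd
  obtain ⟨θ, hθ, hne⟩ := exists_irr_under K χ.2
  exact ⟨_, ⟨⟨θ, hθ⟩, rfl⟩, Deg.exists_deg_eq_mul_of_lies_over χ.2 hθ hne⟩

omit hp in
theorem sum_sq_le (s : Finset ℕ) (h : ∀ d ∈ s, d ∈ charDegrees G) :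
    ∑ d ∈ s, d ^ 2 ≤ Nat.card G := by
  classical
  have := Fintype.ofFinite (IrrCharacter G)
  rw [← Deg.sum_deg_sq G]
  refine le_trans (Finset.sum_le_sum_of_subset (t := Finset.univ.image
    fun χ : IrrCharacter G => charDegree (χ : G → ℂ)) fun d hd => ?_) ?_
  · obtain ⟨χ, rfl⟩ := h d hd
    exact Finset.mem_image_of_mem _ (Finset.mem_univ χ)
  · convert Finset.sum_image_le_of_nonneg (s := Finset.univ)
      (g := fun χ : IrrCharacter G => charDegree (χ : G → ℂ)) (f := fun d : ℕ => d ^ 2)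
      fun _ _ => Nat.zero_le _

end Cfsg.Lib.Perm.DegSec
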