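import Cfsg.Agent.Perm.Socle
import Cfsg.Agent.Perm.Derange

/-!
# Extremely primitive groups: Manning's theorem and basic tools
-/

set_option autoImplicit false
set_option linter.unusedSectionVars false

open scoped Pointwise

namespace Cfsg.Lib.Perm.Socle

open MulAction

variable {G : Type*} [Group G] {Ω : Type*} [MulAction G Ω]

theorem max_stabilizer (hprim : IsPreprimitive G Ω) (a : Ω) (X : Subgroup G)
    (hX : stabilizer G a ≤ X) : X = stabilizer G a ∨ X = ⊤ := by
  rcases subsingleton_or_nontrivial Ω with h | h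
  · right
    rw [eq_top_iff]
    exact fun g _ => hX (Subsingleton.elim _ _)
  · have := IsPreprimitive.isCoatom_stabilizer_of_isPreprimitive G a
    rcases hX.eq_or_lt with e | e
    · exact Or.inl e.symm
    · exact Or.inr (this.2 X e)

variable (G Ω) in
/-- Extremely primitive action, in terms of subgroups. -/
structure EP : Prop where
  prim : IsPreprimitive G Ω
  max : ∀ (a b : Ω) (X : Subgroup G), stabilizer G a ⊓ stabilizer G b ≤ X → X ≤ stabilizer G a →
    X = stabilizer G a ⊓ stabilizer G b ∨ X = stabilizer G a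

theorem EP.of (hprim : IsPreprimitive G Ω)
    (hep : ∀ a b : Ω, IsPreprimitive (stabilizer G a) (orbit (stabilizer G a) b)) : EP G Ω := by
  refine ⟨hprim, fun a b X h1 h2 => ?_⟩
  rcases max_stabilizer (hep a b) ⟨b, mem_orbit_self b⟩ (X.subgroupOf (stabilizer G a))
    (fun x hx => h1 ⟨x.2, congrArg Subtype.val hx⟩) with h | h
  · left
    refine le_antisymm (fun x hx => ⟨h2 hx, ?_⟩) h1
    have : (⟨x, h2 hx⟩ : stabilizer G a) ∈ X.subgroupOf (stabilizer G a) := hx
    rw [h] at this
    exact congrArg Subtype.val this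
  · right
    exact le_antisymm h2 (Subgroup.subgroupOf_eq_top.1 h)

variable [FaithfulSMul G Ω] [Finite G]

theorem eq_one_of_conj_fix (hprim : IsPreprimitive G Ω) {k : G} {a : Ω}
    (h : ∀ g : G, (g * k * g⁻¹) • a = a) : k = 1 := by
  refine eq_one_of_fix (Ω := Ω) fun ω => ?_
  obtain ⟨g, rfl⟩ := hprim.toIsPretransitive.exists_smul_eq a ω
  have := h g⁻¹
  rwa [inv_inv, mul_smul, mul_smul, inv_smul_eq_iff] at this

/-- The normalizer of a nontrivial invariant subset of `G_a` is `G_a`. -/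
theorem smul_eq_of_norm (hprim : IsPreprimitive G Ω) {a : Ω} {S : Set G} {k : G} (hk : k ∈ S)
    (hk1 : k ≠ 1) (hS : ∀ x ∈ S, x • a = a)
    (hn : ∀ h : G, h • a = a → ∀ x ∈ S, h * x * h⁻¹ ∈ S) {g : G}
    (hg : ∀ x ∈ S, g * x * g⁻¹ ∈ S) : g • a = a := by
  rcases max_stabilizer hprim a (Subgroup.normalizer S)
    (fun h hh => Subgroup.mem_normalizer_fintype (hn h hh)) with h | h
  · have : g ∈ Subgroup.normalizer S := Subgroup.mem_normalizer_fintype hg
    rwa [h] at this
  · refine absurd (eq_one_of_conj_fix hprim (a := a) fun x => hS _ ?_) hk1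
    have : x ∈ Subgroup.normalizer S := by rw [h]; trivial
    exact (this k).1 hk

theorem stabilizer_ne_bot (hprim : IsPreprimitive G Ω) {a : Ω} (h : stabilizer G a ≠ ⊥) (b : Ω) :
    stabilizer G b ≠ ⊥ := by
  obtain ⟨g, rfl⟩ := hprim.toIsPretransitive.exists_smul_eq a b
  rw [stabilizer_smul_eq_stabilizer_map_conj]
  exact fun h0 => h ((Subgroup.map_eq_bot_iff_of_injective _ (MulAut.conj g).injective).1 h0)

theorem not_stabilizer_le (hprim : IsPreprimitive G Ω) {a b : Ω} (h : stabilizer G a ≠ ⊥)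
    (hab : b ≠ a) : ¬ stabilizer G a ≤ stabilizer G b := by
  intro hle
  obtain ⟨g, rfl⟩ := hprim.toIsPretransitive.exists_smul_eq a b
  obtain ⟨⟨k, hk⟩, hk1⟩ := Subgroup.ne_bot_iff_exists_ne_one.1 h
  apply hab
  rw [← inv_inv g, inv_smul_eq_iff]
  refine (smul_eq_of_norm hprim (S := stabilizer G a) hk (fun e => hk1 (Subtype.ext e))
    (fun x hx => hx) (fun h hh x hx => ?_) (fun x hx => ?_)).symm
  · exact (stabilizer G a).mul_mem ((stabilizer G a).mul_mem hh hx) ((stabilizer G a).inv_mem hh)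
  · have : x • g • a = g • a := hle hx
    show (g⁻¹ * x * g⁻¹⁻¹) • a = a
    rw [inv_inv, mul_smul, mul_smul, this, inv_smul_smul]

namespace EP

/-- A subgroup normal in `G_a` either fixes `b` or is transitive on the `G_a`-orbit of `b`. -/
theorem exists_smul_eq (h : EP G Ω) {a b : Ω} {M : Subgroup G} (hM : M ≤ stabilizer G a)
    (hn : ∀ g : G, g • a = a → ∀ m ∈ M, g * m * g⁻¹ ∈ M) (hb : ¬ M ≤ stabilizer G b) {g : G}
    (hg : g • a = a) : ∃ m ∈ M, m • b = g • b := by
  let X : Subgroup G :=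
    { carrier := {g | g • a = a ∧ ∃ m ∈ M, m • b = g • b}
      one_mem' := ⟨one_smul _ _, 1, M.one_mem, rfl⟩
      mul_mem' := by
        rintro x y ⟨hx, m, hm, e⟩ ⟨hy, m', hm', e'⟩
        refine ⟨by rw [mul_smul, hy, hx], x * m' * x⁻¹ * m, M.mul_mem (hn x hx m' hm') hm, ?_⟩
        rw [mul_smul, e, mul_smul, inv_smul_smul, mul_smul, e', mul_smul]
      inv_mem' := by
        rintro x ⟨hx, m, hm, e⟩
        have hx' : x⁻¹ • a = a := by rw [inv_smul_eq_iff, hx]
        refine ⟨hx', x⁻¹ * m⁻¹ * x⁻¹⁻¹, hn _ hx' _ (M.inv_mem hm), ?_⟩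
        rw [inv_inv, mul_smul, mul_smul, ← e, inv_smul_smul] }
  rcases h.max a b X (fun x hx => ⟨hx.1, 1, M.one_mem, by rw [one_smul]; exact hx.2.symm⟩)
    (fun x hx => hx.1) with e | e
  · exfalso
    refine hb fun m hm => ?_
    have : m ∈ X := ⟨hM hm, m, hm, rfl⟩
    rw [e] at this
    exact this.2
  · have : g ∈ X := by rw [e]; exact hg
    exact this.2

theorem card_orbit_eq {a b : Ω} (g : G) (hg : g • a = b) :
    Nat.card (orbit (stabilizer G (g • b)) b) = Nat.card (orbit (stabilizer G a) b) := by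
  rw [Derange.card_orbit_stabilizer, Derange.card_orbit_stabilizer]
  have e1 : (stabilizer G b).relIndex (stabilizer G (g • b)) =
      (stabilizer G a).relIndex (stabilizer G b) := by
    conv_lhs => rw [stabilizer_smul_eq_stabilizer_map_conj]; enter [1]; rw [← hg,
      stabilizer_smul_eq_stabilizer_map_conj]
    exact Subgroup.relIndex_map_map_of_injective _ _ (MulAut.conj g).injective
  rw [e1]
  have hc : (stabilizer G a).index = (stabilizer G b).index := by
    rw [← hg, stabilizer_smul_eq_stabilizer_map_conj]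
    exact (Subgroup.index_map_equiv _ (MulAut.conj g)).symm
  have h1 := Subgroup.relIndex_mul_index
    (inf_le_right : stabilizer G a ⊓ stabilizer G b ≤ stabilizer G b)
  have h2 := Subgroup.relIndex_mul_index
    (inf_le_left : stabilizer G a ⊓ stabilizer G b ≤ stabilizer G a)
  rw [Subgroup.inf_relIndex_right] at h1
  rw [Subgroup.inf_relIndex_left, hc, ← h1] at h2
  exact (Nat.eq_of_mul_eq_mul_right (Nat.pos_of_ne_zero Subgroup.FiniteIndex.index_ne_zero) h2).symm

/-- **Manning's theorem**. -/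
theorem manning (h : EP G Ω) {a b : Ω} (hH : stabilizer G a ≠ ⊥) (hab : b ≠ a) {k : G}
    (hk : k • a = a) (hfix : ∀ x : G, x • a = a → k • x • b = x • b) : k = 1 := by
  by_contra hk1
  let K : Subgroup G :=
    { carrier := {k | k • a = a ∧ ∀ x : G, x • a = a → k • x • b = x • b}
      one_mem' := ⟨one_smul _ _, fun _ _ => one_smul _ _⟩
      mul_mem' := by
        rintro x y ⟨hx, e⟩ ⟨hy, e'⟩
        exact ⟨by rw [mul_smul, hy, hx], fun z hz => by rw [mul_smul, e' z hz, e z hz]⟩
      inv_mem' := by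
        rintro x ⟨hx, e⟩
        exact ⟨by rw [inv_smul_eq_iff, hx], fun z hz => by rw [inv_smul_eq_iff, e z hz]⟩ }
  have hKn : ∀ g : G, g • a = a → ∀ m ∈ K, g * m * g⁻¹ ∈ K := by
    intro g hg m hm
    have hg' : g⁻¹ • a = a := by rw [inv_smul_eq_iff, hg]
    refine ⟨by rw [mul_smul, mul_smul, hg', hm.1, hg], fun z hz => ?_⟩
    have := hm.2 (g⁻¹ * z) (by rw [mul_smul, hz, hg'])
    rw [mul_smul] at this
    rw [mul_smul, mul_smul, this, smul_inv_smul]
  obtain ⟨g, hg⟩ := h.prim.toIsPretransitive.exists_smul_eq a b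
  -- some point `g' • b` with `g' • a = b` is moved by `K`
  obtain ⟨g', hg', m, hm, hmove⟩ : ∃ g' : G, g' • a = b ∧ ∃ m ∈ K, m • g' • b ≠ g' • b := by
    by_contra hc
    push Not at hc
    apply hab
    rw [← hg, ← inv_inv g, inv_smul_eq_iff]
    refine (smul_eq_of_norm h.prim (S := K) (k := k) ⟨hk, hfix⟩ hk1 (fun x hx => hx.1) hKn
      (fun x hx => ⟨?_, fun z hz => ?_⟩)).symm
    · have := hx.2 1 (one_smul _ _)
      rw [one_smul] at this
      rw [inv_inv, mul_smul, mul_smul, hg, this, ← hg, inv_smul_smul]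
    · have := hc (g * z) (by rw [mul_smul, hz, hg]) x hx
      rw [mul_smul] at this
      rw [inv_inv, mul_smul, mul_smul, this, inv_smul_smul]
  have hda : g' • b ≠ a := fun e => hmove (by rw [e, hm.1])
  have hsub : orbit (stabilizer G a) b ⊆ orbit (stabilizer G (g' • b)) b := by
    rintro _ ⟨x, rfl⟩
    obtain ⟨m', hm', e⟩ := h.exists_smul_eq (M := K) (fun x hx => hx.1) hKn
      (fun hle => hmove (hle hm)) (x⁻¹).2
    have e1 : m' • b = b := by simpa using hm'.2 1 (one_smul _ _)
    refine ⟨⟨x * m', ?_⟩, ?_⟩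
    · show ((x : G) * m') • g' • b = g' • b
      rw [mul_smul, e]
      exact smul_inv_smul (x : G) _
    · show ((x : G) * m') • b = (x : G) • b
      rw [mul_smul, e1]
  have hfin : (orbit (stabilizer G (g' • b)) b).Finite := Set.finite_range _
  have heq : orbit (stabilizer G a) b = orbit (stabilizer G (g' • b)) b :=
    Set.eq_of_subset_of_ncard_le hsub (by
      rw [← Nat.card_coe_set_eq, ← Nat.card_coe_set_eq, card_orbit_eq g' hg']) hfin
  have hst : ∀ (c : Ω) (x : G), x • c = c →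
      x ∈ stabilizer G (orbit (stabilizer G c) b) := fun c x hx =>
    smul_orbit (⟨x, hx⟩ : stabilizer G c) b
  rcases max_stabilizer h.prim a (stabilizer G (orbit (stabilizer G a) b)) (hst a) with e | e
  · refine not_stabilizer_le h.prim (stabilizer_ne_bot h.prim hH (g' • b)) hda.symm ?_
    rw [← e, heq]
    exact hst _
  · have : g⁻¹ ∈ stabilizer G (orbit (stabilizer G a) b) := by rw [e]; trivial
    have h2 : g⁻¹ • b ∈ g⁻¹ • orbit (stabilizer G a) b :=
      Set.smul_mem_smul_set (mem_orbit_self b)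
    rw [this, ← hg, inv_smul_smul, hg] at h2
    obtain ⟨x, hx⟩ := h2
    apply hab
    have hx' : (x : G) • b = a := hx
    rw [← inv_smul_smul (x : G) b, hx']
    exact (x⁻¹).2

/-- A subgroup normal in `G_a` and fixing `b ≠ a` is trivial. -/
theorem eq_bot_of_le (h : EP G Ω) {a b : Ω} (hH : stabilizer G a ≠ ⊥) (hab : b ≠ a)
    {M : Subgroup G} (hM : M ≤ stabilizer G a)
    (hn : ∀ g : G, g • a = a → ∀ m ∈ M, g * m * g⁻¹ ∈ M) (hb : M ≤ stabilizer G b) : M = ⊥ := by
  rw [eq_bot_iff]
  intro m hm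
  refine h.manning hH hab (hM hm) fun x hx => ?_
  have := hb (hn x⁻¹ (by rw [inv_smul_eq_iff, hx]) m hm)
  rwa [mem_stabilizer_iff, inv_inv, mul_smul, mul_smul, inv_smul_eq_iff] at this

theorem trans_of_ne_bot (h : EP G Ω) {a : Ω} {M : Subgroup G} (hM : M ≤ stabilizer G a)
    (hn : ∀ g : G, g • a = a → ∀ m ∈ M, g * m * g⁻¹ ∈ M) (h0 : M ≠ ⊥) (b : Ω) {g : G}
    (hg : g • a = a) : ∃ m ∈ M, m • b = g • b := by
  by_cases hab : b = a
  · exact ⟨1, M.one_mem, by rw [hab, hg, one_smul]⟩
  · exact h.exists_smul_eq hM hn (fun hb => h0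
      (h.eq_bot_of_le (fun e => h0 (by rw [eq_bot_iff, ← e]; exact hM)) hab hM hn hb)) hg

/-- An element of `G_{ab}` commuting with a nontrivial normal subgroup of `G_a` is trivial. -/
theorem eq_one_of_comm (h : EP G Ω) {a b : Ω} (hab : b ≠ a) {M : Subgroup G}
    (hM : M ≤ stabilizer G a) (hn : ∀ g : G, g • a = a → ∀ m ∈ M, g * m * g⁻¹ ∈ M) (h0 : M ≠ ⊥)
    {k : G} (hka : k • a = a) (hkb : k • b = b) (hc : ∀ m ∈ M, m * k = k * m) : k = 1 := by
  refine h.manning (fun e => h0 (by rw [eq_bot_iff, ← e]; exact hM)) hab hka fun x hx => ?_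
  obtain ⟨m, hm, e⟩ := h.trans_of_ne_bot hM hn h0 b hx
  rw [← e, ← mul_smul, ← hc m hm, mul_smul, hkb]

/-- An element of `G_a` normalizing `G_{ab}` fixes `b`, unless `G_a` has no proper nontrivial
subgroup. -/
theorem smul_eq_or (h : EP G Ω) {a b : Ω} (hH : stabilizer G a ≠ ⊥) (hab : b ≠ a) {d : G}
    (hd : d • a = a) (hn : ∀ x : G, x • a = a → x • b = b → x • d • b = d • b) :
    d • b = b ∨ ∀ X : Subgroup G, X ≤ stabilizer G a → X = ⊥ ∨ X = stabilizer G a := by
  have hd' : d⁻¹ • a = a := by rw [inv_smul_eq_iff, hd]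
  rcases h.max a b (stabilizer G a ⊓
      Subgroup.normalizer ((stabilizer G a ⊓ stabilizer G b : Subgroup G) : Set G))
    (le_inf inf_le_left Subgroup.le_normalizer) inf_le_left with e | e
  · left
    have : d⁻¹ ∈ stabilizer G a ⊓
        Subgroup.normalizer ((stabilizer G a ⊓ stabilizer G b : Subgroup G) : Set G) := by
      refine ⟨hd', Subgroup.mem_normalizer_fintype fun x hx => ⟨?_, ?_⟩⟩
      · exact (stabilizer G a).mul_mem ((stabilizer G a).mul_mem hd' hx.1)
          ((stabilizer G a).inv_mem hd')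
      · show (d⁻¹ * x * d⁻¹⁻¹) • b = b
        rw [inv_inv, mul_smul, mul_smul, hn x hx.1 hx.2, inv_smul_smul]
    rw [e] at this
    have h2 : d⁻¹ • b = b := this.2
    rw [inv_smul_eq_iff] at h2
    exact h2.symm
  · right
    have h0 := h.eq_bot_of_le hH hab (M := stabilizer G a ⊓ stabilizer G b) inf_le_left
      (fun g hg m hm => by
        have : g ∈ Subgroup.normalizer ((stabilizer G a ⊓ stabilizer G b : Subgroup G) : Set G) :=
          (inf_eq_left.1 e) hg
        exact (this m).1 hm) inf_le_right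
    intro X hX
    have := h.max a b X (by rw [h0]; exact bot_le) hX
    rwa [h0] at this

end EP

/-- A nontrivial finite group without proper nontrivial subgroups has prime order. -/
theorem card_prime_of_min {H : Subgroup G} (hH : H ≠ ⊥)
    (h : ∀ X : Subgroup G, X ≤ H → X = ⊥ ∨ X = H) : (Nat.card H).Prime := by
  obtain ⟨p, hp, hdvd⟩ := Nat.exists_prime_and_dvd (n := Nat.card H)
    (fun e => hH (Subgroup.card_eq_one.1 e))
  have := Fact.mk hp
  obtain ⟨x, hx⟩ := exists_prime_orderOf_dvd_card' p hdvd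
  rcases h (Subgroup.zpowers (x : G)) (by simp) with e | e
  · rw [Subgroup.zpowers_eq_bot] at e
    rw [show x = 1 from Subtype.ext e, orderOf_one] at hx
    exact absurd hx.symm hp.ne_one
  · rw [← e, Nat.card_zpowers, Subgroup.orderOf_coe, hx]
    exact hp

end Cfsg.Lib.Perm.Socle
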