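import Cfsg.Agent.Perm.ExtPrim

/-!
# Extremely primitive groups: abelian normal subgroups of the point stabilizer
-/

set_option autoImplicit false
set_option linter.unusedSectionVars false

namespace Cfsg.Lib.Perm.Socle

open MulAction

variable {G : Type*} [Group G] {Ω : Type*} [MulAction G Ω] [FaithfulSMul G Ω] [Finite G]

theorem exists_ne_of_stabilizer {a : Ω} (hH : stabilizer G a ≠ ⊥) : ∃ b : Ω, b ≠ a := by
  by_contra hc
  push Not at hc
  apply hH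
  rw [eq_bot_iff]
  exact fun g _ => eq_one_of_fix (Ω := Ω) fun ω => by rw [hc (g • ω), hc ω]

namespace EP

variable {a : Ω} {A : Subgroup G}

theorem mem_of_cent (h : EP G Ω) (hA : A ≤ stabilizer G a)
    (hn : ∀ g : G, g • a = a → ∀ m ∈ A, g * m * g⁻¹ ∈ A) (h0 : A ≠ ⊥)
    (hc : ∀ x ∈ A, ∀ y ∈ A, x * y = y * x) {c : G} (hca : c • a = a)
    (hcc : ∀ m ∈ A, m * c = c * m) : c ∈ A := by
  obtain ⟨b, hb⟩ := exists_ne_of_stabilizer (G := G) (a := a)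
    (fun e => h0 (by rw [eq_bot_iff, ← e]; exact hA))
  obtain ⟨m, hm, e⟩ := h.trans_of_ne_bot hA hn h0 b hca
  have := h.eq_one_of_comm hb hA hn h0 (k := m⁻¹ * c)
    (by rw [mul_smul, hca]; exact hA (A.inv_mem hm)) (by rw [mul_smul, ← e, inv_smul_smul])
    (fun x hx => by rw [← mul_assoc, hc x hx _ (A.inv_mem hm), mul_assoc, hcc x hx, mul_assoc])
  rw [inv_mul_eq_one] at this
  rwa [← this]

theorem semireg (h : EP G Ω) (hA : A ≤ stabilizer G a)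
    (hn : ∀ g : G, g • a = a → ∀ m ∈ A, g * m * g⁻¹ ∈ A) (h0 : A ≠ ⊥)
    (hc : ∀ x ∈ A, ∀ y ∈ A, x * y = y * x) {b : Ω} (hb : b ≠ a) {m : G} (hm : m ∈ A)
    (hmb : m • b = b) : m = 1 :=
  h.eq_one_of_comm hb hA hn h0 (hA hm) hmb fun x hx => hc x hx m hm

theorem card_orbit_sub (h : EP G Ω) (hA : A ≤ stabilizer G a)
    (hn : ∀ g : G, g • a = a → ∀ m ∈ A, g * m * g⁻¹ ∈ A) (h0 : A ≠ ⊥)
    (hc : ∀ x ∈ A, ∀ y ∈ A, x * y = y * x) {b : Ω} (hb : b ≠ a) :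
    Nat.card (orbit A b) = Nat.card A := by
  have : stabilizer A b = ⊥ := by
    rw [eq_bot_iff]
    exact fun m hm => Subtype.ext (h.semireg hA hn h0 hc hb m.2 hm)
  rw [Nat.card_coe_set_eq, ← index_stabilizer, this, Subgroup.index_bot]

theorem card_orbit (h : EP G Ω) (hA : A ≤ stabilizer G a)
    (hn : ∀ g : G, g • a = a → ∀ m ∈ A, g * m * g⁻¹ ∈ A) (h0 : A ≠ ⊥)
    (hc : ∀ x ∈ A, ∀ y ∈ A, x * y = y * x) {b : Ω} (hb : b ≠ a) :
    Nat.card (orbit (stabilizer G a) b) = Nat.card A := by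
  rw [← h.card_orbit_sub hA hn h0 hc hb]
  congr 2
  refine Set.Subset.antisymm ?_ ?_
  · rintro _ ⟨g, rfl⟩
    obtain ⟨m, hm, e⟩ := h.trans_of_ne_bot hA hn h0 b g.2
    exact ⟨⟨m, hm⟩, e⟩
  · rintro _ ⟨m, rfl⟩
    exact ⟨⟨m, hA m.2⟩, rfl⟩

theorem card_dvd [Finite Ω] (h : EP G Ω) (hA : A ≤ stabilizer G a)
    (hn : ∀ g : G, g • a = a → ∀ m ∈ A, g * m * g⁻¹ ∈ A) (h0 : A ≠ ⊥)
    (hc : ∀ x ∈ A, ∀ y ∈ A, x * y = y * x) : Nat.card A ∣ Nat.card Ω - 1 := by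
  have := Derange.dvd_ncard_of_dvd_orbits (G := A) (k := Nat.card A) ({a}ᶜ : Set Ω)
    (fun g x hx e => hx (by
      have h1 : (g : G) • a = a := hA g.2
      have h2 : (g : G) • x = a := e
      exact smul_left_cancel (g : G) (h2.trans h1.symm)))
    (fun x hx => by rw [h.card_orbit_sub hA hn h0 hc hx])
  rwa [Set.ncard_compl, Set.ncard_singleton] at this

end EP

theorem map_stab_le {a : Ω} (A : Subgroup (stabilizer G a)) :
    A.map (stabilizer G a).subtype ≤ stabilizer G a := Subgroup.map_subtype_le A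

theorem map_stab_norm {a : Ω} (A : Subgroup (stabilizer G a)) [hA : A.Normal] (g : G)
    (hg : g • a = a) : ∀ m ∈ A.map (stabilizer G a).subtype,
      g * m * g⁻¹ ∈ A.map (stabilizer G a).subtype := by
  rintro _ ⟨m, hm, rfl⟩
  exact ⟨_, hA.conj_mem m hm ⟨g, hg⟩, rfl⟩

theorem map_stab_ne {a : Ω} {A : Subgroup (stabilizer G a)} (h : A ≠ ⊥) :
    A.map (stabilizer G a).subtype ≠ ⊥ := fun e =>
  h ((Subgroup.map_eq_bot_iff_of_injective _ (Subgroup.subtype_injective _)).1 e)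

theorem map_stab_comm {a : Ω} {A : Subgroup (stabilizer G a)}
    (h : ∀ x ∈ A, ∀ y ∈ A, x * y = y * x) :
    ∀ x ∈ A.map (stabilizer G a).subtype, ∀ y ∈ A.map (stabilizer G a).subtype,
      x * y = y * x := by
  rintro _ ⟨x, hx, rfl⟩ _ ⟨y, hy, rfl⟩
  exact congrArg Subtype.val (h x hx y hy)

theorem EP.centralizer_le (h : EP G Ω) {a : Ω} {A : Subgroup (stabilizer G a)} [A.Normal]
    (h0 : A ≠ ⊥) (hc : ∀ x ∈ A, ∀ y ∈ A, x * y = y * x) :
    Subgroup.centralizer (A : Set (stabilizer G a)) ≤ A := by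
  intro c hcc
  obtain ⟨m, hm, e⟩ := h.mem_of_cent (map_stab_le A) (map_stab_norm A) (map_stab_ne h0)
    (map_stab_comm hc) c.2 (by
      rintro _ ⟨m, hm, rfl⟩
      exact congrArg Subtype.val (hcc m hm))
  rwa [← Subtype.ext e]

end Cfsg.Lib.Perm.Socle
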