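import Mathlib.GroupTheory.GroupAction.Quotient
import Mathlib.GroupTheory.GroupAction.SubMulAction
import Mathlib.GroupTheory.GroupAction.ConjAct
import Mathlib.GroupTheory.Index
import Mathlib.GroupTheory.Perm.Cycle.Type
import Mathlib.Algebra.BigOperators.Ring.Finset

/-!
Half-transitive automorphism groups (Isaacs and Passman).
-/

set_option autoImplicit false

namespace Cfsg.Lib.Perm

open MulAction

theorem dvd_card_of_card_stabilizer {L X : Type*} [Group L] [MulAction L X] [Finite X]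
    {m : ℕ} (h : ∀ x : X, (stabilizer L x).index = m) : m ∣ Nat.card X := by
  have := Fintype.ofFinite (orbitRel.Quotient L X)
  have : ∀ ω : orbitRel.Quotient L X, Finite (L ⧸ stabilizer L ω.out) := fun ω =>
    Finite.of_equiv _ (orbitEquivQuotientStabilizer L ω.out)
  rw [Nat.card_congr (selfEquivSigmaOrbitsQuotientStabilizer L X), Nat.card_sigma]
  exact Finset.dvd_sum fun ω _ => (h ω.out).symm.dvd

variable {A X : Type*} [Group A] [Finite A] [MulAction A X]

/-- A finite block whose size is prime to the common orbit length is fixed pointwise by the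
stabiliser of each of its points. -/
theorem block_fix (B : Set X) [Finite B] {m : ℕ} (hs : ∀ x ∈ B, (stabilizer A x).index = m)
    (hB : ∀ g : A, ∀ x ∈ B, g • x ∈ B → ∀ y ∈ B, g • y ∈ B) (hco : (Nat.card B).Coprime m)
    {x y : X} (hx : x ∈ B) (hy : y ∈ B) : stabilizer A x = stabilizer A y := by
  let L : Subgroup A :=
    { carrier := {g | g • x ∈ B}
      one_mem' := by simpa
      mul_mem' := fun {a b} ha hb => by
        rw [Set.mem_ofPred_eq, mul_smul]; exact hB a x hx ha _ hb
      inv_mem' := fun {a} ha => hB a⁻¹ _ ha (by simpa) x hx }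
  have hle : ∀ y ∈ B, stabilizer A y ≤ L := fun y hy g hg =>
    hB g y hy (by rwa [mem_stabilizer_iff.1 hg]) x hx
  let S : SubMulAction L X := ⟨B, fun g y hy => hB g x hx g.2 y hy⟩
  have h1 : ∀ y : S, (stabilizer L y).index * L.index = m := fun y => by
    rw [← hs y y.2, ← Subgroup.relIndex_mul_index (hle y y.2)]
    congr 2
    ext g
    simp [Subtype.ext_iff, Subgroup.mem_subgroupOf]
    rfl
  have h0 : L.index ≠ 0 := Subgroup.index_ne_zero_of_finite
  have h2 : ∀ y : S, (stabilizer L y).index = (stabilizer L (⟨x, hx⟩ : S)).index := fun y =>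
    Nat.eq_of_mul_eq_mul_right (Nat.pos_of_ne_zero h0) ((h1 y).trans (h1 _).symm)
  have : Finite S := ‹Finite B›
  have h3 := Nat.eq_one_of_dvd_coprimes hco (dvd_card_of_card_stabilizer (X := S) h2)
    ⟨_, (h1 _).symm⟩
  have h4 : ∀ y ∈ B, stabilizer A y = L := fun y hy => le_antisymm (hle y hy) fun g hg => by
    have := Subgroup.index_eq_one.1 ((h2 ⟨y, hy⟩).trans h3)
    exact congrArg Subtype.val (show (⟨g, hg⟩ : L) • (⟨y, hy⟩ : S) = ⟨y, hy⟩ from
      mem_stabilizer_iff.1 (this ▸ Subgroup.mem_top _))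
  rw [h4 x hx, h4 y hy]

omit [Finite A] in
theorem coprime_of_invariant (B : Set X) [Finite B] {m : ℕ} {o : X} (ho : o ∈ B)
    (hs : ∀ x ∈ B, x ≠ o → (stabilizer A x).index = m) (hB : ∀ g : A, ∀ x ∈ B, g • x ∈ B)
    (hfix : ∀ g : A, g • o = o) : (Nat.card B).Coprime m := by
  let S : SubMulAction A X := ⟨B \ {o}, fun g y hy => ⟨hB g y hy.1, fun e => hy.2 (by
    rw [Set.mem_singleton_iff] at e ⊢
    rw [← inv_smul_smul g y, e, hfix])⟩⟩
  have hf : (B \ {o}).Finite := (Set.toFinite B).subset Set.sdiff_subset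
  have : Finite S := hf
  have h1 : m ∣ Nat.card S := dvd_card_of_card_stabilizer (L := A) fun y => by
    rw [← hs y y.2.1 y.2.2, SubMulAction.stabilizer_of_subMul]
  have h2 : Nat.card B = Nat.card S + 1 := by
    change B.ncard = (B \ {o}).ncard + 1
    rw [Set.ncard_sdiff_singleton_add_one ho (Set.toFinite B)]
  rw [h2]
  exact (Nat.coprime_add_self_left.2 (by simp : Nat.Coprime 1 _) |>.symm.coprime_dvd_left h1).symm
    |> fun h => by rwa [add_comm] at h

theorem stabilizer_eq_of_le {x y : X} (h : stabilizer A x ≤ stabilizer A y)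
    (e : (stabilizer A x).index = (stabilizer A y).index) : stabilizer A x = stabilizer A y := by
  have := Subgroup.relIndex_mul_index h
  rw [e, mul_eq_right₀ Subgroup.index_ne_zero_of_finite, Subgroup.relIndex_eq_one] at this
  exact le_antisymm h this

section aut

variable {N : Type*} [Group N] [Finite N] [MulDistribMulAction A N] {m : ℕ}

theorem half_eq_bot_or_top (hs : ∀ x : N, x ≠ 1 → (stabilizer A x).index = m)
    (hf : ∀ g : A, (∀ x : N, g • x = x) → g = 1) (hm : m ≠ Nat.card A) (M : Subgroup N)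
    (hM : ∀ g : A, ∀ x ∈ M, g • x ∈ M) : M = ⊥ ∨ M = ⊤ := by
  by_contra! h
  obtain ⟨⟨x, hx⟩, hx1⟩ := Subgroup.ne_bot_iff_exists_ne_one.1 h.1
  replace hx1 : x ≠ 1 := fun e => hx1 (Subtype.ext e)
  have hco := coprime_of_invariant (A := A) (M : Set N) M.one_mem (fun x _ => hs x) hM smul_one
  have key : ∀ y, y ∉ M → ∀ g ∈ stabilizer A y, ∀ z ∈ M, g • z = z := by
    intro y hy g hg z hz
    have h1 := block_fix (A := A) {u | u * y⁻¹ ∈ M} (m := m)
      (fun u hu => hs u (by rintro rfl; exact hy (by simpa using hu)))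
      (fun g u hu hgu v hv => by
        have := mul_mem (hM g _ (mul_mem hv (inv_mem hu))) hgu
        simpa [mul_assoc] using this)
      (by rwa [Nat.card_congr (α := {u | u * y⁻¹ ∈ M}) (β := M) ⟨fun u => ⟨u * y⁻¹, u.2⟩, fun u => ⟨u * y, by simp⟩,
        fun _ => by simp, fun _ => by simp⟩]) (x := y) (y := z * y) (by simp) (by simpa)
    have h2 := mem_stabilizer_iff.1 (h1 ▸ hg)
    rwa [smul_mul', mem_stabilizer_iff.1 hg, mul_left_inj] at h2
  have key2 : ∀ y, y ∉ M → stabilizer A y = stabilizer A x := fun y hy =>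
    stabilizer_eq_of_le (fun g hg => key y hy g hg x hx)
      ((hs y (by rintro rfl; exact hy M.one_mem)).trans (hs x hx1).symm)
  obtain ⟨y, -, hy⟩ := SetLike.exists_of_lt (lt_top_iff_ne_top.2 h.2)
  refine hm ?_
  rw [← hs x hx1, show stabilizer A x = ⊥ from ?_, Subgroup.index_bot]
  refine eq_bot_iff.2 fun g hg => hf g fun z => ?_
  by_cases hz : z ∈ M
  · exact key y hy g (key2 y hy ▸ hg) z hz
  · exact mem_stabilizer_iff.1 (key2 z hz ▸ hg)

theorem half_elementary [Nontrivial N] (hs : ∀ x : N, x ≠ 1 → (stabilizer A x).index = m)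
    (hf : ∀ g : A, (∀ x : N, g • x = x) → g = 1) (hm : m ≠ Nat.card A) :
    ∃ p : ℕ, p.Prime ∧ (∀ x y : N, x * y = y * x) ∧ ∀ x : N, x ^ p = 1 := by
  have hco := coprime_of_invariant (A := A) (Set.univ : Set N) (Set.mem_univ 1) (fun x _ => hs x)
    (fun _ _ _ => trivial) smul_one
  rw [Nat.card_univ] at hco
  have hle : ∀ x y : N, x ≠ 1 → y ≠ 1 → (∀ g : A, g • x = x → g • y = y) →
      stabilizer A x = stabilizer A y := fun x y hx hy h =>
    stabilizer_eq_of_le h ((hs x hx).trans (hs y hy).symm)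
  have hconj : ∀ x y : N, ∀ g : A, g • x = x → g • (y * x * y⁻¹) = y * x * y⁻¹ := by
    intro x y g hg
    by_cases hx : x = 1
    · simp [hx]
    have h1 := block_fix (A := A) (orbit (ConjAct N) x) (m := m)
      (fun u hu => hs u (by
        rw [ConjAct.mem_orbit_conjAct] at hu
        rintro rfl; exact hx (by simpa [eq_comm] using hu)))
      (fun g u hu hgu v hv => by
        rw [ConjAct.mem_orbit_conjAct] at hu hgu hv ⊢
        exact ((MulDistribMulAction.toMonoidHom N g).map_isConj (hv.trans hu.symm)).trans hgu)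
      (hco.coprime_dvd_left (by
        rw [Nat.card_congr (orbitEquivQuotientStabilizer _ x)]
        exact Subgroup.index_dvd_card _)) (x := x) (y := y * x * y⁻¹) (mem_orbit_self x)
      ⟨ConjAct.toConjAct y, rfl⟩
    exact mem_stabilizer_iff.1 (h1 ▸ hg)
  have hcomm : ∀ x y : N, x ≠ 1 → y ≠ 1 → stabilizer A x ≠ stabilizer A y → x * y = y * x := by
    intro x y hx hy hne
    by_contra h
    have hc : x * y * x⁻¹ * y⁻¹ ≠ 1 := fun e => h (by rwa [mul_inv_eq_one, mul_inv_eq_iff_eq_mul] at e)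
    refine hne ((hle x _ hx hc fun g hg => ?_).trans (hle y _ hy hc fun g hg => ?_).symm)
    · rw [mul_assoc, mul_assoc, ← mul_assoc y, smul_mul', hg, hconj x⁻¹ y g (by rw [smul_inv', hg])]
    · rw [smul_mul', hconj y x g hg, smul_inv', hg]
  have hex : ∀ x : N, x ≠ 1 → ∃ y : N, y ≠ 1 ∧ stabilizer A x ≠ stabilizer A y := by
    intro x hx
    by_contra! h
    refine hm ?_
    rw [← hs x hx, show stabilizer A x = ⊥ from ?_, Subgroup.index_bot]
    refine eq_bot_iff.2 fun g hg => hf g fun z => ?_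
    by_cases hz : z = 1
    · rw [hz, smul_one]
    · exact mem_stabilizer_iff.1 (h z hz ▸ hg)
  have hmul : ∀ x y : N, x ≠ 1 → y ≠ 1 → stabilizer A x ≠ stabilizer A y →
      x * y ≠ 1 ∧ stabilizer A (x * y) ≠ stabilizer A y := by
    intro x y hx hy hne
    refine ⟨fun e => hne (hle x y hx hy fun g hg => ?_), fun e => hne (hle y x hy hx fun g hg => ?_).symm⟩
    · rw [eq_inv_of_mul_eq_one_right e, smul_inv', hg]
    · have := mem_stabilizer_iff.1 (e ▸ (mem_stabilizer_iff.2 hg) : g ∈ stabilizer A (x * y))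
      rwa [smul_mul', hg, mul_left_inj] at this
  have hpow : ∀ x y : N, x ≠ 1 → y ≠ 1 → stabilizer A x ≠ stabilizer A y → ∀ n : ℕ,
      x ^ n = 1 → y ^ n = 1 := by
    intro x y hx hy hne n hn
    by_contra h
    obtain ⟨h1, h2⟩ := hmul x y hx hy hne
    refine h2 ((hle _ _ h1 h fun g hg => ?_).trans (hle _ _ hy h fun g hg => ?_).symm)
    · rw [← one_mul (y ^ n), ← hn, ← Commute.mul_pow (hcomm x y hx hy hne), smul_pow', hg]
    · rw [smul_pow', hg]
  obtain ⟨p, hp, hpN⟩ := Nat.exists_prime_and_dvd (Finite.one_lt_card (α := N)).ne'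
  have := Fact.mk hp
  obtain ⟨x, hx⟩ := exists_prime_orderOf_dvd_card' p hpN
  have hx1 : x ≠ 1 := by rintro rfl; exact hp.one_lt.ne (by simpa using hx)
  have hxp : x ^ p = 1 := hx ▸ pow_orderOf_eq_one x
  refine ⟨p, hp, fun a b => ?_, fun a => ?_⟩
  · by_cases ha : a = 1
    · simp [ha]
    by_cases hb : b = 1
    · simp [hb]
    by_cases e : stabilizer A a = stabilizer A b
    swap
    · exact hcomm a b ha hb e
    obtain ⟨c, hc, hne⟩ := hex b hb
    obtain ⟨h1, h2⟩ := hmul c b hc hb hne.symm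
    have h3 := hcomm a _ ha h1 (e ▸ h2.symm)
    rwa [← mul_assoc, hcomm a c ha hc (e ▸ hne), mul_assoc, mul_assoc, mul_right_inj] at h3
  · by_cases ha : a = 1
    · simp [ha]
    by_cases e : stabilizer A x = stabilizer A a
    swap
    · exact hpow x a hx1 ha e p hxp
    obtain ⟨c, hc, hne⟩ := hex x hx1
    exact hpow c a hc ha (e ▸ hne.symm) p (hpow x c hx1 hc hne p hxp)

end aut

end Cfsg.Lib.Perm
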