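import Mathlib.LinearAlgebra.FiniteDimensional.Lemmas
import Mathlib.FieldTheory.Finiteness
import Mathlib.Algebra.Field.ZMod
import Mathlib.GroupTheory.Subgroup.Center
import Mathlib.GroupTheory.OrderOfElement

/-!
Linear groups in which every non-zero vector has a stabiliser of order two (Passman).
-/

set_option autoImplicit false

namespace Cfsg.Lib.Perm

variable {k V G : Type*} [Field k] [AddCommGroup V] [Module k V] [Group G]

/-- The fixed space of `g`. -/
def fixSp (ρ : G →* (V ≃ₗ[k] V)) (g : G) : Submodule k V :=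
  LinearMap.eqLocus (ρ g : V →ₗ[k] V) LinearMap.id

@[simp] theorem mem_fixSp {ρ : G →* (V ≃ₗ[k] V)} {g : G} {v : V} : v ∈ fixSp ρ g ↔ ρ g v = v :=
  Iff.rfl

/-- The stabiliser of `v`. -/
def vStab (ρ : G →* (V ≃ₗ[k] V)) (v : V) : Subgroup G where
  carrier := {g | ρ g v = v}
  one_mem' := by simp
  mul_mem' {a b} ha hb := by
    simp only [Set.mem_ofPred_eq, map_mul, LinearEquiv.mul_apply] at ha hb ⊢
    rw [hb, ha]
  inv_mem' {a} ha := by
    simp only [Set.mem_ofPred_eq] at ha ⊢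
    conv_lhs => rw [← ha]
    rw [← LinearEquiv.mul_apply, ← map_mul, inv_mul_cancel, map_one]; rfl

@[simp] theorem mem_vStab {ρ : G →* (V ≃ₗ[k] V)} {g : G} {v : V} : g ∈ vStab ρ v ↔ ρ g v = v :=
  Iff.rfl

theorem rho_mul (ρ : G →* (V ≃ₗ[k] V)) (g h : G) (v : V) : ρ (g * h) v = ρ g (ρ h v) := by
  rw [map_mul]; rfl

theorem rho_one (ρ : G →* (V ≃ₗ[k] V)) (v : V) : ρ 1 v = v := by rw [map_one]; rfl

theorem rho_inv_apply (ρ : G →* (V ≃ₗ[k] V)) (g : G) (v : V) : ρ g⁻¹ (ρ g v) = v := by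
  rw [← rho_mul, inv_mul_cancel, rho_one]

theorem rho_apply_inv (ρ : G →* (V ≃ₗ[k] V)) (g : G) (v : V) : ρ g (ρ g⁻¹ v) = v := by
  rw [← rho_mul, mul_inv_cancel, rho_one]

theorem eq_of_rho {ρ : G →* (V ≃ₗ[k] V)} (hρ : Function.Injective ρ) {g h : G}
    (e : ∀ v, ρ g v = ρ h v) : g = h := hρ (LinearEquiv.ext e)

theorem eq_one_of_rho {ρ : G →* (V ≃ₗ[k] V)} (hρ : Function.Injective ρ) {g : G}
    (e : ∀ v, ρ g v = v) : g = 1 := eq_of_rho hρ fun v => by rw [e, rho_one]

theorem exists_of_card_eq_two {H : Subgroup G} (h : Nat.card H = 2) :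
    ∃ t ∈ H, orderOf t = 2 ∧ ∀ g ∈ H, g = 1 ∨ g = t := by
  obtain ⟨t, ht, hu⟩ := (Nat.card_eq_two_iff' (1 : H)).1 h
  have h1 : ∀ g ∈ H, g = 1 ∨ g = t := fun g hg => by
    by_cases e : (⟨g, hg⟩ : H) = 1
    · exact Or.inl (congrArg Subtype.val e)
    · exact Or.inr (congrArg Subtype.val (hu _ e))
  have ht1 : (t : G) ≠ 1 := fun e => ht (Subtype.ext e)
  refine ⟨t, t.2, ?_, h1⟩
  have : Fact (Nat.Prime 2) := ⟨Nat.prime_two⟩
  refine orderOf_eq_prime ?_ ht1
  rcases h1 _ (H.mul_mem t.2 t.2) with e | e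
  · rw [pow_two, e]
  · exact (ht1 (by simpa using e)).elim

theorem mul_self_of_orderOf_two {t : G} (h : orderOf t = 2) : t * t = 1 := by
  rw [← pow_two, ← h, pow_orderOf_eq_one]

theorem ne_one_of_orderOf_two {t : G} (h : orderOf t = 2) : t ≠ 1 := by
  rintro rfl
  simp at h

theorem neg_of_central {ρ : G →* (V ≃ₗ[k] V)} (hρ : Function.Injective ρ)
    (hstab : ∀ v : V, v ≠ 0 → Nat.card (vStab ρ v) = 2) {c : G} (hc : orderOf c = 2)
    (hcc : c ∈ Subgroup.center G) : (2 : k) ≠ 0 ∧ ∀ w, ρ c w = -w := by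
  have hc2 : ∀ w, ρ c (ρ c w) = w := fun w => by
    rw [← rho_mul, mul_self_of_orderOf_two hc, rho_one]
  have h1 : ∀ w, ρ c w ≠ w → ρ c w = -w := by
    intro w hw
    by_contra h
    have hw0 : w ≠ 0 := by rintro rfl; simp at hw
    obtain ⟨t, ht, ht2, -⟩ := exists_of_card_eq_two (hstab w hw0)
    obtain ⟨s, -, -, hs⟩ := exists_of_card_eq_two (hstab (w + ρ c w) fun e =>
      h (eq_neg_of_add_eq_zero_right e))
    have e1 := (hs c (by rw [mem_vStab, map_add, hc2, add_comm])).resolve_left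
      (ne_one_of_orderOf_two hc)
    have e2 := (hs t (by
      rw [mem_vStab, map_add, ← rho_mul, Subgroup.mem_center_iff.1 hcc t, rho_mul,
        mem_vStab.1 ht])).resolve_left (ne_one_of_orderOf_two ht2)
    exact hw (by rw [e1, ← e2]; exact ht)
  obtain ⟨w, hw⟩ : ∃ w, ρ c w ≠ w := by
    by_contra! h
    exact ne_one_of_orderOf_two hc (eq_one_of_rho hρ h)
  have h2 : (2 : k) ≠ 0 := fun e => hw (by
    rw [h1 w hw, neg_eq_iff_add_eq_zero, ← two_smul k, e, zero_smul])
  refine ⟨h2, fun v => ?_⟩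
  by_cases hv : ρ c v = v
  · have h3 := h1 (v + w) (by rw [map_add, hv]; simpa using hw)
    rw [map_add, hv, h1 w hw, neg_add, add_left_inj, eq_neg_iff_add_eq_zero, ← two_smul k,
      smul_eq_zero] at h3
    rw [h3.resolve_left h2]; simp
  · exact h1 v hv

theorem card_noncentral_involutions [Finite k] [Finite V] [Nontrivial V] [Finite G]
    {ρ : G →* (V ≃ₗ[k] V)} (hρ : Function.Injective ρ)
    (hstab : ∀ v : V, v ≠ 0 → Nat.card (vStab ρ v) = 2) {z : G} (hz : orderOf z = 2)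
    (hzc : z ∈ Subgroup.center G) : ∃ r : ℕ, Module.finrank k V = 2 * r ∧
      Nat.card {g : G // orderOf g = 2 ∧ g ∉ Subgroup.center G} = Nat.card k ^ r + 1 := by
  obtain ⟨h2, hneg⟩ := neg_of_central hρ hstab hz hzc
  have hvv : ∀ v : V, v = -v → v = 0 := fun v h => by
    rw [eq_neg_iff_add_eq_zero, ← two_smul k, smul_eq_zero] at h
    exact h.resolve_left h2
  have : Fact (Nat.Prime 2) := ⟨Nat.prime_two⟩
  choose! t ht ht2 hu using fun v hv => exists_of_card_eq_two (hstab v hv)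
  have htc : ∀ v, v ≠ 0 → t v ∉ Subgroup.center G := fun v hv h =>
    hv (hvv v (by rw [← (neg_of_central hρ hstab (ht2 v hv) h).2 v]; exact (ht v hv).symm))
  have hmz : ∀ s v, ρ (s * z) v = -ρ s v := fun s v => by rw [rho_mul, hneg, map_neg]
  have hzz : ∀ s : G, s * z * z = s := fun s => by
    rw [mul_assoc, mul_self_of_orderOf_two hz, mul_one]
  have hI : ∀ s : G, orderOf s = 2 → s ∉ Subgroup.center G →
      orderOf (s * z) = 2 ∧ s * z ∉ Subgroup.center G := fun s hs hsc => by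
    have h : s * z ∉ Subgroup.center G := fun h => hsc (hzz s ▸ mul_mem h hzc)
    refine ⟨orderOf_eq_prime ?_ fun e => h (e ▸ one_mem _), h⟩
    rw [pow_two, ← mul_assoc, mul_assoc s z s, ← Subgroup.mem_center_iff.1 hzc s, ← mul_assoc, hzz,
      mul_self_of_orderOf_two hs]
  have hdis : ∀ s s' : G, orderOf s = 2 → orderOf s' = 2 → s ≠ s' →
      Module.finrank k (fixSp ρ s) + Module.finrank k (fixSp ρ s') ≤ Module.finrank k V := by
    intro s s' hs hs' hne
    refine Submodule.finrank_add_finrank_le_of_disjoint (Submodule.disjoint_def.2 fun v h h' => ?_)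
    by_contra hv
    exact hne (((hu v hv s h).resolve_left (ne_one_of_orderOf_two hs)).trans
      ((hu v hv s' h').resolve_left (ne_one_of_orderOf_two hs')).symm)
  have hsum : ∀ s : G, orderOf s = 2 →
      Module.finrank k V ≤ Module.finrank k (fixSp ρ s) + Module.finrank k (fixSp ρ (s * z)) := by
    intro s hs
    have hss : ∀ w, ρ s (ρ s w) = w := fun w => by
      rw [← rho_mul, mul_self_of_orderOf_two hs, rho_one]
    have : fixSp ρ s ⊔ fixSp ρ (s * z) = ⊤ := by
      rw [eq_top_iff]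
      intro w _
      have e : w = (2 : k)⁻¹ • ((w + ρ s w) + (w - ρ s w)) := by
        rw [show (w + ρ s w) + (w - ρ s w) = (2 : k) • w by rw [two_smul]; abel, smul_smul,
          inv_mul_cancel₀ h2, one_smul]
      rw [e]
      refine Submodule.smul_mem _ _ (Submodule.add_mem_sup ?_ ?_)
      · rw [mem_fixSp, map_add, hss, add_comm]
      · rw [mem_fixSp, hmz, map_sub, hss, neg_sub]
    rw [← Submodule.finrank_sup_add_finrank_inf_eq, this, finrank_top]
    exact Nat.le_add_right _ _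
  have hle : ∀ s : G, orderOf s = 2 → s ∉ Subgroup.center G →
      2 * Module.finrank k (fixSp ρ s) ≤ Module.finrank k V := by
    intro s hs hsc
    obtain ⟨w, hw⟩ : ∃ w, ρ s w ≠ w := by
      by_contra! h
      exact ne_one_of_orderOf_two hs (eq_one_of_rho hρ h)
    obtain ⟨w', hw'⟩ : ∃ w, ρ s w ≠ -w := by
      by_contra! h
      exact hsc (eq_of_rho hρ (fun v => (h v).trans (hneg v).symm) ▸ hzc)
    obtain ⟨v, hv, hv'⟩ : ∃ v, ρ s v ≠ v ∧ ρ s v ≠ -v := by
      by_cases e : ρ s w = -w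
      · by_cases e' : ρ s w' = w'
        · refine ⟨w + w', ?_, ?_⟩
          · rw [map_add, e']; simpa using hw
          · rw [map_add, e, neg_add]; simpa using hw'
        · exact ⟨w', e', hw'⟩
      · exact ⟨w, hw, e⟩
    have hv0 : v ≠ 0 := by rintro rfl; simp at hv
    have h3 := hdis s (t v) hs (ht2 v hv0) fun e => hv (e ▸ ht v hv0)
    have h4 := hdis s (t v * z) hs (hI _ (ht2 v hv0) (htc v hv0)).1 fun e => hv' (by
      rw [e, hmz, mem_vStab.1 (ht v hv0)])
    have h5 := hsum _ (ht2 v hv0)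
    omega
  have heq : ∀ s : G, orderOf s = 2 → s ∉ Subgroup.center G →
      2 * Module.finrank k (fixSp ρ s) = Module.finrank k V := fun s hs hsc => by
    have h3 := hle s hs hsc
    have h4 := hle _ (hI s hs hsc).1 (hI s hs hsc).2
    have h5 := hsum s hs
    omega
  obtain ⟨v₀, hv₀⟩ := exists_ne (0 : V)
  have hr := (heq _ (ht2 v₀ hv₀) (htc v₀ hv₀)).symm
  generalize Module.finrank k (fixSp ρ (t v₀)) = r at hr
  refine ⟨r, hr, ?_⟩
  let f : {v : V // v ≠ 0} → {g : G // orderOf g = 2 ∧ g ∉ Subgroup.center G} :=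
    fun v => ⟨t v, ht2 v v.2, htc v v.2⟩
  have hcard : ∀ {W : Type _} [AddCommGroup W] [Finite W],
      Nat.card {v : W // v ≠ 0} = Nat.card W - 1 := fun {W} _ _ => by
    classical
    have := Fintype.ofFinite W
    simp [Nat.card_eq_fintype_card]
  have hfib : ∀ s, Nat.card {v // f v = s} = Nat.card k ^ r - 1 := by
    intro s
    have h3 := heq s s.2.1 s.2.2
    rw [← show Module.finrank k (fixSp ρ s) = r by omega, ← Module.natCard_eq_pow_finrank,
      ← hcard]
    refine Nat.card_congr ⟨fun v => ⟨⟨v.1.1, ?_⟩, fun e => v.1.2 (congrArg Subtype.val e)⟩,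
      fun v => ⟨⟨v.1.1, fun e => v.2 (Subtype.ext e)⟩, Subtype.ext ?_⟩, fun _ => rfl, fun _ => rfl⟩
    · have e : t v.1.1 = s := congrArg Subtype.val v.2
      have := ht _ v.1.2
      rwa [e] at this
    · exact ((hu _ (fun e => v.2 (Subtype.ext e)) s v.1.2).resolve_left
        (ne_one_of_orderOf_two s.2.1)).symm
  have := Fintype.ofFinite {g : G // orderOf g = 2 ∧ g ∉ Subgroup.center G}
  have h3 := Nat.card_congr (Equiv.sigmaFiberEquiv f)
  rw [Nat.card_sigma, hcard, Module.natCard_eq_pow_finrank (K := k), hr] at h3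
  simp only [hfib, Finset.sum_const, Finset.card_univ, smul_eq_mul,
    ← Nat.card_eq_fintype_card] at h3
  have hr0 : r ≠ 0 := by
    have := Module.finrank_pos (R := k) (M := V)
    omega
  have h4 := Nat.one_lt_pow hr0 (Finite.one_lt_card (α := k))
  rw [mul_comm 2, pow_mul] at h3
  generalize Nat.card k ^ r = a at h3 h4 ⊢
  obtain ⟨b, rfl⟩ : ∃ b, a = b + 1 := ⟨a - 1, by omega⟩
  rw [show (b + 1) ^ 2 - 1 = (b + 1 + 1) * b by
    rw [Nat.sub_eq_iff_eq_add (Nat.one_le_pow _ _ (by omega))]; ring, Nat.add_sub_cancel] at h3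
  exact Nat.eq_of_mul_eq_mul_right (by omega) h3

end Cfsg.Lib.Perm
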