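import Cfsg.Agent.Perm.Imprim
import Cfsg.Agent.Perm.HalfAut
import Cfsg.Agent.Solv.PowSucc

/-!
Half-transitive linear `p`-groups (Passman), part one: the primitive case.
-/

set_option autoImplicit false

namespace Cfsg.Lib.Perm

open Subgroup Cfsg.Lib.Solv

variable {k : Type} {V G : Type*} [Field k] [AddCommGroup V] [Module k V] [Group G]

theorem card_orb (ρ : G →* (V ≃ₗ[k] V)) (v : V) :
    Nat.card {u : V | ∃ g : G, ρ g v = u} = (vStab ρ v).index := by
  let := MulAction.compHom V ρ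
  exact (MulAction.index_stabilizer G v).symm

/-- All stabilisers of non-zero vectors have the same index. -/
def HalfTr (ρ : G →* (V ≃ₗ[k] V)) : Prop :=
  ∀ v w : V, v ≠ 0 → w ≠ 0 → (vStab ρ v).index = (vStab ρ w).index

namespace HalfTr

variable [Finite G] {ρ : G →* (V ≃ₗ[k] V)}

theorem eq_of_le (h : HalfTr ρ) {v w : V} (hv : v ≠ 0) (hw : w ≠ 0) (hle : vStab ρ v ≤ vStab ρ w) :
    vStab ρ v = vStab ρ w := by
  let := MulAction.compHom V ρ
  exact stabilizer_eq_of_le (A := G) hle (h v w hv hw)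

theorem card_eq (h : HalfTr ρ) {v w : V} (hv : v ≠ 0) (hw : w ≠ 0) :
    Nat.card (vStab ρ v) = Nat.card (vStab ρ w) := by
  have h1 := (vStab ρ v).card_mul_index
  rw [h v w hv hw, ← (vStab ρ w).card_mul_index] at h1
  exact Nat.eq_of_mul_eq_mul_right (Nat.pos_of_ne_zero index_ne_zero_of_finite) h1

theorem ne_bot (h : HalfTr ρ) {v w : V} (hv : v ≠ 0) (hw : w ≠ 0) (h0 : vStab ρ v ≠ ⊥) :
    vStab ρ w ≠ ⊥ := fun e => h0 (card_eq_one.1 (by rw [h.card_eq hv hw, e, card_bot]))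

theorem irred [Finite V] (h : HalfTr ρ) (hρ : Function.Injective ρ) {v : V} (hv : v ≠ 0)
    (h0 : vStab ρ v ≠ ⊥) : Irred ρ := by
  intro W hW
  let : MulDistribMulAction G (Multiplicative V) :=
    { smul := fun g x => Multiplicative.ofAdd (ρ g x.toAdd)
      one_smul := fun x => rho_one ρ x.toAdd
      mul_smul := fun g g' x => rho_mul ρ g g' x.toAdd
      smul_mul := fun g x y => map_add (ρ g) x.toAdd y.toAdd
      smul_one := fun g => map_zero (ρ g) }
  rcases half_eq_bot_or_top (A := G) (N := Multiplicative V) (m := (vStab ρ v).index)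
    (fun x hx => h x.toAdd v hx hv) (fun g hg => eq_one_of_rho hρ hg) (fun e => h0 (by
      have h1 := (vStab ρ v).card_mul_index
      rwa [e, mul_eq_right₀ Nat.card_pos.ne', card_eq_one] at h1))
    W.toAddSubgroup.toSubgroup hW with e | e
  · exact Or.inl (eq_bot_iff.2 fun x hx => (e.le (x := Multiplicative.ofAdd x) hx :))
  · exact Or.inr (eq_top_iff.2 fun x _ => (e.ge (x := Multiplicative.ofAdd x) trivial :))

end HalfTr

theorem card_eq_two_of_inf_eq_bot [Finite G] {C S : Subgroup G} (hC : C.index = 2)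
    (h : C ⊓ S = ⊥) (h0 : S ≠ ⊥) : Nat.card S = 2 := by
  have := normal_of_index_eq_two hC
  have h1 := PG.relIndex_mul_card_inf C S
  rw [h, card_bot, mul_one] at h1
  have h2 := relIndex_dvd_index_of_normal C S
  rw [h1, hC, Nat.dvd_prime Nat.prime_two] at h2
  exact h2.resolve_left fun e => h0 (card_eq_one.1 e)

theorem mem_center_of_cyclic_normal [Finite G] {p : ℕ} [Fact p.Prime] (hG : IsPGroup p G)
    {C : Subgroup G} [C.Normal] [IsCyclic C] {c : G} (hc : c ∈ C) (ho : orderOf c = p) :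
    c ∈ center G := by
  have := PG.normal_of_le_of_isCyclic (zpowers_le.2 hc)
  exact PG.le_center_of_card_eq_prime hG _ (by rw [Nat.card_zpowers, ho]) (mem_zpowers c)

theorem Irred.inf_vStab_eq_bot [Finite G] {p : ℕ} [Fact p.Prime] (hG : IsPGroup p G)
    {ρ : G →* (V ≃ₗ[k] V)} (hirr : Irred ρ) (hρ : Function.Injective ρ) (C : Subgroup G)
    [C.Normal] [IsCyclic C] {v : V} (hv : v ≠ 0) : C ⊓ vStab ρ v = ⊥ := by
  by_contra h
  obtain ⟨c, hc, ho⟩ := PG.exists_orderOf_eq_prime (hG.to_subgroup _) h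
  refine hv (hirr.eq_zero_of_central hρ (mem_center_of_cyclic_normal hG hc.1 ho) ?_ hc.2)
  rintro rfl
  exact (Fact.out : p.Prime).one_lt.ne (by simpa using ho)

theorem card_involutions_eq [Finite G] (hG : IsPGroup 2 G) {a x : G} (hi : (zpowers a).index = 2)
    (hx : x ∉ zpowers a) (hax : x * a ≠ a * x) {K : Subgroup G} (hK : K ≤ zpowers a)
    (h : ∀ c ∈ zpowers a, c * x * (c * x) = 1 ↔ c ∈ K) :
    Nat.card {g : G // orderOf g = 2 ∧ g ∉ center G} = Nat.card K := by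
  have := normal_of_index_eq_two hi
  have hm : ∀ g : {g : G // orderOf g = 2 ∧ g ∉ center G}, g.1 * x⁻¹ ∈ zpowers a := fun g =>
    (mul_mem_iff_of_index_two hi).2 (iff_of_false
      (fun hg => g.2.2 (mem_center_of_cyclic_normal hG hg g.2.1)) (by rwa [inv_mem_iff]))
  refine Nat.card_congr ⟨fun g => ⟨g.1 * x⁻¹, (h _ (hm g)).1 ?_⟩, fun c => ⟨c * x, ?_, ?_⟩,
    fun _ => by simp, fun _ => by simp⟩
  · simpa using mul_self_of_orderOf_two g.2.1
  · refine orderOf_eq_prime (by rw [pow_two]; exact (h c (hK c.2)).2 c.2) fun e => hx ?_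
    rw [eq_inv_of_mul_eq_one_right e]
    exact inv_mem (hK c.2)
  · intro hc
    have h1 := mem_center_iff.1 hc a
    obtain ⟨n, hn⟩ := hK c.2
    rw [← hn, ← mul_assoc, (Commute.self_zpow a n).eq, mul_assoc, mul_assoc, mul_right_inj] at h1
    exact hax h1.symm

theorem HalfTr.primitive {q : ℕ} [hq : Fact q.Prime] [Module (ZMod q) V] [Finite V] [Finite G]
    {p : ℕ} [Fact p.Prime] (hG : IsPGroup p G) {ρ : G →* (V ≃ₗ[ZMod q] V)} (h : HalfTr ρ)
    (hρ : Function.Injective ρ) {v : V} (hv : v ≠ 0) (h0 : vStab ρ v ≠ ⊥)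
    (hn : ∀ A : Subgroup G, A.Normal → IsMulCommutative A → IsCyclic A) :
    Nat.card V = q ^ 2 ∧ ∃ m : ℕ, q = 2 ^ m - 1 ∧ (Nonempty (G ≃* DihedralGroup (2 ^ m)) ∨
      (IsQuasiDihedral G ∧ Nat.card G = 2 ^ (m + 2))) := by
  have hirr := h.irred hρ hv h0
  have : Nontrivial V := ⟨v, 0, hv⟩
  have hnc : ¬ IsCyclic G := fun _ => h0 (by simpa using hirr.inf_vStab_eq_bot hG hρ ⊤ hv)
  obtain rfl : p = 2 := by_contra fun hp2 =>
    hnc (PG.isCyclic_of_forall_normal_abelian_isCyclic hG hp2 hn)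
  obtain ⟨a, x, n, hn, ha, hx, htop, hc, hh⟩ :=
    (PG.two_group_of_forall_normal_abelian_isCyclic hG hn).resolve_left hnc
  have hi : (zpowers a).index = 2 := by
    have := (zpowers a).card_mul_index
    rw [Nat.card_zpowers, ha, hc, pow_succ] at this
    exact Nat.eq_of_mul_eq_mul_left (by positivity) this
  have := normal_of_index_eq_two hi
  have hs : ∀ w, w ≠ 0 → Nat.card (vStab ρ w) = 2 := fun w hw =>
    card_eq_two_of_inf_eq_bot hi (hirr.inf_vStab_eq_bot hG hρ _ hw) (h.ne_bot hv hw h0)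
  obtain ⟨z, hz, ho⟩ := PG.exists_orderOf_eq_prime (hG.to_subgroup (zpowers a)) (by
    rintro e
    rw [e, index_bot, hc] at hi
    have := Nat.pow_right_injective le_rfl (hi.trans (pow_one 2).symm)
    omega)
  obtain ⟨r, hr, hI⟩ := card_noncentral_involutions hρ hs ho (mem_center_of_cyclic_normal hG hz ho)
  rw [Nat.card_zmod] at hI
  have hr0 : 1 ≤ r := by
    have := Module.finrank_pos (R := ZMod q) (M := V)
    omega
  have fin : ∀ m, 1 ≤ m → 2 ^ m = q ^ r + 1 → Nat.card V = q ^ 2 ∧ q = 2 ^ m - 1 := by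
    intro m hm e
    rcases prime_pow_eq_prime_pow_add_one Nat.prime_two hq.out hm hr0 e with
      ⟨-, rfl, -, h1⟩ | ⟨rfl, rfl, -, h1⟩ | ⟨h1, h2⟩
    · exact ⟨by rw [Module.natCard_eq_pow_finrank (K := ZMod q), hr, Nat.card_zmod], by omega⟩
    · have := Nat.one_lt_two_pow (n := r) (by omega)
      omega
    · have := dvd_pow_self 2 (show m ≠ 0 by omega)
      omega
  have hpow : ∀ i j : ℕ, a ^ i = a ^ j ↔ i ≡ j [MOD 2 ^ n] := fun i j => by
    rw [pow_eq_pow_iff_modEq, ha]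
  obtain ⟨n, rfl⟩ : ∃ m, n = m + 2 := ⟨n - 2, by omega⟩
  have hinv : x * a * x⁻¹ = a⁻¹ → (x * a ≠ a * x) ∧
      ∀ c ∈ zpowers a, c * x * (c * x) = x * x := fun h1 => by
    refine ⟨fun e => ?_, ?_⟩
    · rw [e, mul_inv_cancel_right, eq_inv_iff_mul_eq_one, ← pow_two, ← orderOf_dvd_iff_pow_eq_one,
        ha] at h1
      have := (Nat.pow_dvd_pow_iff_le_right one_lt_two).1 (h1.trans (pow_one 2).symm.dvd)
      omega
    · rintro _ ⟨i, rfl⟩
      have : x * a ^ i * x⁻¹ = (a ^ i)⁻¹ := by rw [← conj_zpow, h1, inv_zpow]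
      calc a ^ i * x * (a ^ i * x) = a ^ i * (x * a ^ i * x⁻¹) * (x * x) := by group
        _ = _ := by rw [this]; simp
  rcases hh with ⟨h1, h2⟩ | ⟨h3, h1, h2⟩ | ⟨h3, h1, h2⟩
  · exfalso
    obtain ⟨t, ht, ht2, -⟩ := exists_of_card_eq_two (hs v hv)
    have h3 : t ∉ zpowers a := fun e => ne_one_of_orderOf_two ht2
      ((hirr.inf_vStab_eq_bot hG hρ (zpowers a) hv).le ⟨e, ht⟩)
    have h4 := (hinv h1).2 (t * x⁻¹) ((mul_mem_iff_of_index_two hi).2
      (iff_of_false h3 (by rwa [inv_mem_iff])))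
    rw [inv_mul_cancel_right, mul_self_of_orderOf_two ht2, h2, eq_comm,
      ← orderOf_dvd_iff_pow_eq_one, ha, Nat.pow_dvd_pow_iff_le_right one_lt_two] at h4
    omega
  · rw [card_involutions_eq hG hi hx (hinv h2).1 le_rfl fun c hc =>
      iff_of_true (((hinv h2).2 c hc).trans h1) hc, Nat.card_zpowers, ha] at hI
    exact ⟨(fin _ (by omega) hI).1, _, (fin _ (by omega) hI).2,
      Or.inl (PG.nonempty_mulEquiv_dihedralGroup ha h1 h2 hx htop)⟩
  · have hx1 : x ≠ 1 := fun h1 => hx (h1 ▸ one_mem _)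
    have hQ : IsQuasiDihedral G :=
      ⟨_, h3, hc, a, x, ha, orderOf_eq_prime (by rw [pow_two, h1]) hx1, h2⟩
    rw [show n + 2 - 1 = n + 1 from rfl] at h2
    have h4 : 4 ≤ 2 ^ (n + 1) := Nat.pow_le_pow_right (n := 2) (i := 2) two_pos (by omega)
    rw [card_involutions_eq hG hi hx (K := zpowers (a ^ 2)) (fun e => ?_)
      (zpowers_le.2 (pow_mem (mem_zpowers a) 2)) fun c hc => ?_, Nat.card_zpowers,
      orderOf_pow_of_dvd two_ne_zero (ha ▸ dvd_pow_self 2 (by omega)), ha, pow_succ,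
      Nat.mul_div_cancel _ two_pos] at hI
    · exact ⟨(fin _ (by omega) hI).1, _, (fin _ (by omega) hI).2, Or.inr ⟨hQ, hc⟩⟩
    · rw [e, mul_inv_cancel_right] at h2
      have h5 := (hpow 1 _).1 ((pow_one a).trans h2)
      have := Nat.ModEq.eq_of_lt_of_lt h5 (Nat.one_lt_two_pow (by omega))
        (by rw [pow_succ 2 (n + 1)]; omega)
      omega
    · obtain ⟨i, rfl⟩ := (mem_powers_iff_mem_zpowers).2 hc
      have e : a ^ i * x * (a ^ i * x) = a ^ (2 ^ (n + 1) * i) := by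
        calc a ^ i * x * (a ^ i * x) = a ^ i * (x * a ^ i * x⁻¹) * (x * x) := by group
          _ = _ := by
            rw [h1, mul_one, ← conj_pow, h2, ← pow_mul, ← pow_add]
            congr 1
            obtain ⟨b, hb⟩ : ∃ b, 2 ^ (n + 1) = b + 1 := ⟨2 ^ (n + 1) - 1, by omega⟩
            rw [hb, Nat.add_sub_cancel]; ring
      simp only
      rw [e, ← orderOf_dvd_iff_pow_eq_one, ha, pow_succ 2 (n + 1),
        Nat.mul_dvd_mul_iff_left (by positivity), ← mem_powers_iff_mem_zpowers]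
      constructor
      · rintro ⟨j, rfl⟩
        exact ⟨j, (pow_mul a 2 j).symm⟩
      · rintro ⟨j, hj⟩
        simp only [← pow_mul] at hj
        exact (((hpow _ _).1 hj).dvd_iff (dvd_pow_self 2 (by omega))).1 (dvd_mul_right 2 j)

end Cfsg.Lib.Perm
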