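import Cfsg.Agent.Perm.HalfP1
import Cfsg.Agent.S0016

/-!
Half-transitive linear `p`-groups (Passman), part two: the imprimitive case.
-/

set_option autoImplicit false

namespace Cfsg.Lib.Perm

open Subgroup Cfsg.Lib.Solv

variable {k : Type} {V G : Type*} [Field k] [AddCommGroup V] [Module k V] [Group G]

theorem perm_apply_ne_of_orderOf {p : ℕ} (hp : p.Prime) {σ : Equiv.Perm (Fin p)}
    (h : orderOf σ = p) (i : Fin p) : σ i ≠ i := by
  have hc := Equiv.Perm.isCycle_of_prime_order'' (σ := σ) (by simpa using hp) (by simpa using h)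
  have h1 := hc.orderOf
  rw [h] at h1
  have : σ.support = Finset.univ := Finset.eq_univ_of_card _ (by simpa using h1.symm)
  exact Equiv.Perm.mem_support.1 (this ▸ Finset.mem_univ i)

theorem fix_add {ρ : G →* (V ≃ₗ[k] V)} {U W : Submodule k V} (hd : Disjoint U W) {g : G} {u w : V}
    (hu : u ∈ U) (hw : w ∈ W) (hgu : ρ g u ∈ U) (hgw : ρ g w ∈ W) (h : ρ g (u + w) = u + w) :
    ρ g u = u ∧ ρ g w = w := by
  rw [map_add] at h
  have h1 : ρ g u - u = w - ρ g w := by rw [sub_eq_sub_iff_add_eq_add, h, add_comm]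
  have h2 := Submodule.disjoint_def.1 hd _ (sub_mem hgu hu) (h1 ▸ sub_mem hw hgw)
  exact ⟨sub_eq_zero.1 h2, (sub_eq_zero.1 (h1 ▸ h2)).symm⟩

theorem swap_add {ρ : G →* (V ≃ₗ[k] V)} {U W : Submodule k V} (hd : Disjoint U W) {g : G} {u w : V}
    (hu : u ∈ U) (hw : w ∈ W) (hgu : ρ g u ∈ W) (hgw : ρ g w ∈ U) (h : ρ g (u + w) = u + w) :
    ρ g u = w ∧ ρ g w = u := by
  rw [map_add] at h
  have h1 : ρ g w - u = w - ρ g u := by rw [sub_eq_sub_iff_add_eq_add, add_comm, h, add_comm]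
  have h2 := Submodule.disjoint_def.1 hd _ (sub_mem hgw hu) (h1 ▸ sub_mem hw hgu)
  exact ⟨(sub_eq_zero.1 (h1 ▸ h2)).symm, sub_eq_zero.1 h2⟩

theorem add_ne_zero_of_disjoint {U W : Submodule k V} (hd : Disjoint U W) {u w : V}
    (hu : u ∈ U) (hw : w ∈ W) (h : u ≠ 0) : u + w ≠ 0 := fun e =>
  h (Submodule.disjoint_def.1 hd u hu (by rw [eq_neg_of_add_eq_zero_left e]; exact neg_mem hw))

namespace HalfTr

variable [Finite G] {ρ : G →* (V ≃ₗ[k] V)}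

theorem eq_two_of_imprimitive {p : ℕ} (hp : p.Prime) (h : HalfTr ρ) (hρ : Function.Injective ρ)
    {v : V} (hv : v ≠ 0) (h0 : vStab ρ v ≠ ⊥) {H : Subgroup G} {W : Fin p → Submodule k V}
    (hH : H.index = p) (htop : iSup W = ⊤) (hind : iSupIndep W)
    (hinv : ∀ h ∈ H, ∀ i, ∀ w ∈ W i, ρ h w ∈ W i)
    (hσ : ∀ g : G, g ∉ H → ∃ σ : Equiv.Perm (Fin p), orderOf σ = p ∧
      ∀ i, (W i).map (ρ g : V →ₗ[k] V) = W (σ i)) : p = 2 := by
  by_contra hp2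
  have key : ∀ i j, i ≠ j → ∀ u ∈ W i, ∀ w ∈ W j, u ≠ 0 → w ≠ 0 → vStab ρ u = vStab ρ w := by
    intro i j hij u hu w hw hu0 hw0
    have hd := hind.pairwiseDisjoint hij
    have h1 : ∀ g ∈ vStab ρ (u + w), ρ g u = u ∧ ρ g w = w := fun g hg => by
      refine fix_add hd hu hw (hinv g ?_ i u hu) (hinv g ?_ j w hw) hg <;> by_contra hgH <;>
      · obtain ⟨σ, hσ, hW⟩ := hσ g hgH
        have aux : ∀ i j, ∀ u ∈ W i, ∀ w ∈ W j, i ≠ j → u ≠ 0 → ρ g (u + w) = u + w → σ i = j := by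
          intro i j u hu w hw hij hu0 hg
          by_contra hne
          refine hu0 ((ρ g).map_eq_zero_iff.1 (Submodule.disjoint_def.1 (hind (σ i)) _
            (hW i ▸ ⟨u, hu, rfl⟩) ?_))
          rw [map_add] at hg
          rw [eq_sub_of_add_eq hg]
          refine sub_mem (add_mem ?_ ?_) ?_
          · exact Submodule.mem_iSup_of_mem i (Submodule.mem_iSup_of_mem
              (perm_apply_ne_of_orderOf hp hσ i).symm hu)
          · exact Submodule.mem_iSup_of_mem j (Submodule.mem_iSup_of_mem (Ne.symm hne) hw)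
          · exact Submodule.mem_iSup_of_mem (σ j) (Submodule.mem_iSup_of_mem
              (fun e => hij (σ.injective e).symm) (hW j ▸ ⟨w, hw, rfl⟩))
        have e1 := aux i j u hu w hw hij hu0 hg
        have e2 := aux j i w hw u hu hij.symm hw0 (by rw [add_comm]; exact hg)
        refine perm_apply_ne_of_orderOf hp (σ := σ ^ 2) ?_ i (by simp [pow_two, e1, e2])
        rw [Nat.Coprime.orderOf_pow (by
          rw [hσ]; exact (Nat.coprime_primes hp Nat.prime_two).2 hp2), hσ]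
    have h2 := add_ne_zero_of_disjoint hd hu hw hu0
    rw [← h.eq_of_le h2 hu0 fun g hg => (h1 g hg).1, h.eq_of_le h2 hw0 fun g hg => (h1 g hg).2]
  obtain ⟨i, hi⟩ : ∃ i, W i ≠ ⊥ := by
    by_contra! h
    exact hv ((Submodule.mem_bot k).1 (by rw [← iSup_eq_bot.2 h, htop]; trivial))
  obtain ⟨u, hu, hu0⟩ := (W i).exists_mem_ne_zero_of_ne_bot hi
  obtain ⟨g, hg⟩ : ∃ g, g ∉ H := by
    by_contra! h
    rw [(eq_top_iff' H).2 h, index_top] at hH
    exact hp.one_lt.ne hH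
  obtain ⟨σ, hσ, hW⟩ := hσ g hg
  have h1 := key (σ i) i (perm_apply_ne_of_orderOf hp hσ i) (ρ g u) (hW i ▸ ⟨u, hu, rfl⟩)
  have h2 : ρ g u ≠ 0 := by simpa
  refine h.ne_bot hv hu0 h0 (eq_bot_iff.2 fun x hx => eq_one_of_rho hρ fun w => ?_)
  have : iSup W ≤ fixSp ρ x := iSup_le fun j w hw => by
    by_cases hw0 : w = 0
    · simp [hw0]
    by_cases e : i = j
    · subst e
      rwa [← h1 u hu h2 hu0, h1 w hw h2 hw0] at hx
    · rwa [key i j e u hu w hw hu0 hw0] at hx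
  exact this (htop ▸ trivial)

section two

variable {H : Subgroup G} {U W : Submodule k V}

theorem eq_or_swap (h : HalfTr ρ) (hd : Disjoint U W) (hU : ∀ h ∈ H, ∀ u ∈ U, ρ h u ∈ U)
    (hW : ∀ h ∈ H, ∀ u ∈ W, ρ h u ∈ W) (hU' : ∀ h ∉ H, ∀ u ∈ U, ρ h u ∈ W)
    (hW' : ∀ h ∉ H, ∀ u ∈ W, ρ h u ∈ U) {u w : V} (hu : u ∈ U) (hw : w ∈ W) (hu0 : u ≠ 0)
    (hw0 : w ≠ 0) : vStab ρ u = vStab ρ w ∨ ∃ g ∉ H, ρ g u = w ∧ ρ g w = u := by
  by_cases hle : vStab ρ (u + w) ≤ H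
  · have h1 := fun g hg => fix_add hd hu hw (hU g (hle hg) u hu) (hW g (hle hg) w hw) hg
    have h2 := add_ne_zero_of_disjoint hd hu hw hu0
    left
    rw [← h.eq_of_le h2 hu0 fun g hg => (h1 g hg).1, h.eq_of_le h2 hw0 fun g hg => (h1 g hg).2]
  · obtain ⟨g, hg, hgH⟩ := SetLike.not_le_iff_exists.1 hle
    exact Or.inr ⟨g, hgH, swap_add hd hu hw (hU' g hgH u hu) (hW' g hgH w hw) hg⟩

theorem card_eq_of_swap [Finite V] (hG : IsPGroup 2 G) (h : HalfTr ρ) (hρ : Function.Injective ρ)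
    {v : V} (hv : v ≠ 0) (h0 : vStab ρ v ≠ ⊥) (hH : H.index = 2) (hc : IsCompl U W)
    (hU : ∀ h ∈ H, ∀ u ∈ U, ρ h u ∈ U) (hW : ∀ h ∈ H, ∀ u ∈ W, ρ h u ∈ W)
    (hU' : ∀ h ∉ H, ∀ u ∈ U, ρ h u ∈ W) (hW' : ∀ h ∉ H, ∀ u ∈ W, ρ h u ∈ U) {u₀ : V}
    (hu₀ : u₀ ∈ U) (hu0 : u₀ ≠ 0) : ∃ b, Nat.card U = 2 ^ b + 1 := by
  have hd := hc.disjoint
  have hsw := fun u w => h.eq_or_swap (u := u) (w := w) hd hU hW hU' hW'
  obtain ⟨w, hw, hw0, x, hx, u₁, hu₁, hxu⟩ :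
      ∃ w ∈ W, w ≠ 0 ∧ ∃ x ∈ vStab ρ w, ∃ u ∈ U, ρ x u ≠ u := by
    by_contra! hh
    obtain ⟨g, hg⟩ : ∃ g, g ∉ H := by
      by_contra! h
      rw [(eq_top_iff' H).2 h, index_top] at hH
      omega
    have h1 : ∀ w ∈ W, w ≠ 0 → vStab ρ w = vStab ρ u₀ := fun w hw hw0 =>
      h.eq_of_le hw0 hu0 fun x hx => hh w hw hw0 x hx u₀ hu₀
    refine h.ne_bot hv hu0 h0 (eq_bot_iff.2 fun x hx => eq_one_of_rho hρ fun w => ?_)
    have : U ⊔ W ≤ fixSp ρ x := sup_le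
      (fun u hu => hh _ (hU' g hg u₀ hu₀) (by simpa) x (h1 _ (hU' g hg u₀ hu₀) (by simpa) ▸ hx) u hu)
      fun w hw => by
        by_cases hw0 : w = 0
        · simp [hw0]
        · rwa [← h1 w hw hw0] at hx
    exact this (hc.sup_eq_top ▸ trivial)
  let O : V → Set V := fun u => {y | ∃ g : H, (ρ.comp H.subtype) g u = y}
  have hO : ∀ u ∈ U, u ≠ 0 → (O u).ncard * 2 = (vStab ρ v).index := fun u hu hu0 => by
    rw [← h u v hu0 hv, ← hH, ← relIndex_mul_index (show vStab ρ u ≤ H from fun g hg =>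
      by_contra fun hgH => hu0 (Submodule.disjoint_def.1 hd u hu (hg ▸ hU' g hgH u hu)))]
    congr 1
    exact card_orb (ρ.comp H.subtype) u
  have hne : ∀ u ∈ U, ρ x u ≠ u → ∃ g ∉ H, ρ g u = w ∧ ρ g w = u := fun u hu hxu =>
    (hsw u w hu hw (by rintro rfl; simp at hxu) hw0).resolve_left fun e => hxu (e.ge hx)
  obtain ⟨g₁, hg₁, e₁, -⟩ := hne u₁ hu₁ hxu
  have hu₁0 : u₁ ≠ 0 := by rintro rfl; simp at hxu
  have h1 : ∀ u ∈ U, ρ x u ≠ u → u ∈ O u₁ := fun u hu hxu => by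
    obtain ⟨g, hg, -, e⟩ := hne u hu hxu
    exact ⟨⟨g * g₁, (mul_mem_iff_of_index_two hH).2 (iff_of_false hg hg₁)⟩, by
      change ρ (g * g₁) u₁ = u
      rw [rho_mul, e₁, e]⟩
  have hOU : ∀ u ∈ U, u ≠ 0 → O u ⊆ (U : Set V) \ {0} := by
    rintro u hu hu0 _ ⟨g, rfl⟩
    exact ⟨hU g g.2 u hu, by simpa⟩
  have h2 : O u₁ = (U : Set V) \ {0} := by
    refine (hOU u₁ hu₁ hu₁0).antisymm fun u hu => by_contra fun hn => ?_
    have h3 : O u ⊆ ((U ⊓ fixSp ρ x : Submodule k V) : Set V) \ {0} := by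
      rintro _ ⟨g, rfl⟩
      have h4 := hOU u hu.1 hu.2 ⟨g, rfl⟩
      refine ⟨⟨h4.1, by_contra fun h5 => hn ?_⟩, h4.2⟩
      obtain ⟨g', e⟩ := h1 _ h4.1 h5
      exact ⟨g⁻¹ * g', by rw [rho_mul, e, rho_inv_apply]⟩
    have h4 : (fun y => y + u₁) '' ((U ⊓ fixSp ρ x : Submodule k V) : Set V) ⊆ O u₁ := by
      rintro _ ⟨y, hy, rfl⟩
      refine h1 _ (add_mem hy.1 hu₁) ?_
      rw [map_add, mem_fixSp.1 hy.2]
      simpa
    have h5 := Set.ncard_le_ncard h3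
    have h6 := Set.ncard_le_ncard h4
    rw [Set.ncard_image_of_injective _ (add_left_injective u₁)] at h6
    have h7 := Set.ncard_sdiff_singleton_add_one (U ⊓ fixSp ρ x).zero_mem
    have h8 := hO u hu.1 hu.2
    have h9 := hO u₁ hu₁ hu₁0
    omega
  have : Fact (Nat.Prime 2) := ⟨Nat.prime_two⟩
  obtain ⟨b, hb⟩ := (hG.to_subgroup H).index (vStab (ρ.comp H.subtype) u₁)
  refine ⟨b, ?_⟩
  rw [← hb, ← card_orb]
  change (U : Set V).ncard = (O u₁).ncard + 1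
  rw [h2]
  exact (Set.ncard_sdiff_singleton_add_one U.zero_mem).symm

theorem eq_T (h : HalfTr ρ) (hρ : Function.Injective ρ) {v : V} (hv : v ≠ 0)
    (h0 : vStab ρ v ≠ ⊥) (hH : H.index = 2) (hc : IsCompl U W)
    (hU : ∀ h ∈ H, ∀ u ∈ U, ρ h u ∈ U) (hW : ∀ h ∈ H, ∀ u ∈ W, ρ h u ∈ W)
    (hU' : ∀ h ∉ H, ∀ u ∈ U, ρ h u ∈ W) (hW' : ∀ h ∉ H, ∀ u ∈ W, ρ h u ∈ U) {u w : V}
    (hu0 : u ≠ 0) (hw0 : w ≠ 0) (eU : U = k ∙ u) (eW : W = k ∙ w) :
    ∃ e : V ≃ₗ[k] (Fin 2 → k), ∀ f : (Fin 2 → k) ≃ₗ[k] (Fin 2 → k),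
      (∃ g : G, f = e.symm.trans ((ρ g).trans e)) ↔ ∃ a s : k, a ≠ 0 ∧ (s = 1 ∨ s = -1) ∧
        ((∀ v, f v = ![a * v 0, s * a⁻¹ * v 1]) ∨ (∀ v, f v = ![s * a⁻¹ * v 1, a * v 0])) := by
  have hd := hc.disjoint
  have hu : u ∈ U := eU ▸ Submodule.mem_span_singleton_self u
  have hw : w ∈ W := eW ▸ Submodule.mem_span_singleton_self w
  have hone : ∀ g, ρ g u = u → ρ g w = w → g = 1 := fun g h1 h2 => eq_one_of_rho hρ fun y => by
    have : U ⊔ W ≤ fixSp ρ g := sup_le (eU ▸ (Submodule.span_singleton_le_iff_mem _ _).2 h1)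
      (eW ▸ (Submodule.span_singleton_le_iff_mem _ _).2 h2)
    exact this (hc.sup_eq_top ▸ trivial)
  have hT : ∀ c : k, c ≠ 0 → ∃ t, ρ t u = c • w ∧ ρ t w = c⁻¹ • u := fun c hc0 => by
    obtain ⟨t, -, h1, h2⟩ := (h.eq_or_swap hd hU hW hU' hW' hu (W.smul_mem c hw) hu0
      (smul_ne_zero hc0 hw0)).resolve_left fun e => h.ne_bot hv hu0 h0 (eq_bot_iff.2 fun g hg =>
        hone g hg (smul_right_injective V hc0 (by simpa using e.le hg)))
    exact ⟨t, h1, by rw [← h2, map_smul, smul_smul, inv_mul_cancel₀ hc0, one_smul]⟩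
  have huw := add_ne_zero_of_disjoint hd hu hw hu0
  have h2 : Nat.card (vStab ρ u) = 2 := by
    rw [h.card_eq hu0 huw]
    refine card_eq_two_of_inf_eq_bot hH (eq_bot_iff.2 fun g hg => ?_) (h.ne_bot hv huw h0)
    have := fix_add hd hu hw (hU g hg.1 u hu) (hW g hg.1 w hw) hg.2
    exact hone g this.1 this.2
  obtain ⟨κ, hκ, hκ2, hκu⟩ := exists_of_card_eq_two h2
  have hκw : ρ κ w = -w := by
    have hκH : κ ∈ H := by_contra fun hgH =>
      hu0 (Submodule.disjoint_def.1 hd u hu (hκ ▸ hU' κ hgH u hu))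
    obtain ⟨b, hb⟩ := Submodule.mem_span_singleton.1 (eW ▸ hW κ hκH w hw)
    have h3 : (b * b) • w = (1 : k) • w := by
      rw [mul_smul, hb, ← map_smul, hb, ← rho_mul, mul_self_of_orderOf_two hκ2, rho_one, one_smul]
    rcases mul_self_eq_one_iff.1 (smul_left_injective k hw0 h3) with rfl | rfl
    · exact (ne_one_of_orderOf_two hκ2 (hone κ hκ (by simpa using hb.symm))).elim
    · simpa using hb.symm
  have hS : ∀ g (c : k), ρ g u = u → ρ g w = c • w → c = 1 ∨ c = -1 := fun g c h1 h2 =>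
    (hκu g h1).imp (fun e => smul_left_injective k hw0 (by simp only [← h2, e, rho_one, one_smul]))
      fun e => smul_left_injective k hw0 (by simp only [← h2, e, hκw, neg_smul, one_smul])
  have hS' : ∀ s : k, s = 1 ∨ s = -1 → ∃ g, ρ g u = u ∧ ρ g w = s • w := by
    rintro _ (rfl | rfl)
    · exact ⟨1, by simp⟩
    · exact ⟨κ, hκ, by simpa⟩
  let ε : (Fin 2 → k) ≃ₗ[k] V := LinearEquiv.ofBijective (Fintype.linearCombination k ![u, w]) (by
    constructor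
    · rw [injective_iff_map_eq_zero]
      intro x hx
      simp only [Fintype.linearCombination_apply, Fin.sum_univ_two, Matrix.cons_val_zero,
        Matrix.cons_val_one] at hx
      have h3 : x 0 • u = 0 := by_contra fun h3 =>
        add_ne_zero_of_disjoint hd (U.smul_mem _ hu) (W.smul_mem _ hw) h3 hx
      rw [h3, zero_add] at hx
      ext i
      fin_cases i
      · exact (smul_eq_zero.1 h3).resolve_right hu0
      · exact (smul_eq_zero.1 hx).resolve_right hw0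
    · intro y
      obtain ⟨a, ha, b, hb, rfl⟩ := Submodule.mem_sup.1 (hc.sup_eq_top.ge (Submodule.mem_top (x := y)))
      obtain ⟨a, rfl⟩ := Submodule.mem_span_singleton.1 (eU ▸ ha)
      obtain ⟨b, rfl⟩ := Submodule.mem_span_singleton.1 (eW ▸ hb)
      exact ⟨![a, b], by simp [Fintype.linearCombination_apply]⟩)
  have hε : ∀ x, ε x = x 0 • u + x 1 • w := fun x => by
    change Fintype.linearCombination k ![u, w] x = _
    simp [Fintype.linearCombination_apply]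
  have hD : ∀ g (a b : k), ρ g u = a • u → ρ g w = b • w → ∀ x,
      ε.symm (ρ g (ε x)) = ![a * x 0, b * x 1] := fun g a b h1 h2 x => by
    rw [LinearEquiv.symm_apply_eq, hε, hε, map_add, map_smul, map_smul, h1, h2]
    simp [smul_smul, mul_comm]
  have hA : ∀ g (a b : k), ρ g u = a • w → ρ g w = b • u → ∀ x,
      ε.symm (ρ g (ε x)) = ![b * x 1, a * x 0] := fun g a b h1 h2 x => by
    rw [LinearEquiv.symm_apply_eq, hε, hε, map_add, map_smul, map_smul, h1, h2, add_comm]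
    simp [smul_smul, mul_comm]
  obtain ⟨t₁, ht₁, ht₁'⟩ := hT 1 one_ne_zero
  rw [one_smul] at ht₁
  rw [inv_one, one_smul] at ht₁'
  refine ⟨ε.symm, fun f => ⟨?_, ?_⟩⟩
  · rintro ⟨g, rfl⟩
    by_cases hg : g ∈ H
    · obtain ⟨a, ha⟩ := Submodule.mem_span_singleton.1 (eU ▸ hU g hg u hu)
      obtain ⟨b, hb⟩ := Submodule.mem_span_singleton.1 (eW ▸ hW g hg w hw)
      have ha0 : a ≠ 0 := by rintro rfl; exact hu0 (by simpa using ha.symm)
      obtain ⟨t, ht, ht'⟩ := hT a ha0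
      refine ⟨a, b * a, ha0, hS (t * t₁ * g) _ ?_ ?_, Or.inl fun x => ?_⟩
      · simp only [rho_mul, ← ha, map_smul, ht₁, ht', smul_smul, mul_inv_cancel₀ ha0, one_smul]
      · simp only [rho_mul, ← hb, map_smul, ht₁', ht, smul_smul]
      · rw [mul_inv_cancel_right₀ ha0]
        exact hD g a b ha.symm hb.symm x
    · obtain ⟨a, ha⟩ := Submodule.mem_span_singleton.1 (eW ▸ hU' g hg u hu)
      obtain ⟨b, hb⟩ := Submodule.mem_span_singleton.1 (eU ▸ hW' g hg w hw)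
      have ha0 : a ≠ 0 := by rintro rfl; exact hu0 (by simpa using ha.symm)
      obtain ⟨t, ht, ht'⟩ := hT a ha0
      refine ⟨a, b * a, ha0, hS (t * g) _ ?_ ?_, Or.inr fun x => ?_⟩
      · simp only [rho_mul, ← ha, map_smul, ht', smul_smul, mul_inv_cancel₀ ha0, one_smul]
      · simp only [rho_mul, ← hb, map_smul, ht, smul_smul]
      · rw [mul_inv_cancel_right₀ ha0]
        exact hA g a b ha.symm hb.symm x
  · rintro ⟨a, s, ha0, hs, hf | hf⟩ <;> obtain ⟨c, hc1, hc2⟩ := hS' s hs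
    · obtain ⟨t, ht, ht'⟩ := hT a⁻¹ (inv_ne_zero ha0)
      refine ⟨t * t₁ * c, LinearEquiv.ext fun x => (hf x).trans (hD _ _ _ ?_ ?_ x).symm⟩
      · simp only [rho_mul, hc1, ht₁, ht', inv_inv]
      · simp only [rho_mul, hc2, map_smul, ht₁', ht, smul_smul]
    · obtain ⟨t, ht, ht'⟩ := hT a ha0
      refine ⟨t * c, LinearEquiv.ext fun x => (hf x).trans (hA _ _ _ ?_ ?_ x).symm⟩
      · simp only [rho_mul, hc1, ht]
      · simp only [rho_mul, hc2, map_smul, ht', smul_smul]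

end two

end HalfTr

theorem isCyclic_or_quaternion_of_semiregular [FiniteDimensional k V] [Nontrivial V] [Finite G]
    {p : ℕ} [hp : Fact p.Prime] (hG : IsPGroup p G) {ρ : G →* (V ≃ₗ[k] V)}
    (h : ∀ v : V, v ≠ 0 → ∀ g : G, ρ g v = v → g = 1) :
    IsCyclic G ∨ ∃ n : ℕ, Nonempty (G ≃* QuaternionGroup n) := by
  have hc : ∀ A : Subgroup G, IsMulCommutative A → IsCyclic A := fun A _ =>
    isCyclic_of_semiregular (ρ := ρ) fun a _ v hv e => h v hv a e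
  by_cases hp2 : p = 2
  swap
  · exact Or.inl (PG.isCyclic_of_forall_normal_abelian_isCyclic hG hp2 fun A _ => hc A)
  subst hp2
  have hF : IsFC G := (IsFC.of_fpf (ρ := subRep ρ ⊤) (FPF.of_apply fun g v hv e =>
    Subtype.ext (h v hv g e))).of_injective (topEquiv (G := G)).symm.toMonoidHom
      (topEquiv (G := G)).symm.injective
  refine (Cfsg.Agent.S0016.result 2 hG fun H K hH hK => ?_).imp_right fun ⟨_, n, e⟩ => ⟨_, e⟩
  obtain ⟨s, hs, hs2, hsu⟩ := exists_of_card_eq_two hH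
  obtain ⟨t, ht, ht2, htu⟩ := exists_of_card_eq_two hK
  obtain rfl := hF.eq_of_sq (ne_one_of_orderOf_two hs2) (hs2 ▸ pow_orderOf_eq_one s)
    (ne_one_of_orderOf_two ht2) (ht2 ▸ pow_orderOf_eq_one t)
  exact le_antisymm (fun g hg => (hsu g hg).elim (· ▸ one_mem _) (· ▸ ht))
    fun g hg => (htu g hg).elim (· ▸ one_mem _) (· ▸ hs)

theorem HalfTr.pgroup {q : ℕ} [hq : Fact q.Prime] [Module (ZMod q) V] [Finite V] [Nontrivial V]
    [Finite G] {p : ℕ} [hp : Fact p.Prime] (hG : IsPGroup p G) {ρ : G →* (V ≃ₗ[ZMod q] V)}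
    (hρ : Function.Injective ρ) (h : HalfTr ρ) :
    ((IsCyclic G ∨ ∃ n : ℕ, Nonempty (G ≃* QuaternionGroup n)) ∧
      ∀ v : V, v ≠ 0 → ∀ g : G, ρ g v = v → g = 1) ∨
    (Nat.card V = q ^ 2 ∧ ∃ m : ℕ, q = 2 ^ m - 1 ∧ (Nonempty (G ≃* DihedralGroup (2 ^ m)) ∨
      (IsQuasiDihedral G ∧ Nat.card G = 2 ^ (m + 2)))) ∨
    (Nat.card V = q ^ 2 ∧ (∃ m : ℕ, q = 2 ^ m + 1) ∧
      ∃ e : V ≃ₗ[ZMod q] (Fin 2 → ZMod q), ∀ f : (Fin 2 → ZMod q) ≃ₗ[ZMod q] (Fin 2 → ZMod q),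
        (∃ g : G, f = e.symm.trans ((ρ g).trans e)) ↔
        ∃ a s : ZMod q, a ≠ 0 ∧ (s = 1 ∨ s = -1) ∧
          ((∀ v, f v = ![a * v 0, s * a⁻¹ * v 1]) ∨ (∀ v, f v = ![s * a⁻¹ * v 1, a * v 0]))) ∨
    (Nat.card V = 81 ∧ q = 3 ∧ p = 2) := by
  by_cases hs : ∀ v : V, v ≠ 0 → ∀ g : G, ρ g v = v → g = 1
  · exact Or.inl ⟨isCyclic_or_quaternion_of_semiregular hG hs, hs⟩
  right
  push Not at hs
  obtain ⟨v, hv, g, hg, hg1⟩ := hs
  have h0 : vStab ρ v ≠ ⊥ := fun e => hg1 (e.le hg)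
  by_cases hn : ∀ A : Subgroup G, A.Normal → IsMulCommutative A → IsCyclic A
  · exact Or.inl (h.primitive hG hρ hv h0 hn)
  right
  push Not at hn
  obtain ⟨A, _, hA, hnc⟩ := hn
  obtain ⟨H, W, hH, htop, hind, hinv, -, hσ⟩ := (h.irred hρ hv h0).imprimitive hG hρ A hA hnc
  obtain rfl := h.eq_two_of_imprimitive hp.out hρ hv h0 hH htop hind hinv hσ
  have hc : IsCompl (W 0) (W 1) := ⟨hind.pairwiseDisjoint zero_ne_one, by
    rw [codisjoint_iff, eq_top_iff, ← htop]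
    exact iSup_le (Fin.forall_fin_two.2 ⟨le_sup_left, le_sup_right⟩)⟩
  have hm : ∀ g ∉ H, (W 0).map (ρ g : V →ₗ[ZMod q] V) = W 1 ∧
      (W 1).map (ρ g : V →ₗ[ZMod q] V) = W 0 := fun g hg => by
    obtain ⟨σ, hσ, hW⟩ := hσ g hg
    have := perm_apply_ne_of_orderOf hp.out hσ
    rw [hW, hW, Fin.eq_one_of_ne_zero _ (this 0), show σ 1 = 0 by have := this 1; omega]
    exact ⟨rfl, rfl⟩
  have hU' : ∀ g ∉ H, ∀ u ∈ W 0, ρ g u ∈ W 1 := fun g hg u hu => (hm g hg).1 ▸ ⟨u, hu, rfl⟩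
  have hW' : ∀ g ∉ H, ∀ u ∈ W 1, ρ g u ∈ W 0 := fun g hg u hu => (hm g hg).2 ▸ ⟨u, hu, rfl⟩
  obtain ⟨g, hg⟩ : ∃ g, g ∉ H := by
    by_contra! h
    rw [(eq_top_iff' H).2 h, index_top] at hH
    omega
  have hd : Module.finrank (ZMod q) (W 1) = Module.finrank (ZMod q) (W 0) := by
    rw [← (hm g hg).1, LinearEquiv.finrank_map_eq]
  have hV := Submodule.finrank_add_eq_of_isCompl hc
  have hpos := Module.finrank_pos (R := ZMod q) (M := V)
  obtain ⟨u, hu, hu0⟩ := (W 0).exists_mem_ne_zero_of_ne_bot fun e => by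
    rw [hd, e, finrank_bot] at hV; omega
  obtain ⟨b, hb⟩ := h.card_eq_of_swap hG hρ hv h0 hH hc (fun g hg => hinv g hg 0)
    (fun g hg => hinv g hg 1) hU' hW' hu hu0
  rw [Module.natCard_eq_pow_finrank (K := ZMod q), Nat.card_zmod] at hb
  have hcV : Nat.card V = (q ^ Module.finrank (ZMod q) (W 0)) ^ 2 := by
    rw [Module.natCard_eq_pow_finrank (K := ZMod q), Nat.card_zmod, ← hV, hd, ← pow_mul, mul_two]
  have : Module.finrank (ZMod q) (W 0) = 1 ∨ q ^ Module.finrank (ZMod q) (W 0) = 3 ^ 2 := by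
    rcases b.eq_zero_or_pos with rfl | hb0
    · exact Or.inl ((Nat.Prime.pow_eq_iff Nat.prime_two).1 hb).2
    rcases prime_pow_eq_prime_pow_add_one hq.out Nat.prime_two (by omega) hb0 hb with
      ⟨rfl, rfl, -, h1⟩ | ⟨-, h1, -⟩ | ⟨h1, -⟩
    · have := dvd_pow_self 2 (show Module.finrank (ZMod 2) (W 0) ≠ 0 by omega)
      omega
    · exact Or.inl h1
    · exact Or.inr h1
  rcases this with h1 | h1
  · rw [h1, pow_one] at hcV hb
    have hw0 : ρ g u ≠ 0 := by simpa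
    exact Or.inl ⟨hcV, ⟨b, hb⟩, h.eq_T hρ hv h0 hH hc (fun g hg => hinv g hg 0)
      (fun g hg => hinv g hg 1) hU' hW' hu0 hw0
      (eq_span_singleton_of_mem_of_finrank_eq_one h1 hu hu0)
      (eq_span_singleton_of_mem_of_finrank_eq_one (hd.trans h1) (hU' g hg u hu) hw0)⟩
  · refine Or.inr ⟨by rw [hcV, h1]; rfl, ?_, rfl⟩
    exact (Nat.prime_dvd_prime_iff_eq hq.out Nat.prime_three).1
      (hq.out.dvd_of_dvd_pow (h1 ▸ dvd_pow_self q (by omega)))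

end Cfsg.Lib.Perm
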