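import Cfsg.Agent.Perm.HalfInv
import Cfsg.Agent.Perm.FCBasic
import Cfsg.Agent.Solv.CyclicIndexP
import Cfsg.Agent.Solv.Quaternion
import Cfsg.Prelude.Def_CaseTheorems

/-!
Roquette's theorem: an irreducible `p`-group with a non-cyclic abelian normal subgroup is
imprimitive.
-/

set_option autoImplicit false

namespace Cfsg.Lib.Perm

open Subgroup Cfsg.Lib.Solv

variable {k : Type} {V G : Type*} [Field k] [AddCommGroup V] [Module k V] [Group G]

/-- The representation of a subgroup on endomorphisms. -/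
def subRep (ρ : G →* (V ≃ₗ[k] V)) (A : Subgroup G) : A →* Module.End k V :=
  LinearEquiv.automorphismGroup.toLinearMapMonoidHom.comp (ρ.comp A.subtype)

theorem subRep_apply (ρ : G →* (V ≃ₗ[k] V)) (A : Subgroup G) (a : A) (v : V) :
    subRep ρ A a v = ρ a v := rfl

theorem map_fixSp (ρ : G →* (V ≃ₗ[k] V)) (g x : G) :
    (fixSp ρ x).map (ρ g : V →ₗ[k] V) = fixSp ρ (g * x * g⁻¹) := by
  ext v
  constructor
  · rintro ⟨w, hw, rfl⟩
    rw [mem_fixSp, LinearEquiv.coe_coe, rho_mul, rho_mul, rho_inv_apply, mem_fixSp.1 hw]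
  · intro hv
    refine ⟨ρ g⁻¹ v, ?_, rho_apply_inv ρ g v⟩
    rw [SetLike.mem_coe, mem_fixSp]
    conv_rhs => rw [← mem_fixSp.1 hv, rho_mul, rho_mul, rho_inv_apply]

/-- Irreducibility. -/
def Irred (ρ : G →* (V ≃ₗ[k] V)) : Prop :=
  ∀ W : Submodule k V, (∀ g : G, ∀ w ∈ W, ρ g w ∈ W) → W = ⊥ ∨ W = ⊤

theorem Irred.eq_zero_of_central {ρ : G →* (V ≃ₗ[k] V)} (hirr : Irred ρ)
    (hρ : Function.Injective ρ) {c : G} (hc : c ∈ center G) (h1 : c ≠ 1) {v : V}
    (hv : ρ c v = v) : v = 0 := by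
  rcases hirr (fixSp ρ c) (fun g w hw => by
    rw [mem_fixSp, ← rho_mul, ← mem_center_iff.1 hc g, rho_mul, mem_fixSp.1 hw]) with h | h
  · exact (Submodule.mem_bot k).1 (h ▸ hv)
  · exact (h1 (eq_one_of_rho hρ fun w => mem_fixSp.1 (h ▸ Submodule.mem_top))).elim

theorem isCyclic_of_semiregular [FiniteDimensional k V] [Nontrivial V] [Finite G]
    {ρ : G →* (V ≃ₗ[k] V)} {A : Subgroup G} [IsMulCommutative A]
    (h : ∀ a ∈ A, ∀ v, v ≠ 0 → ρ a v = v → a = 1) : IsCyclic A :=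
  (IsFC.of_fpf (ρ := subRep ρ A) (FPF.of_apply fun g v hv e =>
    Subtype.ext (h g g.2 v hv e))).isCyclic_of_comm mul_comm'

theorem Irred.imprimitive [FiniteDimensional k V] [Nontrivial V] [Finite G] {p : ℕ}
    [hp : Fact p.Prime] (hG : IsPGroup p G) {ρ : G →* (V ≃ₗ[k] V)} (hirr : Irred ρ)
    (hρ : Function.Injective ρ) (A : Subgroup G) [A.Normal] (hA : IsMulCommutative A)
    (hnc : ¬ IsCyclic A) :
    ∃ (H : Subgroup G) (W : Fin p → Submodule k V), H.index = p ∧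
      iSup W = ⊤ ∧ iSupIndep W ∧ (∀ h ∈ H, ∀ i, ∀ w ∈ W i, ρ h w ∈ W i) ∧
      (∀ i, ∃ h ∈ H, h ≠ 1 ∧ ∀ w ∈ W i, ρ h w = w) ∧
      ∀ g : G, g ∉ H → ∃ σ : Equiv.Perm (Fin p), orderOf σ = p ∧
        ∀ i, (W i).map (ρ g : V →ₗ[k] V) = W (σ i) := by
  obtain ⟨E, -, hEn, hEc, hEp, hE⟩ := PG.exists_normal_elementary_sq hG A hnc (Or.inr hA)
  obtain ⟨a, ha, v, hv, hav, ha1⟩ : ∃ a ∈ E, ∃ v, v ≠ 0 ∧ ρ a v = v ∧ a ≠ 1 := by
    by_contra! h
    have := isCyclic_of_semiregular h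
    obtain ⟨g, hg⟩ := IsCyclic.exists_ofOrder_eq_natCard (α := E)
    have h1 := orderOf_dvd_of_pow_eq_one (show g ^ p = 1 from Subtype.ext (hEp g g.2))
    rw [hg, hE] at h1
    have := Nat.le_of_dvd hp.out.pos h1
    nlinarith [hp.out.two_le]
  have hac : a ∉ center G := fun h => hv (hirr.eq_zero_of_central hρ h ha1 hav)
  obtain ⟨D, hDn, hDE, hD⟩ := PG.exists_normal_card_eq hG E 1
    (by rw [hE]; exact Nat.pow_le_pow_right hp.out.pos one_le_two)
  rw [pow_one] at hD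
  have hDc := PG.le_center_of_card_eq_prime hG D hD
  have hcomm := (PG.commutator_le_of_card_eq_prime_mul (P := ⊤) (PG.isPGroup_top hG)
    (hG.to_subgroup E) le_normalizer_of_normal le_normalizer_of_normal hDE
    (by rw [hE, hD, pow_two])).1
  have hc : ∀ (d : D) (g : G), g * d = d * g := fun d g => mem_center_iff.1 (hDc d.2) g
  let φ : G →* D :=
    { toFun := fun g => ⟨g * a * g⁻¹ * a⁻¹, by
        rw [commutator_comm] at hcomm
        exact hcomm (commutator_mem_commutator (mem_top g) ha)⟩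
      map_one' := Subtype.ext (by simp)
      map_mul' := fun g h => Subtype.ext (by
        rw [commutator_comm] at hcomm
        have := hc ⟨_, hcomm (commutator_mem_commutator (mem_top h) ha)⟩
        simp only [commutatorElement_def] at this
        simp only [coe_mul]
        rw [this]
        calc g * h * a * (g * h)⁻¹ * a⁻¹ = g * (h * a * h⁻¹ * a⁻¹) * (a * g⁻¹ * a⁻¹) := by group
          _ = _ := by rw [this]; group) }
  have hφ : ∀ (g : G) (d : D), g * (d * a) * g⁻¹ = (φ g * d : D) * a := fun g d => by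
    change _ = g * a * g⁻¹ * a⁻¹ * d * a
    rw [← mul_assoc, hc d g, hc d]; group
  have hker : ∀ g, g ∈ φ.ker ↔ g * a = a * g := fun g => by
    rw [MonoidHom.mem_ker, Subtype.ext_iff]
    change g * a * g⁻¹ * a⁻¹ = 1 ↔ _
    rw [mul_inv_eq_one, mul_inv_eq_iff_eq_mul]
  have : Fact (Nat.card D).Prime := ⟨hD ▸ hp.out⟩
  have hfix : ∀ d : D, d ≠ 1 → ∀ w, ρ d w = w → w = 0 := fun d hd w hw =>
    hirr.eq_zero_of_central hρ (hDc d.2) (fun e => hd (Subtype.ext e)) hw
  have hF : FPF (subRep ρ D) := FPF.of_apply fun d w hw e => by_contra fun hd => hw (hfix d hd w e)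
  have hpk : (p : k) ≠ 0 := hF.natCast_ne_zero hp.out hD.symm.dvd
  have hDp : ∀ d : D, d ^ p = 1 := fun d => hD ▸ pow_card_eq_one'
  let e : Fin p ≃ D := (Finite.equivFinOfCardEq hD).symm
  refine ⟨φ.ker, fun i => fixSp ρ (e i * a), ?_, ?_, ?_, ?_, ?_, ?_⟩
  · rw [index_ker, (φ.range.eq_bot_or_eq_top_of_prime_card).resolve_left, card_top, hD]
    rw [MonoidHom.range_eq_bot_iff]
    exact fun h => hac (mem_center_iff.2 fun g => (hker g).1 (by rw [MonoidHom.mem_ker, h]; rfl))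
  · refine (hirr _ fun g w hw => ?_).resolve_left fun h => hv ?_
    · have : (⨆ i, fixSp ρ (e i * a)).map (ρ g : V →ₗ[k] V) ≤ ⨆ i, fixSp ρ (e i * a) := by
        rw [Submodule.map_iSup]
        refine iSup_le fun i => ?_
        rw [map_fixSp, hφ, ← e.apply_symm_apply (φ g * e i)]
        exact le_iSup (fun i => fixSp ρ (e i * a)) _
      exact this ⟨w, hw, rfl⟩
    · rw [← Submodule.mem_bot k, ← h]
      exact Submodule.mem_iSup_of_mem (e.symm 1) (by simpa using hav)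
  · intro i
    rw [Submodule.disjoint_def]
    intro w hw hw'
    let N : Module.End k V := ∑ n ∈ Finset.range p, (ρ ((e i * a) ^ n) : V →ₗ[k] V)
    have h1 : N w = (p : k) • w := by
      have : ∀ n, ρ ((e i * a) ^ n) w = w := fun n =>
        (pow_mem (show (e i : G) * a ∈ vStab ρ w from hw) n :)
      simp only [N, LinearMap.coe_sum, Finset.sum_apply, LinearEquiv.coe_coe, this,
        Finset.sum_const, Finset.card_range, Nat.cast_smul_eq_nsmul]
    have h2 : (⨆ j, ⨆ (_ : j ≠ i), fixSp ρ (e j * a)) ≤ LinearMap.ker N := by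
      refine iSup₂_le fun j hj u hu => ?_
      have h3 := LinearMap.congr_fun (hF.geom_sum (g := e i * (e j)⁻¹) (n := p)
        (fun h => hj (e.injective (mul_inv_eq_one.1 h).symm)) (hDp _)) u
      rw [LinearMap.zero_apply] at h3
      rw [LinearMap.mem_ker, ← h3]
      simp only [N, LinearMap.coe_sum, Finset.sum_apply, LinearEquiv.coe_coe]
      refine Finset.sum_congr rfl fun n _ => ?_
      rw [← map_pow, subRep_apply, show (e i : G) * a = (e i * (e j)⁻¹ : D) * (e j * a) by simp,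
        Commute.mul_pow (hc _ _).symm, rho_mul,
        (pow_mem (show (e j : G) * a ∈ vStab ρ u from hu) n :)]
      rfl
    have := h2 hw'
    rw [LinearMap.mem_ker, h1, smul_eq_zero] at this
    exact this.resolve_left hpk
  · intro h hh i w hw
    have : ρ h w ∈ (fixSp ρ (e i * a)).map (ρ h : V →ₗ[k] V) := ⟨w, hw, rfl⟩
    rwa [map_fixSp, hφ, MonoidHom.mem_ker.1 hh, one_mul] at this
  · refine fun i => ⟨e i * a, (hker _).2 (by rw [← mul_assoc, hc]), fun h => hac ?_,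
      fun w hw => hw⟩
    rw [eq_inv_of_mul_eq_one_right h]
    exact inv_mem (hDc (e i).2)
  · intro g hg
    refine ⟨e.symm.permCongrHom (MulAction.toPermHom D D (φ g)), ?_, fun i => ?_⟩
    · rw [MulEquiv.orderOf_eq, orderOf_injective _ MulAction.toPerm_injective]
      exact orderOf_eq_prime (hDp _) hg
    · rw [map_fixSp, hφ]
      simp [Equiv.permCongrHom]

theorem forall_normal_abelian_isCyclic [Finite G] {p : ℕ} [Fact p.Prime] (hG : IsPGroup p G)
    (hn : ∀ A : Subgroup G, A.Normal → IsMulCommutative A → IsCyclic A) :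
    IsCyclic G ∨ (∃ n : ℕ, Nonempty (G ≃* QuaternionGroup n)) ∨
      (∃ n : ℕ, Nonempty (G ≃* DihedralGroup n)) ∨ IsQuasiDihedral G := by
  by_cases hp2 : p = 2
  swap
  · exact Or.inl (PG.isCyclic_of_forall_normal_abelian_isCyclic hG hp2 hn)
  subst hp2
  rcases PG.two_group_of_forall_normal_abelian_isCyclic hG hn with
    h | ⟨a, x, n, hn, ha, hx, htop, hc, h⟩
  · exact Or.inl h
  right
  rcases h with ⟨h1, h2⟩ | ⟨h3, h1, h2⟩ | ⟨h3, h1, h2⟩
  · refine Or.inl ⟨2 ^ (n - 1), PG.nonempty_mulEquiv_quaternionGroup ?_ h2 h1 hx htop⟩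
    rw [ha, ← pow_succ', Nat.sub_add_cancel (by omega)]
  · exact Or.inr (Or.inl ⟨2 ^ n, PG.nonempty_mulEquiv_dihedralGroup ha h1 h2 hx htop⟩)
  · have hx1 : x ≠ 1 := fun h1 => hx (h1 ▸ one_mem _)
    exact Or.inr (Or.inr ⟨n, h3, hc, a, x, ha, orderOf_eq_prime (by rw [pow_two, h1]) hx1, h2⟩)

end Cfsg.Lib.Perm
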