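import Cfsg.Agent.Perm.DegSec2
import Cfsg.Agent.Spor.MoFast

/-!
# Elements in the kernel of a character of small degree
-/

set_option autoImplicit false

open Cfsg Subgroup Cfsg.Lib.Char Cfsg.Lib.PrimeOne Cfsg.Lib.Spor.Mo Cfsg.Lib.Block.Princ

namespace Cfsg.Lib.Perm.KerLem

variable {G : Type*} [Group G] [Finite G]

/-- The nontrivial constituents of the restriction to `H` have multiplicities divisible by `q`. -/
def Dv (χ : IrrCharacter G) (H : Subgroup G) [Fintype H] (q : ℕ) : Prop :=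
  ∀ lam, IsIrrCharacter H lam → lam ≠ (fun _ => 1) → ∀ n : ℕ,
    classInner (fun y : H => (χ : G → ℂ) y) lam = n → q ∣ n

omit [Finite G] in
theorem Dv.mul {χ : IrrCharacter G} {H : Subgroup G} [Fintype H] {q r : ℕ} (h : Dv χ H q)
    (k : Dv χ H r) (hqr : q.Coprime r) : Dv χ H (q * r) := fun lam h1 h2 n hn =>
  hqr.mul_dvd_of_dvd_of_dvd (h lam h1 h2 n hn) (k lam h1 h2 n hn)

theorem Dv.false [IsSimpleGroup G] (hG : ¬ IsMulCommutative G) {χ : IrrCharacter G}
    (hχ : χ ≠ triv G) {z : G} (hz : z ≠ 1) [Fintype (zpowers z)] {q : ℕ}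
    (hq : q.Coprime (orderOf z)) (hd : deg χ < 2 * q) (h : Dv χ (zpowers z) q) : False := by
  have hq0 : (q : ℂ) ≠ 0 := Nat.cast_ne_zero.2 (by omega)
  have hr := χ.2.isCharacter.res (zpowers z)
  obtain ⟨m, hm⟩ := hr.exists_nat_classInner isCharacter_one
  set ψ : zpowers z → ℂ := (q : ℂ)⁻¹ • ((fun y : zpowers z => (χ : G → ℂ) y) -
    (m : ℂ) • fun _ => 1) with hψ
  have h1 : ∀ y : zpowers z, (χ : G → ℂ) y = q * ψ y + m := fun y => by
    simp only [hψ, Pi.smul_apply, Pi.sub_apply, smul_eq_mul]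
    field_simp
    ring
  have h2 : IsCharacter (zpowers z) ψ := isCharacter_iff_classInner.2
    ⟨fun g x => by simp [hψ, χ.2.isClassFunction.apply_conj], fun lam hl => by
      rw [hψ, classInner_smul_left, classInner_sub_left, classInner_smul_left]
      by_cases h3 : lam = fun _ => 1
      · exact ⟨0, by rw [h3, hm, classInner_one_one]; simp⟩
      · obtain ⟨n, hn⟩ := hr.exists_nat_classInner hl.isCharacter
        obtain ⟨k, rfl⟩ := h lam hl h3 n hn
        refine ⟨k, ?_⟩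
        rw [hn, isIrrCharacter_one.classInner_of_ne hl (Ne.symm h3)]
        push_cast
        field_simp
        ring⟩
  refine hz (mem_bot.1 (charKer_eq_bot hG hχ ▸ χ.2.isCharacter.mem_charKer_iff.2 ?_))
  obtain ⟨k, hk⟩ := h2.exists_nat_degree
  have h3 := h1 1
  rw [hk, OneMemClass.coe_one] at h3
  have h4 : deg χ = q * k + m := by rw [← deg_cast] at h3; exact_mod_cast h3
  rw [h3, show (χ : G → ℂ) z = _ from h1 ⟨z, mem_zpowers z⟩]
  obtain rfl | rfl : k = 0 ∨ k = 1 := by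
    have : k < 2 := by nlinarith
    omega
  · rw [h2.eq_zero_of_apply_one (by simpa using hk)]
    simp
  rw [Nat.cast_one] at hk ⊢
  have h5 : (fun y : zpowers z => (χ : G → ℂ) y) = (q : ℂ) • ψ + (m : ℂ) • fun _ => 1 := by
    ext y; simp [h1 y]
  have h6 := congrFun (detChar_res χ.2.isCharacter (zpowers z)) ⟨z, mem_zpowers z⟩
  rw [h5, detChar_add (h2.natCast_smul q) (isCharacter_one.natCast_smul m),
    detChar_natCast_smul h2, detChar_natCast_smul isCharacter_one, detChar_one,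
    detChar_of_apply_one h2 hk, detChar_eq_one (commutator_eq_top hG)] at h6
  simp only [Pi.mul_apply, Pi.pow_apply, one_pow, mul_one] at h6
  obtain ⟨lam, h7⟩ := h2.exists_monoidHom_of_apply_one hk
  rw [h7] at h6 ⊢
  have h8 : (lam ⟨z, mem_zpowers z⟩ : ℂ) ^ orderOf z = 1 := by
    rw [← Nat.card_zpowers, ← Units.val_pow_eq_pow_val, ← map_pow, pow_card_eq_one', map_one,
      Units.val_one]
  have h9 := pow_gcd_eq_one.2 ⟨h6, h8⟩
  rw [hq, pow_one] at h9
  simp only [h9]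

variable {p : ℕ} [hp : Fact p.Prime]

theorem dv_of_val (h2 : ¬ p ^ 2 ∣ Nat.card G) {z : G} [Fintype (zpowers z)]
    (hC : p ∣ Nat.card (centralizer ({z} : Set G))) (hz : ¬ p ∣ orderOf z) {Θ : G → ℂ}
    (hΘ : IsCharacter G Θ) {s : ℂ} (hv : ∀ g, p ∣ orderOf g → Θ g = s) {χ : IrrCharacter G}
    {t : ℕ} (ht : ¬ p ∣ t) (h : ∀ g, ¬ p ∣ orderOf g → Θ g = t * (χ : G → ℂ) g) :
    Dv χ (zpowers z) p := fun lam h3 h4 n hn => by
  obtain ⟨⟨y, hy⟩, hy1⟩ := exists_prime_orderOf_dvd_card' p hC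
  rw [orderOf_mk] at hy1
  obtain ⟨P, hP⟩ := (IsPGroup.of_card (G := zpowers y) (p := p) (n := 1)
    (by rw [Nat.card_zpowers, hy1, pow_one])).exists_le_sylow
  have h5 := Block.PS.card_sylow_eq (hC.trans (card_subgroup_dvd_card _)) h2 P
  have h6 : ¬ p ∣ Nat.card (zpowers z) := by rwa [Nat.card_zpowers]
  obtain ⟨k, hk⟩ := (isCharacter_res_div h5 hΘ hv (H := zpowers z) (by
    rw [← centralizer_singleton_eq h5 (hP (mem_zpowers y)) (fun e => by
      simp [e, hp.out.one_lt.ne] at hy1), zpowers_le, mem_centralizer_singleton_iff]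
    exact (mem_centralizer_singleton_iff.1 hy).symm) h6).exists_nat_classInner h3.isCharacter
  have hp0 : (p : ℂ) ≠ 0 := Nat.cast_ne_zero.2 hp.out.ne_zero
  rw [show (fun y : zpowers z => (Θ y + (p - 1) * s) / p) = ((t : ℂ) / p) •
      (fun y : zpowers z => (χ : G → ℂ) y) + ((p - 1) * s / p) • fun _ => 1 from
      funext fun y => by
        simp [h y fun e => h6 (e.trans (orderOf_dvd_natCard _ y.2))]
        ring,
    classInner_add_left, classInner_smul_left, classInner_smul_left, hn,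
    isIrrCharacter_one.classInner_of_ne h3 (Ne.symm h4)] at hk
  have h7 : t * n = p * k := by
    field_simp at hk
    exact_mod_cast (by linear_combination hk : (t : ℂ) * n = p * k)
  exact (hp.out.dvd_mul.1 ⟨k, h7⟩).resolve_left ht

theorem dv_of_dvd (h2 : ¬ p ^ 2 ∣ Nat.card G) {z : G} [Fintype (zpowers z)]
    (hC : p ∣ Nat.card (centralizer ({z} : Set G))) (hz : ¬ p ∣ orderOf z) {χ : IrrCharacter G}
    (h : p ∣ deg χ) : Dv χ (zpowers z) p :=
  dv_of_val h2 hC hz χ.2.isCharacter (fun _ => apply_eq_zero_of_dvd_degree hp.out h2 χ h) (t := 1)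
    (by simpa using hp.out.ne_one) (by simp)

variable {M e c t : ℕ} {L : List (IrrCharacter G)} {Y : Finset (IrrCharacter G)}
  {θ : IrrCharacter G} {δ : IrrCharacter G → ℤ} {ε : ℤ} (h : Blk p M e c t L Y θ δ ε)
include h

theorem dv_of_blk {z : G} [Fintype (zpowers z)] (hC : p ∣ Nat.card (centralizer ({z} : Set G)))
    (hz : ¬ p ∣ orderOf z) {χ : IrrCharacter G} (hχ : χ ∈ θ :: L) : Dv χ (zpowers z) p := by
  obtain ⟨P, hP, -⟩ := h.syl
  rcases List.mem_cons.1 hχ with rfl | hχ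
  · refine dv_of_val (not_sq_dvd hP) hC hz (isCharacter_sum Y fun ψ _ => ψ.2.isCharacter)
      (s := -(ε : ℂ)) (fun g hg => by rw [Finset.sum_apply, h.sum_Y hg]) (t := t)
      (Nat.not_dvd_of_pos_of_lt h.t_pos ?_) fun g hg => ?_
    · have := h.card_eq
      rcases e with _ | e
      · have := hp.out.two_le
        omega
      · nlinarith
    · rw [Finset.sum_apply, Finset.sum_congr rfl fun ψ hψ => (h.val_Y hψ).2.2 g hg,
        Finset.sum_const, h.card_Y, nsmul_eq_mul]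
  · exact dv_of_val (not_sq_dvd hP) hC hz χ.2.isCharacter (h.val hχ).2.2.2 (t := 1)
      (by simpa using hp.out.ne_one) (by simp)

/-- An element of order `s` commuting with elements of orders `p` and `r`. -/
theorem exists_comm {r s : ℕ} (hr : r.Prime) (hs : s.Prime) (he : r ∣ e) (hc : ¬ r ∣ p * c)
    (hsc : s ∣ c) (hd : ∀ d, IsPrimePow d → s ∣ d → d ∣ p * c → d % r ≠ 1) :
    ∃ z : G, orderOf z = s ∧ p ∣ Nat.card (centralizer ({z} : Set G)) ∧
      r ∣ Nat.card (centralizer ({z} : Set G)) := by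
  have := Fact.mk hr
  have := Fact.mk hs
  obtain ⟨P, hP, hC, hN⟩ := h.syl
  obtain ⟨⟨y, hy⟩, hy1⟩ := exists_prime_orderOf_dvd_card' r (he.trans (hN ▸ relIndex_dvd_card _ _))
  rw [orderOf_mk] at hy1
  have h1 := DegSec.not_dvd_relIndex (IsPGroup.of_card (G := zpowers y) (p := r) (n := 1)
    (by rw [Nat.card_zpowers, hy1, pow_one]))
    ((zpowers_le.2 hy).trans (Solv.normalizer_le_normalizer_centralizer _)) (hC ▸ hc) hs (hC ▸ hd)
  have h2 := Solv.card_inf_mul_relIndex (centralizer (zpowers y : Set G))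
    (centralizer ((P : Subgroup G) : Set G))
  obtain ⟨⟨z, hz⟩, hz1⟩ := exists_prime_orderOf_dvd_card' s
    ((hs.dvd_mul.1 (h2.trans hC ▸ hsc.mul_left p)).resolve_right h1)
  obtain ⟨x, hx, hx1⟩ := exists_ne_one hP
  exact ⟨z, by rwa [orderOf_mk] at hz1, orderOf_of_mem hP hx hx1 ▸ orderOf_dvd_natCard _
    (mem_centralizer_singleton_iff.2 (hz.2 x hx)), hy1 ▸ orderOf_dvd_natCard _
    (mem_centralizer_singleton_iff.2 (hz.1 y (mem_zpowers y)))⟩

omit [Finite G] in
theorem exists_dvd_orderOf : ∃ g : G, e ∣ orderOf g := by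
  obtain ⟨P, hP, -, rfl⟩ := h.syl
  have : IsCyclic (P : Subgroup G) := isCyclic_of_prime_card hP
  have : IsCyclic (ZMod (Nat.card (P : Subgroup G)))ˣ := by
    rw [show Nat.card (P : Subgroup G) = p from hP]; infer_instance
  have : IsCyclic (MulAut (P : Subgroup G)) :=
    isCyclic_of_injective (IsCyclic.mulAutMulEquiv (P : Subgroup G)).toMonoidHom
      (MulEquiv.injective _)
  obtain ⟨⟨_, g, rfl⟩, hg⟩ := IsCyclic.exists_ofOrder_eq_natCard
    (α := (P : Subgroup G).normalizerMonoidHom.range)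
  refine ⟨g, ?_⟩
  rw [relIndex, ← normalizerMonoidHom_ker, index_ker, ← hg, orderOf_coe]
  exact (dvd_of_eq (orderOf_coe _).symm).trans (orderOf_map_dvd _ g)

theorem dvd_c_of_dvd_orderOf {g : G} (hg : p ∣ orderOf g) {q : ℕ} (hq : q ∣ orderOf g)
    (hqp : q.Coprime p) : q ∣ c := by
  obtain ⟨P, hP, hC, -⟩ := h.syl
  exact hqp.dvd_of_dvd_mul_left
    (hC ▸ not_not.1 fun e => not_dvd_orderOf_of_not_dvd hP e hq hg)

omit hp [Finite G] in
theorem exists_odd : ∃ χ ∈ θ :: L, Odd (deg χ) := by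
  by_contra h1
  simp only [not_exists, not_and, Nat.not_odd_iff_even, List.mem_cons, forall_eq_or_imp] at h1
  have h2 : (2 : ℤ) ∣ (sd δ L).sum := List.dvd_sum fun s hs => by
    obtain ⟨χ, hχ, rfl⟩ := List.mem_map.1 hs
    exact (Int.natCast_dvd_natCast.2 (h1.2 χ hχ).two_dvd).mul_left _
  have h3 := ((Int.natCast_dvd_natCast.2 h1.1.two_dvd).mul_left ε).trans (dvd_of_eq h.deg_rel)
  omega

end Cfsg.Lib.Perm.KerLem
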