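import Mathlib
import Cfsg.Prelude.Def_DegreeGraph
import Cfsg.Agent.Known.Weil
import Cfsg.Agent.Char.Clifford
import Cfsg.Agent.Char.Prod
import Cfsg.Agent.Perm.Spectrum

/-!
# Character degrees from primitive idempotents of the commutant; affine groups of rings
-/

namespace Cfsg.Lib.Perm

open Matrix Cfsg.Lib.Char

theorem mem_charDegrees_of_apply_one {G : Type*} [Group G] {χ : G → ℂ} (h : IsIrrCharacter G χ)
    {n : ℕ} (hn : χ 1 = n) : n ∈ charDegrees G :=
  ⟨⟨χ, h⟩, by simp [charDegree, hn]⟩

theorem charDegrees_congr {G H : Type*} [Group G] [Group H] (e : G ≃* H) :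
    charDegrees G = charDegrees H := by
  ext d
  exact ⟨fun ⟨χ, h⟩ => ⟨⟨_, χ.2.comp_equiv e.symm⟩, by simpa [charDegree] using h⟩,
    fun ⟨χ, h⟩ => ⟨⟨_, χ.2.comp_equiv e⟩, by simpa [charDegree] using h⟩⟩

theorem mul_mem_charDegrees_prod {G H : Type*} [Group G] [Group H] [Finite G] [Finite H]
    {a b : ℕ} (ha : a ∈ charDegrees G) (hb : b ∈ charDegrees H) : a * b ∈ charDegrees (G × H) := by
  obtain ⟨χ, rfl⟩ := ha
  obtain ⟨ψ, rfl⟩ := hb
  refine mem_charDegrees_of_apply_one (χ.2.prod ψ.2) ?_
  obtain ⟨m, ρ, -, hm⟩ := χ.2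
  obtain ⟨n, τ, -, hn⟩ := ψ.2
  simp [charDegree, ← hm, ← hn]

theorem one_mem_charDegrees (G : Type*) [Group G] : 1 ∈ charDegrees G :=
  mem_charDegrees_of_apply_one isIrrCharacter_one (by simp)

/-- The permutation representation on complex functions. -/
def funRep (G X : Type*) [Group G] [MulAction G X] : Representation ℂ G (X → ℂ) where
  toFun g := LinearMap.funLeft ℂ ℂ fun x => g⁻¹ • x
  map_one' := by ext f x; simp
  map_mul' g h := by ext f x; simp [mul_smul]

theorem funRep_apply {G X : Type*} [Group G] [MulAction G X] (g : G) (f : X → ℂ) (x : X) :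
    funRep G X g f x = f (g⁻¹ • x) := rfl

/-- An invariant idempotent matrix that is primitive in the algebra of invariant matrices has as
trace the degree of an irreducible character. -/
theorem mem_charDegrees_of_idem {G X : Type*} [Group G] [Finite G] [Fintype X] [DecidableEq X]
    [MulAction G X] (E : Matrix X X ℂ) (hE : ∀ (g : G) x y, E (g • x) (g • y) = E x y)
    (h2 : E * E = E) {d : ℕ} (hd : E.trace = d) (h0 : d ≠ 0)
    (h : ∀ K : Matrix X X ℂ, (∀ (g : G) x y, K (g • x) (g • y) = K x y) → E * K * E = K →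
      ∃ c : ℂ, K = c • E) : d ∈ charDegrees G := by
  let e := Matrix.toLin' E
  let W := LinearMap.range e
  have he : ∀ f, e (e f) = e f := fun f => by
    simp only [e, Matrix.toLin'_apply, Matrix.mulVec_mulVec, h2]
  have hc : ∀ (g : G) f, funRep G X g (e f) = e (funRep G X g f) := fun g f => by
    ext x
    simp only [funRep_apply, e, Matrix.toLin'_apply, Matrix.mulVec, dotProduct]
    rw [← Equiv.sum_comp (MulAction.toPerm g⁻¹)]
    simp only [MulAction.toPerm_apply, hE]
  have hW : ∀ g, W ≤ W.comap (funRep G X g) := by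
    rintro g _ ⟨f, rfl⟩
    exact ⟨_, (hc g f).symm⟩
  let ρ := (funRep G X).subrepresentation W hW
  have hp : LinearMap.IsProj W e := ⟨fun f => ⟨f, rfl⟩, by rintro _ ⟨f, rfl⟩; exact he f⟩
  have hr : Module.finrank ℂ W = d := by
    have := hp.trace
    rw [Matrix.trace_toLin'_eq, hd] at this
    exact_mod_cast this.symm
  have : Nontrivial W := Module.nontrivial_of_finrank_pos (R := ℂ) (by omega)
  have : ρ.IsIrreducible := Cfsg.Lib.Known.isIrreducible_of_commutant ρ fun T hT => by
    let k : (X → ℂ) →ₗ[ℂ] (X → ℂ) := W.subtype ∘ₗ T ∘ₗ e.rangeRestrict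
    have hk : ∀ (g : G) f, funRep G X g (k f) = k (funRep G X g f) := fun g f => by
      have h1 := congrArg Subtype.val (LinearMap.congr_fun (hT g) (e.rangeRestrict f))
      refine h1.trans (congrArg (fun w => (T w : X → ℂ)) (Subtype.ext (hc g f)))
    obtain ⟨c, hK⟩ := h (LinearMap.toMatrix' k) (fun g x y => by
      have h1 := congrFun (hk g (Pi.single y 1)) (g • x)
      have h3 : funRep G X g (Pi.single y 1) = Pi.single (g • y) 1 := by
        ext z
        simp [funRep_apply, Pi.single_apply, inv_smul_eq_iff]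
      rw [funRep_apply, inv_smul_smul, h3] at h1
      simpa [LinearMap.toMatrix'_apply, Pi.single_apply, ← Pi.single_apply] using h1.symm) (by
      apply Matrix.toLin'.injective
      rw [Matrix.toLin'_mul, Matrix.toLin'_mul, Matrix.toLin'_toMatrix']
      refine LinearMap.ext fun f => ?_
      change e (k (e f)) = k f
      exact (hp.map_id _ (T _).2).trans
        (congrArg (fun w => (T w : X → ℂ)) (Subtype.ext (he f))))
    refine ⟨c, LinearMap.ext fun w => Subtype.ext ?_⟩
    have h4 := LinearMap.congr_fun (congrArg Matrix.toLin' hK) w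
    rw [Matrix.toLin'_toMatrix', map_smul] at h4
    have h5 : e.rangeRestrict w = w := Subtype.ext (hp.map_id _ w.2)
    change (T (e.rangeRestrict w) : X → ℂ) = c • e w at h4
    rwa [h5, hp.map_id _ w.2] at h4
  exact mem_charDegrees_of_apply_one (isIrrCharacter_rep ρ) (by rw [Representation.char_one, hr])

/-- The affine group of a finite commutative ring. -/
abbrev AffRing (R : Type*) [CommRing R] : Type _ := Aff (Representation.ofDistribMulAction R Rˣ R)

theorem card_affRing (R : Type*) [CommRing R] :
    Nat.card (AffRing R) = Nat.card R * Nat.card Rˣ := card_aff _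

theorem card_units_mem_charDegrees {R : Type*} [CommRing R] [Finite R] {ψ : AddChar R ℂ}
    (hψ : ψ.IsPrimitive) : Nat.card Rˣ ∈ charDegrees (AffRing R) := by
  classical
  let := Fintype.ofFinite (AffRing R)
  let N : Subgroup (AffRing R) := affTrans _
  let θ : N →* ℂ :=
    { toFun := fun n => ψ n.1.left.toAdd
      map_one' := by simp
      map_mul' := fun a b => by
        have : a.1.right = 1 := a.2
        simp [this, AddChar.map_add_eq_mul] }
  refine mem_charDegrees_of_apply_one ((isIrrCharacter_indFun_normal_iff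
    (isIrrCharacter_monoidHom' θ)).2 fun g hg => ?_) ?_
  · refine Units.ext (AddChar.to_mulShift_inj_of_isPrimitive hψ (AddChar.ext _ _ fun x => ?_))
    have := mem_inertia'.1 hg ⟨SemidirectProduct.inl (Multiplicative.ofAdd x), by simp [N]⟩
    simp only [θ, MonoidHom.coe_mk, OneHom.coe_mk] at this
    have h2 : (g * SemidirectProduct.inl (Multiplicative.ofAdd x) * g⁻¹).left =
        Multiplicative.ofAdd ((g.right : R) * x) := by
      have h3 := SemidirectProduct.inl_left_mul_inr_right g
      generalize g.left = a, g.right = b at h3 ⊢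
      subst h3
      rw [_root_.mul_inv_rev, ← map_inv, ← map_inv, mul_assoc, mul_assoc, ← mul_assoc (SemidirectProduct.inl
        (Multiplicative.ofAdd x)), ← mul_assoc (SemidirectProduct.inr b), ← mul_assoc
        (SemidirectProduct.inr b), ← SemidirectProduct.inl_aut, ← map_mul, ← map_mul,
        SemidirectProduct.left_inl, mul_comm, inv_mul_cancel_right]
      rfl
    rw [h2] at this
    simpa using this
  · rw [indFun_one, map_one, mul_one, Subgroup.index_ker, MonoidHom.range_eq_top.2
      SemidirectProduct.rightHom_surjective, Subgroup.card_top]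

end Cfsg.Lib.Perm
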