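import Cfsg.Agent.Perm.DegSec2
import Cfsg.Agent.Perm.OrbChar
import Cfsg.Agent.Spor.O10200960B
import Cfsg.Agent.Spor.GeoTrio
import Cfsg.Agent.Spor.GeoSextet
import Cfsg.Agent.Spor.GeoSmall
import Cfsg.Agent.S0157

/-!
# Some character degrees of the large Mathieu groups
-/

set_option autoImplicit false

open Cfsg MulAction Cfsg.Lib.Char Cfsg.Lib.PrimeOne Cfsg.Lib.Spor Cfsg.Lib.Spor.Mo Cfsg.Lib.Spor.Orb
open Cfsg.Lib.Spor.O7920 (instFact11 instFact5)
open Cfsg.Lib.Spor.O10200960 (instFact23)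
open scoped Pointwise

namespace Cfsg.Lib.Perm.MatDeg

variable {G X Y : Type*} [Group G] [Finite G] [MulAction G X] [MulAction G Y]

omit [Finite G] in
theorem inner_eq [Fintype G] [Finite X] [Finite Y] :
    classInner (fun g : G => (Nat.card (fixedBy X g) : ℂ)) (fun g => Nat.card (fixedBy Y g)) =
      Nat.card (orbitRel.Quotient G (X × Y)) := by
  rw [← Agent.S0157.inner_one]
  have h : ∀ g : G, Nat.card (fixedBy (X × Y) g) =
      Nat.card (fixedBy X g) * Nat.card (fixedBy Y g) := fun g => by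
    rw [← Nat.card_prod]
    exact Nat.card_congr ⟨fun x => (⟨x.1.1, congrArg Prod.fst x.2⟩, ⟨x.1.2, congrArg Prod.snd x.2⟩),
      fun y => ⟨(y.1.1, y.2.1), Prod.ext y.1.2 y.2.2⟩, fun _ => rfl, fun _ => rfl⟩
  simp only [classInner, h, map_natCast, map_one, mul_one, Nat.cast_mul]

theorem mem_of_card [Finite X] [Finite Y] {d : ℕ} (hd : 0 < d) (h1 : Nat.card X = Nat.card Y + d)
    (h2 : Nat.card (orbitRel.Quotient G (X × X)) + Nat.card (orbitRel.Quotient G (Y × Y)) ≤
      2 * Nat.card (orbitRel.Quotient G (X × Y)) + 1) : d ∈ charDegrees G := by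
  have := Fintype.ofFinite G
  set ψ : G → ℂ := (fun g : G => (Nat.card (fixedBy X g) : ℂ)) -
    fun g : G => (Nat.card (fixedBy Y g) : ℂ) with hψ
  have h3 : IsGeneralizedCharacter G ψ :=
    ⟨_, _, isCharacter_card_fixedBy G X, isCharacter_card_fixedBy G Y, rfl⟩
  have h4 : ψ 1 = d := by simp [hψ, h1]
  have h5 : classInner ψ ψ = ((Nat.card (orbitRel.Quotient G (X × X)) +
      Nat.card (orbitRel.Quotient G (Y × Y)) - 2 * Nat.card (orbitRel.Quotient G (X × Y)) : ℤ) : ℂ) := by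
    rw [hψ, classInner_sub_left, classInner_sub_right, classInner_sub_right,
      ← conj_classInner (fun g : G => (Nat.card (fixedBy X g) : ℂ))
        fun g : G => (Nat.card (fixedBy Y g) : ℂ)]
    simp only [inner_eq, map_natCast]
    push_cast
    ring
  have h6 : classInner ψ ψ ≠ 0 := fun e => by
    rw [classInner_self_eq_zero.1 e] at h4
    exact hd.ne' (Nat.cast_eq_zero.1 h4.symm)
  have h7 := classInner_self_re_nonneg ψ
  rw [h5] at h6 h7
  rw [Complex.intCast_re] at h7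
  refine mem_charDegrees_of_apply_one (h3.isIrrCharacter_of_pos (h5.trans ?_)
    (by rw [h4]; simpa using hd)) h4
  rw [Int.cast_ne_zero] at h6
  rw [Int.cast_nonneg_iff] at h7
  rw [← Int.cast_one, Int.cast_inj]
  omega

omit [Finite G] in
theorem card_le {a : X} {A : Set X} {f : X → ℕ} {k : ℕ} {c n : Fin k → ℕ} (h : Rank G a A f c n)
    (hA : orbit G a = A) : Nat.card (orbitRel.Quotient G (orbit G a × orbit G a)) ≤ k := by
  subst hA
  choose x hx hc using h.exists_rep
  refine (Nat.card_le_card_of_surjective (fun i => Quotient.mk'' (⟨a, mem_orbit_self a⟩,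
    ⟨x i, hx i⟩)) ?_).trans_eq (Nat.card_fin k)
  rintro ⟨⟨_, g, rfl⟩, y, hy⟩
  have h1 : g⁻¹ • y ∈ orbit G a := mem_orbit_of_mem_orbit _ hy
  obtain ⟨i, hi⟩ := h.cover _ h1
  obtain ⟨u, h2, h3⟩ := h.trans _ (hx i) _ h1 ((hc i).trans hi.symm)
  refine ⟨i, (Quotient.sound' (mem_orbit_iff.2 ⟨g * u, Prod.ext (Subtype.ext ?_)
    (Subtype.ext ?_)⟩)).symm⟩ <;> simp [mul_smul, h2, h3]

theorem le_card {a : X} {b : Y} {f : Y → ℕ} {k : ℕ} {c : Fin k → ℕ} (hc : Function.Injective c)
    (h1 : ∀ g : G, g • a = a → ∀ y ∈ orbit G b, f (g • y) = f y)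
    (h2 : ∀ i, ∃ y ∈ orbit G b, f y = c i) :
    k ≤ Nat.card (orbitRel.Quotient G (orbit G a × orbit G b)) := by
  choose x hx hf using h2
  have : Finite (orbit G a) := (Set.finite_range fun g : G => g • a).to_subtype
  have : Finite (orbit G b) := (Set.finite_range fun g : G => g • b).to_subtype
  refine (Nat.card_fin k).ge.trans (Nat.card_le_card_of_injective (fun i => Quotient.mk''
    (⟨a, mem_orbit_self a⟩, ⟨x i, hx i⟩)) fun i j e => hc ?_)
  obtain ⟨g, hg⟩ := Quotient.exact e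
  rw [← hf, ← hf, ← h1 g (congrArg (fun u => u.1.1) hg) _ (hx j)]
  exact congrArg (fun u => f u.2.1) hg.symm

omit [Finite G] in
theorem orbit_eq {a : X} {A : Set X} (ha : a ∈ A) (h1 : ∀ (g : G) {y}, y ∈ A → g • y ∈ A)
    (h2 : ∀ {y}, y ∈ A → ∃ g : G, g • a = y) : orbit G a = A :=
  Set.ext fun _ => ⟨fun ⟨g, hg⟩ => hg ▸ h1 g ha, h2⟩

theorem mem2024 : 2024 ∈ charDegrees M24 := by
  have h1 := orbit_eq trio0_mem smul_mem_trios' (trans_trios trio0_mem)
  have h2 := orbit_eq sext0_mem smul_mem_sextets' (trans_sextets sext0_mem)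
  have h3 := rank_trio_sext trio0_mem
  have h4 := card_le (rank_trio_trio trio0_mem) h1
  have h5 := card_le (rank_sext_sext sext0_mem) h2
  have h6 := le_card (b := fam 6 sext0) h3.inj (h2 ▸ h3.inv) (h2 ▸ h3.exists_rep)
  exact mem_of_card (X := orbit M24 (fam 3 trio0)) (Y := orbit M24 (fam 6 sext0)) (by norm_num)
    (by rw [h1, h2, Nat.card_coe_set_eq, Nat.card_coe_set_eq, ncard_trios, ncard_sextets])
    (by omega)

theorem mem483 : 483 ∈ charDegrees M24 := by
  have h0 : (maskSet 3).card = 2 := by rw [card_maskSet]; decide +kernel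
  have h1 := orbit_eq oct0_mem smul_mem_octads' (trans_octads oct0_mem)
  have h2 := orbit_eq (G := M24) (A := {t : Finset GolayPt | t.card = 2}) h0 (fun g _ => smul_mem_card g)
    fun hy => trans_finset (by omega) (h0.trans hy.symm)
  have h4 := card_le (rank_oct_oct oct0_mem) h1
  have h5 := card_le (rank_two_two h0) h2
  have h6 := le_card (G := M24) (a := maskSet 13062145) (b := maskSet 3)
    (f := fun y => (maskSet 13062145 ∩ y).card) (c := ![0, 1, 2]) (by decide)
    (fun g hg y _ => by rw [← card_inter_smul g (maskSet 13062145) y, hg]) fun i =>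
      ⟨maskSet (![6, 3, 4097] i), h2 ▸ (card_maskSet _).trans (by revert i; decide +kernel), by
        rw [card_inter_maskSet]; revert i; decide +kernel⟩
  exact mem_of_card (X := orbit M24 (maskSet 13062145)) (Y := orbit M24 (maskSet 3)) (by norm_num)
    (by rw [h1, h2, Nat.card_coe_set_eq, Nat.card_coe_set_eq, ncard_octads, ncard_card_eq]; rfl)
    (by omega)

omit [Finite G] in
theorem mem_of_blk {p M e c t : ℕ} {L : List (IrrCharacter G)} {Z : Finset (IrrCharacter G)}
    {θ : IrrCharacter G} {δ : IrrCharacter G → ℤ} {ε : ℤ} (h : Blk p M e c t L Z θ δ ε)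
    {l : List ℤ} (hl : sd δ L = l) {d : ℕ} (hd : d ∈ ((1 + l.sum) :: l).map Int.natAbs) :
    d ∈ charDegrees G := by
  rw [← hl, h.map_natAbs] at hd
  obtain ⟨χ, -, rfl⟩ := List.mem_map.1 hd
  exact ⟨χ, rfl⟩

variable [IsSimpleGroup G]

theorem mem22 (hG : Nat.card G = 443520) :
    154 ∈ charDegrees G ∧ 55 ∈ charDegrees G ∧ 99 ∈ charDegrees G := by
  obtain ⟨_, _, _, _, _, _, _, _, _, _, _, _, _, _, _, _, -, k, j, -, -, h⟩ := O443520.blocks hG
  simp only [List.cons.injEq] at h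
  exact ⟨mem_of_blk k h.2.1 (by decide), mem_of_blk j h.2.2.1 (by decide),
    mem_of_blk j h.2.2.1 (by decide)⟩

theorem mem23 (hG : Nat.card G = 10200960) :
    2024 ∈ charDegrees G ∧ ∀ d ∈ charDegrees G, ¬ 161 ∣ d := by
  obtain ⟨L, Y, θ, δ, ε, L', Y', θ', δ', ε', s, h, k, -, h1, h2⟩ := O10200960.blocks hG
  replace h2 := (List.cons.inj h2).1
  have hS := h.selfC rfl (by norm_num)
  have hS' := k.selfC rfl (by norm_num)
  obtain ⟨M, e, c, t, L5, Y5, θ5, δ5, ε5, i, hm⟩ := exists_blk' (G := G) (p := 5)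
    (by rw [hG]; norm_num) (by rw [hG]; norm_num)
  have hc := i.c_eq
  rw [hG] at hc
  obtain ⟨L5, i, h3⟩ := (i.enumF (O10200960.not_comm hG) hG O10200960.ord hm (fun χ hχ => by
    rw [k.okD rfl (i.ne_triv hχ), hS.mod χ]; rfl) (List.all_eq_true.1 O10200960.e5 (sd δ' L')
    (by rw [h1]; decide))).resolve_left (by simp [hc, i.c_ne hS, i.c_ne hS'])
  simp only [Bool.or_eq_true, Bool.and_eq_true, beq_iff_eq, List.cons.injEq, and_true] at h3
  have h4 := mem_of_blk i (h3.resolve_left fun h3 => h3.elim (i.not_tauBad hS (by norm_num))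
    (i.not_tauBad hS' (by norm_num))).2.2 (d := 2024) (by decide)
  refine ⟨h4, fun d hd h5 => ?_⟩
  have h6 := DegSec.sum_sq_le (insert d {2024, 1035, 990, 896, 770}) (by
    simp only [Finset.mem_insert, Finset.mem_singleton, forall_eq_or_imp, forall_eq]
    exact ⟨hd, h4, mem_of_blk k h1 (by decide), mem_of_blk h h2 (by decide),
      mem_of_blk h h2 (by decide), mem_of_blk h h2 (by decide)⟩)
  rw [Finset.sum_insert (by simp; omega), hG] at h6
  obtain ⟨χ, rfl⟩ := hd
  have h7 := k.okD rfl (χ := χ) (by rintro rfl; simp [show charDegree _ = 1 from deg_triv] at h5)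
  have h8 : 1771 ≤ deg χ := Nat.le_of_dvd (deg_pos χ) (by
    simp [okD, h1] at h7
    change 161 ∣ deg χ at h5
    omega)
  have h9 : _ ≤ charDegree (χ : G → ℂ) ^ 2 := Nat.pow_le_pow_left h8 2
  simp at h6
  omega

end Cfsg.Lib.Perm.MatDeg
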