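import Mathlib
import Cfsg.Agent.Perm.MultiInvol
import Cfsg.Agent.Trans.SylowIn
import Cfsg.Agent.S0743

/-! The group induced by the normaliser of a subgroup on its fixed points (Witt, Gleason). -/

set_option autoImplicit false
set_option linter.unusedSectionVars false

namespace Cfsg.Lib.Perm

open MulAction Equiv Cfsg.Lib.Trans

variable {G α : Type*} [Group G] [MulAction G α]

/-- The fixed points of a subgroup, as a type. -/
abbrev FixT (α : Type*) [MulAction G α] (Q : Subgroup G) : Type _ := {x : α // ∀ q ∈ Q, q • x = x}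

theorem smul_fixT_of_mem_normalizer {Q : Subgroup G} {g : G}
    (hg : g ∈ Subgroup.normalizer (Q : Set G)) {x : α} (hx : ∀ q ∈ Q, q • x = x) :
    ∀ q ∈ Q, q • g • x = g • x := by
  intro q hq
  have h1 : g⁻¹ * q * g ∈ Q := by
    have := (Subgroup.mem_normalizer_iff.1 (Subgroup.inv_mem _ hg) q).1 hq
    rwa [inv_inv] at this
  have h2 := hx _ h1
  rw [mul_smul, mul_smul, inv_smul_eq_iff] at h2
  exact h2

/-- The permutations of the fixed points of `Q` induced by the normaliser of `Q`. -/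
def resX (α : Type*) [MulAction G α] (Q : Subgroup G) : Subgroup (Perm (FixT α Q)) where
  carrier := {σ | ∃ g ∈ Subgroup.normalizer (Q : Set G), ∀ x, (σ x : α) = g • (x : α)}
  one_mem' := ⟨1, Subgroup.one_mem _, fun x => (one_smul _ _).symm⟩
  mul_mem' := by
    rintro σ τ ⟨g, hg, h1⟩ ⟨h, hh, h2⟩
    exact ⟨g * h, Subgroup.mul_mem _ hg hh, fun x => by rw [Perm.mul_apply, h1, h2, mul_smul]⟩
  inv_mem' := by
    rintro σ ⟨g, hg, h1⟩
    exact ⟨g⁻¹, Subgroup.inv_mem _ hg, fun x => by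
      rw [eq_inv_smul_iff, ← h1]; simp⟩

theorem resX_exists {Q : Subgroup G} (σ : resX α Q) :
    ∃ g ∈ Subgroup.normalizer (Q : Set G), ∀ x : FixT α Q, ((σ • x : FixT α Q) : α) = g • (x : α) :=
  σ.2

theorem exists_resX {Q : Subgroup G} {g : G} (hg : g ∈ Subgroup.normalizer (Q : Set G)) :
    ∃ σ : resX α Q, ∀ x : FixT α Q, ((σ • x : FixT α Q) : α) = g • (x : α) :=
  ⟨⟨{ toFun := fun x => ⟨g • x.1, smul_fixT_of_mem_normalizer hg x.2⟩
      invFun := fun x => ⟨g⁻¹ • x.1, smul_fixT_of_mem_normalizer (Subgroup.inv_mem _ hg) x.2⟩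
      left_inv := fun _ => Subtype.ext (inv_smul_smul _ _)
      right_inv := fun _ => Subtype.ext (smul_inv_smul _ _) }, g, hg, fun _ => rfl⟩, fun _ => rfl⟩

theorem resX_pow {Q : Subgroup G} {σ : resX α Q} {g : G}
    (h : ∀ x : FixT α Q, ((σ • x : FixT α Q) : α) = g • (x : α)) (n : ℕ) (x : FixT α Q) :
    (((σ ^ n) • x : FixT α Q) : α) = g ^ n • (x : α) := by
  induction n with
  | zero => simp
  | succ n ih => rw [pow_succ', pow_succ', mul_smul, mul_smul, h, ih]

theorem resX_eq_one {Q : Subgroup G} {σ : resX α Q} (h : ∀ x : FixT α Q, σ • x = x) : σ = 1 :=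
  Subtype.ext (Equiv.ext h)

theorem resX_orderOf_dvd {Q : Subgroup G} {σ : resX α Q} {g : G}
    (h : ∀ x : FixT α Q, ((σ • x : FixT α Q) : α) = g • (x : α)) {m : ℕ} (hm : g ^ m ∈ Q) :
    orderOf σ ∣ m :=
  orderOf_dvd_of_pow_eq_one (resX_eq_one fun x => Subtype.ext (by rw [resX_pow h, x.2 _ hm]))

/-- The pointwise stabiliser of a finset. -/
abbrev fixF (G : Type*) {α : Type*} [Group G] [MulAction G α] (s : Finset α) : Subgroup G :=
  fixingSubgroup G (s : Set α)

theorem mem_fixF {s : Finset α} {g : G} : g ∈ fixF G s ↔ ∀ x ∈ s, g • x = x :=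
  mem_fixingSubgroup_iff _

/-- The image in `α` of a finset of fixed points. -/
abbrev upF {Q : Subgroup G} (s : Finset (FixT α Q)) : Finset α := s.map (Function.Embedding.subtype _)

theorem mem_upF {Q : Subgroup G} {s : Finset (FixT α Q)} {x : α} :
    x ∈ upF s ↔ ∃ y ∈ s, (y : α) = x := by simp [upF]

theorem le_fixF_upF {Q : Subgroup G} (s : Finset (FixT α Q)) : Q ≤ fixF G (upF s) := fun q hq =>
  mem_fixF.2 fun x hx => by
    obtain ⟨y, -, rfl⟩ := mem_upF.1 hx
    exact y.2 q hq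

theorem exists_upF_eq {Q : Subgroup G} {s : Finset α} (h : Q ≤ fixF G s) :
    ∃ s' : Finset (FixT α Q), upF s' = s := by
  classical
  refine ⟨s.subtype _, ?_⟩
  rw [upF, Finset.subtype_map]
  exact Finset.filter_true_of_mem fun x hx q hq => mem_fixF.1 (h hq) x hx

variable [Finite G] {p : ℕ}

theorem not_dvd_orderOf_resX (hp : p.Prime) {Q : Subgroup G} {s : Finset (FixT α Q)}
    (hQ : IsSylowIn p Q (fixF G (upF s))) {σ : resX α Q} (hσ : ∀ x ∈ s, σ • x = x) :
    ¬ p ∣ orderOf σ := by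
  have := Fact.mk hp
  obtain ⟨g, hgN, hg⟩ := resX_exists σ
  obtain ⟨a, m, hm, ham⟩ := Nat.exists_eq_pow_mul_and_not_dvd (orderOf_pos g).ne' p hp.ne_one
  have h1 : IsPGroup p (Subgroup.zpowers (g ^ m)) := by
    refine IsPGroup.of_card_dvd_pow (n := a) ?_
    rw [Nat.card_zpowers]
    exact orderOf_dvd_of_pow_eq_one (by rw [← pow_mul, mul_comm, ← ham, pow_orderOf_eq_one])
  have h2 : g ∈ fixF G (upF s) := mem_fixF.2 fun x hx => by
    obtain ⟨y, hy, rfl⟩ := mem_upF.1 hx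
    rw [← hg, hσ y hy]
  have h3 := hQ.eq_of_le (Q := Q ⊔ Subgroup.zpowers (g ^ m))
    (IsPGroup.to_sup_of_normal_left' hQ.isPGroup h1
      (by rw [Subgroup.zpowers_le]; exact Subgroup.pow_mem _ hgN m)) le_sup_left
    (sup_le hQ.le (by rw [Subgroup.zpowers_le]; exact Subgroup.pow_mem _ h2 m))
  have h4 : g ^ m ∈ Q := h3 ▸ Subgroup.mem_sup_right (Subgroup.mem_zpowers _)
  exact fun h => hm (h.trans (resX_orderOf_dvd hg h4))

theorem cj_fixF [DecidableEq α] (g : G) (s : Finset α) : cj g (fixF G s) = fixF G (s.image (g • ·)) := by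
  ext h
  rw [mem_cj, mem_fixF, mem_fixF, Finset.forall_mem_image]
  refine forall_congr' fun x => forall_congr' fun _ => ?_
  rw [mul_smul, mul_smul, inv_smul_eq_iff]

variable [Fintype α] [DecidableEq α] {k : ℕ}

theorem exists_cj_fixF (htr : IsMultiplyPretransitive G α k) (hkn : k ≤ Nat.card α)
    {s t : Finset α} (hs : s.card = k) (ht : t.card = k) : ∃ g : G, cj g (fixF G s) = fixF G t := by
  obtain ⟨σ, hσ⟩ := Equiv.Perm.exists_map_finset_eq s t (hs.trans ht.symm)
  obtain ⟨g, hg⟩ := exists_smul_eq_on_finset' htr hkn s hs.le σ σ.injective.injOn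
  refine ⟨g, ?_⟩
  rw [cj_fixF, Finset.image_congr (g := σ) hg, ← hσ, Finset.map_eq_image]
  rfl

theorem isSylowIn_fixF_of (hp : p.Prime) (htr : IsMultiplyPretransitive G α k)
    (hkn : k ≤ Nat.card α) {Q : Subgroup G} {s t : Finset α} (hs : s.card = k) (ht : t.card = k)
    (hQ : IsSylowIn p Q (fixF G s)) (hQt : Q ≤ fixF G t) : IsSylowIn p Q (fixF G t) := by
  have := Fact.mk hp
  obtain ⟨g, hg⟩ := exists_cj_fixF htr hkn hs ht
  exact (hg ▸ hQ.cj g).of_card_ge hQ.isPGroup hQt (card_cj g Q).le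

/-- Witt's lemma. -/
theorem resX_trans_of_isSylowIn (hp : p.Prime) (htr : IsMultiplyPretransitive G α k)
    (hkn : k ≤ Nat.card α) {Q : Subgroup G} {s : Finset α} (hs : s.card = k)
    (hQ : IsSylowIn p Q (fixF G s)) : IsMultiplyPretransitive (resX α Q) (FixT α Q) k := by
  have := Fact.mk hp
  rw [isMultiplyPretransitive_iff]
  intro x y
  obtain ⟨g, hg⟩ := isMultiplyPretransitive_iff.1 htr (x.trans (Function.Embedding.subtype _))
    (y.trans (Function.Embedding.subtype _))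
  have hg' : ∀ i, g • (x i : α) = y i := fun i => DFunLike.congr_fun hg i
  have hx : (upF (Finset.univ.map x)).card = k := by simp [upF]
  have hy : (upF (Finset.univ.map y)).card = k := by simp [upF]
  have h1 := isSylowIn_fixF_of hp htr hkn hs hx hQ (le_fixF_upF _)
  have h2 := isSylowIn_fixF_of hp htr hkn hs hy hQ (le_fixF_upF _)
  have h3 := h1.cj g
  have h4 : (upF (Finset.univ.map x)).image (g • ·) = upF (Finset.univ.map y) := by
    ext z
    simp only [Finset.mem_image, Finset.mem_map, Finset.mem_univ, true_and]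
    constructor
    · rintro ⟨_, ⟨_, ⟨i, rfl⟩, rfl⟩, rfl⟩
      exact ⟨_, ⟨i, rfl⟩, (hg' i).symm⟩
    · rintro ⟨_, ⟨i, rfl⟩, rfl⟩
      exact ⟨_, ⟨_, ⟨i, rfl⟩, rfl⟩, hg' i⟩
  rw [cj_fixF, h4] at h3
  obtain ⟨h, hh, hhQ⟩ := h2.exists_cj_eq h3
  rw [cj_cj, cj_eq_self_iff] at hhQ
  obtain ⟨σ, hσ⟩ := exists_resX (α := α) hhQ
  refine ⟨σ, Function.Embedding.ext fun i => Subtype.ext ?_⟩
  rw [Function.Embedding.smul_apply, hσ, mul_smul, hg']
  exact mem_fixF.1 hh _ (mem_upF.2 ⟨_, by simp, rfl⟩)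

/-- `Q` is maximal among the `p`-subgroups fixing more than `k` points. -/
structure MaxFix (p : ℕ) (α : Type*) [MulAction G α] (k : ℕ) (Q : Subgroup G) : Prop where
  isPGroup : IsPGroup p Q
  lt_card : k < Nat.card (FixT α Q)
  max : ∀ R : Subgroup G, IsPGroup p R → Q ≤ R → k < Nat.card (FixT α R) → R ≤ Q

theorem exists_maxFix (p : ℕ) (hkn : k < Fintype.card α) : ∃ Q : Subgroup G, MaxFix p α k Q := by
  obtain ⟨Q, hQ⟩ := exists_maximal_of_wellFoundedGT
    (fun Q : Subgroup G => IsPGroup p Q ∧ k < Nat.card (FixT α Q)) ⟨⊥, IsPGroup.of_bot, by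
      rwa [Nat.card_congr (Equiv.subtypeUnivEquiv (by simp)), Nat.card_eq_fintype_card]⟩
  exact ⟨Q, hQ.1.1, hQ.1.2, fun R h1 h2 h3 => hQ.2 ⟨h1, h3⟩ h2⟩

theorem card_le_card_fixT {Q : Subgroup G} {s : Finset α} (h : Q ≤ fixF G s) :
    s.card ≤ Nat.card (FixT α Q) := by
  classical
  obtain ⟨s', rfl⟩ := exists_upF_eq h
  rw [upF, Finset.card_map, Nat.card_eq_fintype_card]
  exact Finset.card_le_univ _

theorem MaxFix.isSylowIn (hp : p.Prime) {Q : Subgroup G} (hQ : MaxFix p α k Q) {s : Finset α}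
    (hs : k < s.card) (h : Q ≤ fixF G s) : IsSylowIn p Q (fixF G s) :=
  have := Fact.mk hp
  isSylowIn_of_maximal h hQ.isPGroup fun R h1 h2 h3 =>
    hQ.max R h1 h2 (hs.trans_le (card_le_card_fixT h3))

/-- If `Q` is not Sylow in the stabiliser of a `k`-set of fixed points, some `p`-subgroup of the
normaliser fixes exactly this set. -/
theorem MaxFix.exists_fix_eq (hp : p.Prime) {Q : Subgroup G} (hQ : MaxFix p α k Q)
    {s : Finset (FixT α Q)} (hs : s.card = k) (h : ¬ IsSylowIn p Q (fixF G (upF s))) :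
    ∃ P : Subgroup (resX α Q), IsPGroup p P ∧ fixedPoints P (FixT α Q) = (s : Set (FixT α Q)) := by
  have := Fact.mk hp
  obtain ⟨T, hT, hQT⟩ := exists_isSylowIn_ge hQ.isPGroup (le_fixF_upF s)
  have h1 := lt_inf_normalizer hT.isPGroup (lt_of_le_of_ne hQT (fun e => h (e ▸ hT)))
  set R := T ⊓ Subgroup.normalizer (Q : Set G)
  have hR : IsPGroup p R := hT.isPGroup.to_inf_left
  have hRs : R ≤ fixF G (upF s) := inf_le_left.trans hT.le
  let P : Subgroup (resX α Q) :=
    { carrier := {σ | ∃ g ∈ R, ∀ x : FixT α Q, ((σ • x : FixT α Q) : α) = g • (x : α)}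
      one_mem' := ⟨1, Subgroup.one_mem _, fun x => by rw [one_smul, one_smul]⟩
      mul_mem' := by
        rintro σ τ ⟨g, hg, h1⟩ ⟨h, hh, h2⟩
        exact ⟨g * h, Subgroup.mul_mem _ hg hh, fun x => by rw [mul_smul, h1, h2, mul_smul]⟩
      inv_mem' := by
        rintro σ ⟨g, hg, h1⟩
        exact ⟨g⁻¹, Subgroup.inv_mem _ hg, fun x => by
          rw [eq_inv_smul_iff, ← h1, smul_inv_smul]⟩ }
  refine ⟨P, ?_, ?_⟩
  · rintro ⟨σ, g, hg, hσ⟩
    obtain ⟨j, hj⟩ := hR ⟨g, hg⟩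
    refine ⟨j, Subtype.ext (orderOf_dvd_iff_pow_eq_one.1 (resX_orderOf_dvd hσ ?_))⟩
    rw [show g ^ p ^ j = 1 from congrArg Subtype.val hj]
    exact Q.one_mem
  · ext x
    rw [mem_fixedPoints]
    constructor
    · intro hx
      by_contra hxs
      have hxs' : (x : α) ∉ upF s := fun e => by
        obtain ⟨y, hy, e⟩ := mem_upF.1 e
        exact hxs (Subtype.ext e ▸ hy)
      refine h1.not_ge (hQ.max R hR h1.le (lt_of_lt_of_le ?_
        (card_le_card_fixT (s := insert (x : α) (upF s)) fun g hg => mem_fixF.2 fun y hy => ?_)))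
      · rw [Finset.card_insert_of_notMem hxs', upF, Finset.card_map]; omega
      · rcases Finset.mem_insert.1 hy with rfl | hy
        · obtain ⟨σ, hσ⟩ := exists_resX (α := α) hg.2
          rw [← hσ]
          exact congrArg Subtype.val (hx ⟨σ, g, hg, hσ⟩)
        · exact mem_fixF.1 (hRs hg) y hy
    · rintro hx ⟨σ, g, hg, hσ⟩
      exact Subtype.ext ((hσ x).trans (mem_fixF.1 (hRs hg) _ (mem_upF.2 ⟨x, hx, rfl⟩)))

theorem MaxFix.sylow_or (hp : p.Prime) (htr : IsMultiplyPretransitive G α k)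
    (hkn : k ≤ Nat.card α) {Q : Subgroup G} :
    (∀ s : Finset (FixT α Q), s.card = k → IsSylowIn p Q (fixF G (upF s))) ∨
    (∀ s : Finset (FixT α Q), s.card = k → ¬ IsSylowIn p Q (fixF G (upF s))) := by
  by_contra hcon
  push Not at hcon
  obtain ⟨⟨s, hs, h1⟩, t, ht, h2⟩ := hcon
  exact h1 (isSylowIn_fixF_of hp htr hkn (by rw [upF, Finset.card_map, ht])
    (by rw [upF, Finset.card_map, hs]) h2 (le_fixF_upF s))

theorem MaxFix.resX_trans (hp : p.Prime) (htr : IsMultiplyPretransitive G α k) (hk : 1 ≤ k)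
    (hkn : k ≤ Nat.card α) {Q : Subgroup G} (hQ : MaxFix p α k Q) :
    IsMultiplyPretransitive (resX α Q) (FixT α Q) k := by
  classical
  have hlt := hQ.lt_card
  rw [Nat.card_eq_fintype_card] at hlt
  rcases MaxFix.sylow_or hp htr hkn (Q := Q) with h | h
  · obtain ⟨s, -, hs⟩ := Finset.exists_subset_card_eq (s := (Finset.univ : Finset (FixT α Q)))
      (n := k) hlt.le
    exact resX_trans_of_isSylowIn hp htr hkn (by rw [upF, Finset.card_map, hs]) (h s hs)
  · exact Cfsg.Agent.S0743.result (resX α Q) hp hk hlt fun s hs => hQ.exists_fix_eq hp hs (h s hs)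

end Cfsg.Lib.Perm
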