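import Cfsg.Agent.Perm.PlaneTrans

/-!
# A 2-transitive collineation group of a finite projective plane contains all elations
-/

set_option autoImplicit false

namespace Cfsg.Lib.Perm.Plane

open Configuration MulAction Cfsg.Lib.Block

universe u v w

section Groups

variable {G : Type*} [Group G]

theorem exists_pow_prime_order {p : ℕ} {g : G} (k : ℕ) (h1 : g ≠ 1) (hk : g ^ p ^ k = 1) :
    ∃ j, g ^ j ≠ 1 ∧ (g ^ j) ^ p = 1 := by
  induction k with
  | zero => exact absurd (by simpa using hk) h1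
  | succ k ih =>
    by_cases h : g ^ p ^ k = 1
    · exact ih h
    · exact ⟨p ^ k, h, by rw [← pow_mul, ← pow_succ, hk]⟩

theorem exists_central [Finite G] {p : ℕ} [Fact p.Prime] {Q : Subgroup G} (hQ : IsPGroup p Q)
    (h1 : Q ≠ ⊥) : ∃ z ∈ Q, z ≠ 1 ∧ z ^ p = 1 ∧ ∀ g ∈ Q, g * z = z * g := by
  have : Nontrivial Q := (Subgroup.nontrivial_iff_ne_bot Q).2 h1
  have := hQ.center_nontrivial
  obtain ⟨⟨z, hz⟩, hz1⟩ := exists_ne (1 : Subgroup.center Q)
  obtain ⟨k, hk⟩ := hQ z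
  obtain ⟨j, h2, h3⟩ := exists_pow_prime_order k (fun e => hz1 (Subtype.ext e)) hk
  refine ⟨(z ^ j : Q), (z ^ j).2, fun e => h2 (Subtype.ext e), congrArg Subtype.val h3,
    fun g hg => ?_⟩
  exact congrArg Subtype.val (Subgroup.mem_center_iff.1 (pow_mem hz j) ⟨g, hg⟩)

variable {Ω : Type*} [MulAction G Ω]

theorem card_stabilizer_smul (g : G) (a : Ω) :
    Nat.card (stabilizer G (g • a)) = Nat.card (stabilizer G a) := by
  have := card_inf_stabilizer_smul (⊤ : Subgroup G) g a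
  rwa [top_inf_eq, top_inf_eq] at this

/-- Witt's lemma -/
theorem exists_normalizer_smul [Finite G] {p : ℕ} [Fact p.Prime] {T : Subgroup G} {a c : Ω}
    (hT : IsSylowIn p T (stabilizer G c)) (ha : ∀ t ∈ T, t • a = a) {g : G} (hg : g • a = c) :
    ∃ n ∈ Subgroup.normalizer (T : Set G), n • a = c := by
  obtain ⟨m, -, h1, -, h2⟩ := exists_mul_mem_normalizer ⊤ (c := c) (d := c)
    (by rwa [top_inf_eq]) ha ha hT.le hg hg
  exact ⟨m * g, h2, by rw [mul_smul, hg, h1]⟩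

theorem isSylowIn_stabilizer_of_fix [Finite G] {p : ℕ} [Fact p.Prime] {T : Subgroup G} {a c : Ω}
    (hT : IsSylowIn p T (stabilizer G c)) (ha : ∀ t ∈ T, t • a = a) {g : G} (hg : g • a = c) :
    IsSylowIn p T (stabilizer G a) :=
  hT.of_card_eq ha rfl (by rw [← hg, card_stabilizer_smul])

end Groups

variable {G : Type w} {P : Type u} {L : Type v} [Group G] [Membership P L] [MulAction G P]
  [MulAction G L] [hG : CG G P L] [ProjectivePlane P L] [Finite P] [Finite L] [Finite G]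

local notation "𝐧" => ProjectivePlane.order P L

/-- a Sylow 2-subgroup of a two-point stabiliser is not planar -/
theorem not_planar_sylow (h : TwoTrans G P) {x y : P} (hxy : x ≠ y) {S : Subgroup G}
    (hS : IsSylowIn 2 S (stabilizer G (x, y))) : ¬ Planar P L S := by
  intro hp
  have hx : ∀ t ∈ S, t • x = x := fun t ht => congrArg Prod.fst (hS.le ht)
  have hy : ∀ t ∈ S, t • y = y := fun t ht => congrArg Prod.snd (hS.le ht)
  obtain ⟨g, h1, h2⟩ := h y x x y hxy.symm hxy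
  obtain ⟨n, hn, h3⟩ := exists_normalizer_smul (a := (y, x)) hS
    (fun t ht => Prod.ext (hy t ht) (hx t ht)) (g := g) (Prod.ext h1 h2)
  have h4 : n • y = x := congrArg Prod.fst h3
  have h5 : n • x = y := congrArg Prod.snd h3
  have heven : 2 ∣ orderOf (ind P L S ⟨n, hn⟩) := by
    by_contra hodd
    obtain ⟨j, hj⟩ := Nat.not_even_iff_odd.1 fun e => hodd e.two_dvd
    have h6 : ∀ i : ℕ, n ^ (2 * i) • x = x := fun i => by
      induction i with
      | zero => simp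
      | succ i ih => rw [mul_add, pow_add, mul_smul, mul_one, sq, mul_smul, h5, h4, ih]
    have h7 := congrArg (fun s : Ind P L S => (s • (⟨x, hx⟩ : Fx S P)).1)
      (pow_orderOf_eq_one (ind P L S ⟨n, hn⟩))
    simp only [← map_pow, ind_smul_pt, one_smul, hj] at h7
    rw [Subgroup.coe_pow, pow_succ', mul_smul, h6, h5] at h7
    exact hxy h7.symm
  obtain ⟨s, hs⟩ := exists_prime_orderOf_dvd_card' (G := Ind P L S) 2
    (heven.trans (orderOf_dvd_natCard _))
  have hss : s ^ 2 = 1 := hs ▸ pow_orderOf_eq_one s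
  obtain ⟨a, b, hab, ha, hb⟩ := exists_two_fix (P := Fx S P) (L := Fx S L) (s := s)
    (by rw [← sq, hss])
  obtain ⟨t, rfl⟩ := ind_surjective P L S s
  have hab' : a.1 ≠ b.1 := fun e => hab (Fx.ext e)
  obtain ⟨g', h8, h9⟩ := h a.1 b.1 x y hab' hxy
  have h10 := isSylowIn_stabilizer_of_fix (a := (a.1, b.1)) hS
    (fun t ht => Prod.ext (a.2 t ht) (b.2 t ht)) (g := g') (Prod.ext h8 h9)
  have h11 := map_eq_one_of_sylow (ind P L S) ind_eq_one_of_mem h10 t
    (Prod.ext (congrArg Fx.val ha) (congrArg Fx.val hb)) hss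
  rw [h11, orderOf_one] at hs
  omega

theorem exists_normalizer_fix (h : TwoTrans G P) {E : Subgroup G} (hE : IsPGroup 2 E)
    (hp : Planar P L E) {x y : P} (hxy : x ≠ y) (hx : ∀ g ∈ E, g • x = x)
    (hy : ∀ g ∈ E, g • y = y) : ∃ g ∈ Subgroup.normalizer (E : Set G), g ∉ E ∧
      IsPGroup 2 ↥(E ⊔ Subgroup.zpowers g) ∧ g • x = x ∧ g • y = y := by
  obtain ⟨S, hS, hES⟩ := exists_isSylowIn_ge (H := stabilizer G (x, y)) hE
    fun g hg => Prod.ext (hx g hg) (hy g hg)
  have h1 : E < S := lt_of_le_of_ne hES fun e => not_planar_sylow (L := L) h hxy hS (e ▸ hp)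
  obtain ⟨g, ⟨hgS, hgN⟩, hgE⟩ := SetLike.exists_of_lt (lt_inf_normalizer_of_lt hS.isPGroup h1)
  exact ⟨g, hgN, hgE, hS.isPGroup.to_le (sup_le hES ((Subgroup.zpowers_le).2 hgS)),
    congrArg Prod.fst (hS.le hgS), congrArg Prod.snd (hS.le hgS)⟩

variable (G P L) in
/-- the order is a power of a prime dividing the order of an antiflag stabiliser -/
def PowDvd : Prop := ∃ p r : ℕ, p.Prime ∧ 𝐧 = p ^ r ∧
  ∃ (a : P) (l : L), a ∉ l ∧ p ∣ Nat.card (stabilizer G (a, l))

/-- planes of odd order -/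
theorem powDvd_of_odd (h : TwoTrans G P) (hodd : ¬ 2 ∣ 𝐧) : PowDvd G P L := by
  obtain ⟨E, ⟨hE, hp⟩, hmax⟩ := Set.exists_max_image
    {E : Subgroup G | IsPGroup 2 E ∧ Planar P L E} (fun E => Nat.card E) (Set.toFinite _)
    ⟨⊥, IsPGroup.of_bot, planar_bot⟩
  have hmax' : ∀ g : G, g ∉ E → IsPGroup 2 ↥(E ⊔ Subgroup.zpowers g) →
      ¬ Planar P L (E ⊔ Subgroup.zpowers g) := fun g hg h1 h2 => by
    have := Subgroup.eq_of_le_of_card_ge le_sup_left (hmax _ ⟨h1, h2⟩)
    exact hg (this ▸ (le_sup_right : _ ≤ E ⊔ Subgroup.zpowers g) (Subgroup.mem_zpowers g))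
  obtain ⟨j, hj⟩ := order_eq_pow_fixOrder (P := P) (L := L) E hE
  have hodd' : ¬ 2 ∣ fixOrder P L E := fun e => hodd (hj ▸ dvd_pow e (by positivity))
  have hinv : AllHom (Ind P L E) (Fx E P) (Fx E L) := by
    intro s hs hs1
    obtain ⟨g, rfl⟩ := ind_surjective P L E s
    obtain ⟨a, k, ⟨i, rfl⟩, hk⟩ := Nat.exists_eq_two_pow_mul_odd (orderOf_pos g).ne'
    have h1 : ind P L E (g ^ (2 * i + 1)) = ind P L E g := by
      rw [map_pow, pow_succ, pow_mul, sq, hs, one_pow, one_mul]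
    have h2 : ((g ^ (2 * i + 1) : Subgroup.normalizer (E : Set G)) : G) ^ 2 ^ a = 1 := by
      rw [← Subgroup.coe_pow, ← pow_mul, mul_comm, ← hk, pow_orderOf_eq_one, Subgroup.coe_one]
    have h3 := hmax' (g ^ (2 * i + 1) : Subgroup.normalizer (E : Set G))
      (fun e => hs1 (h1 ▸ ind_eq_one_of_mem _ e))
      (hE.to_sup_of_normal_left' (isPGroup_zpowers a h2)
        ((Subgroup.zpowers_le).2 (g ^ (2 * i + 1)).2))
    obtain ⟨c, l, hcl⟩ := exists_axis_of_not_planar (P := Fx E P) (L := Fx E L) hs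
      fun hp => h3 (planar_sup _ (h1.symm ▸ hp))
    exact ⟨c, l, fun hc => hodd' (even_of_elation hs hs1 hcl hc), hcl⟩
  have key : ∀ g : Subgroup.normalizer (E : Set G), (g : G) ∉ E →
      IsPGroup 2 ↥(E ⊔ Subgroup.zpowers (g : G)) →
      ∃ i, ind P L E (g ^ i) * ind P L E (g ^ i) = 1 ∧ ind P L E (g ^ i) ≠ 1 := by
    intro g hg h2
    have h1 : ind P L E g ≠ 1 := fun e => hmax' g hg h2 (planar_sup g (by
      rw [e, Subgroup.zpowers_one_eq_bot]; exact planar_bot))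
    obtain ⟨k, hk⟩ := h2 ⟨g, (le_sup_right : _ ≤ E ⊔ _) (Subgroup.mem_zpowers (g : G))⟩
    have hk'' : (g : G) ^ 2 ^ k = 1 := congrArg Subtype.val hk
    have hk' : g ^ 2 ^ k = 1 := Subtype.ext hk''
    obtain ⟨i, h3, h4⟩ := exists_pow_prime_order (p := 2) k h1 (by rw [← map_pow, hk', map_one])
    exact ⟨i, by rw [map_pow, ← sq, h4], by rwa [map_pow]⟩
  have hpow : ∀ {X : Type u} [MulAction G X] (g : G) (x : X), g • x = x → ∀ i : ℕ,
      g ^ i • x = x := fun g x hx i => pow_mem (show g ∈ stabilizer G x from hx) i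
  have hpow' : ∀ {X : Type v} [MulAction G X] (g : G) (x : X), g • x = x → ∀ i : ℕ,
      g ^ i • x = x := fun g x hx i => pow_mem (show g ∈ stabilizer G x from hx) i
  have hpp : PairFix (Ind P L E) (Fx E P) := fun x y hxy => by
    obtain ⟨g, hgN, hgE, h2, hx, hy⟩ := exists_normalizer_fix h hE hp
      (fun e => hxy (Fx.ext e)) x.2 y.2
    obtain ⟨i, h3, h4⟩ := key ⟨g, hgN⟩ hgE h2
    exact ⟨_, h3, h4, Fx.ext (hpow g _ hx i), Fx.ext (hpow g _ hy i)⟩
  have hll : PairFix (Ind P L E) (Fx E L) := fun x y hxy => by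
    obtain ⟨g, hgN, hgE, h2, hx, hy⟩ := exists_normalizer_fix (P := Dual L) (L := Dual P)
      (h.anti (L := L)).dual.two hE hp.dual (x := x.1) (y := y.1)
      (fun e => hxy (Fx.ext e)) x.2 y.2
    obtain ⟨i, h3, h4⟩ := key ⟨g, hgN⟩ hgE h2
    exact ⟨_, h3, h4, Fx.ext (hpow' (X := L) g _ hx i), Fx.ext (hpow' (X := L) g _ hy i)⟩
  obtain ⟨p, e, hpr, he, t, ht1, htp, a, l, hal, hta, htl⟩ := powAnti_of_pairs hinv hpp hll
  have := Fact.mk hpr
  obtain ⟨g, rfl⟩ := ind_surjective P L E t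
  refine ⟨p, e * 2 ^ j, hpr, by rw [hj, pow_mul, ← he], a.1, l.1, hal, ?_⟩
  have h1 : orderOf (ind P L E g) = p := orderOf_eq_prime htp ht1
  have h2 : (g : G) ∈ stabilizer G (a.1, l.1) :=
    Prod.ext (congrArg Fx.val hta) (congrArg Fx.val htl)
  refine (h1 ▸ orderOf_map_dvd _ g).trans ?_
  rw [← Subgroup.orderOf_coe, ← Subgroup.orderOf_mk _ h2]
  exact orderOf_dvd_natCard _

omit [ProjectivePlane P L] [Finite P] [Finite L] [Finite G] in
theorem orbit_stabilizer_line (h : AntiTrans G P L) {a : P} {l : L} (ha : a ∉ l) :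
    orbit (stabilizer G l) a = {p : P | p ∉ l} := by
  ext b
  constructor
  · rintro ⟨g, rfl⟩
    exact smul_not_mem_of_fix (g := (g : G)) g.2 ha
  · intro hb
    obtain ⟨g, h1, h2⟩ := h a b l l ha hb
    exact ⟨⟨g, h2⟩, h1⟩

/-- planes of even order -/
theorem exists_elation_of_even (h : TwoTrans G P) (hev : 2 ∣ 𝐧) :
    ∃ (c : P) (l : L), c ∈ l ∧ persp G c l ≠ ⊥ := by
  obtain ⟨p₁, p₂, p₃, l, l₂, l₃, -, -, ha, -⟩ := @ProjectivePlane.exists_config P L _ _
  obtain ⟨Q, hQ⟩ := exists_isSylowIn 2 (stabilizer G l)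
  have hn := two_le_order P L
  obtain ⟨k, m, hm, hkm⟩ := Nat.exists_eq_two_pow_mul_odd (n := 𝐧) (by omega)
  have hk : k ≠ 0 := by
    rintro rfl
    rw [hkm, pow_zero, one_mul] at hev
    exact (Nat.not_even_iff_odd.2 hm) (even_iff_two_dvd.2 hev)
  have horb : ∀ a : P, a ∉ l → 2 ^ (k + k) ∣ (orbit Q a).ncard := fun a ha => by
    refine pow_dvd_ncard_orbit hQ a ?_
    rw [orbit_stabilizer_line h.anti ha, ncard_aff, hkm, sq, pow_add]
    exact mul_dvd_mul (dvd_mul_right _ _) (dvd_mul_right _ _)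
  have hQ1 : Q ≠ ⊥ := fun e => by
    have h1 := (horb p₂ ha).trans (Dvd.intro _ (card_eq_ncard_orbit_mul Q p₂).symm)
    rw [e, Subgroup.card_bot, Nat.dvd_one, Nat.pow_eq_one] at h1
    omega
  obtain ⟨z, hz, hz1, hzz, hzc⟩ := exists_central hQ.isPGroup hQ1
  rw [sq] at hzz
  by_cases hp : Planar P L (Subgroup.zpowers z)
  · exfalso
    have h1 := order_eq_sq_of_planar (P := P) (L := L) hzz hz1
    have h2 := ncard_fix_aff (P := P) (Subgroup.zpowers z) (l := l)
      (forall_zpowers_fix.2 (hQ.le hz))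
    simp only [forall_zpowers_fix] at h2
    have h3 := dvd_ncard_of_orbits Q (2 ^ (k + k)) {p : P | p ∉ l ∧ z • p = p}
      (fun g hg x hx => ⟨smul_not_mem_of_fix (hQ.le hg) hx.1, by
        rw [← mul_smul, ← hzc g hg, mul_smul, hx.2]⟩) fun x hx => horb x hx.1
    rw [h2, ← h1, hkm, pow_add] at h3
    have h4 := Nat.dvd_of_mul_dvd_mul_left (pow_pos two_pos k) h3
    exact (Nat.not_even_iff_odd.2 hm) (even_iff_two_dvd.2 ((dvd_pow_self 2 hk).trans h4))
  · obtain ⟨c, l', hcl⟩ := exists_axis_of_not_planar hzz hp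
    refine ⟨c, l', ?_, Subgroup.ne_bot_iff_exists_ne_one.2 ⟨⟨z, hcl⟩, fun e => hz1
      (congrArg Subtype.val e)⟩⟩
    by_contra hc
    exact odd_of_homology hzz hz1 hcl hc hev

/-- the last step: planes of prime power order -/
theorem exists_elation_of_powDvd (h : AntiTrans G P L) (hpd : PowDvd G P L)
    (ih : ∀ (R : Subgroup G) [Planar P L R], R ≠ ⊥ → AntiTrans (Ind P L R) (Fx R P) (Fx R L) →
      PowAnti (Ind P L R) (Fx R P) (Fx R L)) :
    ∃ (c : P) (l : L), c ∈ l ∧ persp G c l ≠ ⊥ := by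
  obtain ⟨p, r, hpr, hr, a, l, hal, hdvd⟩ := hpd
  have := Fact.mk hpr
  obtain ⟨Q, hQ⟩ := exists_isSylowIn p (stabilizer G l)
  have hn := two_le_order P L
  have hr0 : r ≠ 0 := by
    rintro rfl
    rw [pow_zero] at hr
    omega
  have hnn : 𝐧 ^ 2 = p ^ (r + r) := by rw [hr, sq, pow_add]
  have horb : orbit Q a = {x : P | x ∉ l} := by
    have h1 : p ^ (r + r) ∣ (orbit Q a).ncard := by
      refine pow_dvd_ncard_orbit hQ a ?_
      rw [orbit_stabilizer_line h hal, ncard_aff, hnn]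
    refine Set.eq_of_subset_of_ncard_le ?_ ?_
    · rintro _ ⟨g, rfl⟩
      exact smul_not_mem_of_fix (g := (g : G)) (hQ.le g.2) hal
    · rw [ncard_aff, hnn]
      exact Nat.le_of_dvd ((Set.ncard_pos (Set.toFinite _)).2 ⟨a, mem_orbit_self a⟩) h1
  have htr : ∀ b : P, b ∉ l → ∃ g ∈ Q, g • a = b := fun b hb => by
    obtain ⟨g, hg⟩ : b ∈ orbit Q a := horb ▸ hb
    exact ⟨g, g.2, hg⟩
  have hst : stabilizer G l ⊓ stabilizer G a = stabilizer G (a, l) := by
    ext g
    simp only [Subgroup.mem_inf, mem_stabilizer_iff, Prod.smul_mk, Prod.mk.injEq, and_comm]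
  have hR : IsSylowIn p (Q ⊓ stabilizer G a) (stabilizer G (a, l)) := by
    refine isSylowIn_of_card (hst ▸ inf_le_inf_right _ hQ.le) ?_
    have h1 := card_eq_ncard_orbit_mul Q a
    have h2 := card_eq_ncard_orbit_mul (stabilizer G l) a
    rw [orbit_stabilizer_line h hal, hst, ncard_aff, hnn] at h2
    rw [horb, ncard_aff, hnn, hQ.card_eq, h2, Nat.factorization_mul (pow_pos hpr.pos _).ne'
      Nat.card_pos.ne', Finsupp.add_apply, hpr.factorization_pow, Finsupp.single_eq_same,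
      pow_add] at h1
    exact (Nat.eq_of_mul_eq_mul_left (pow_pos hpr.pos _) h1).symm
  have hR1 : Q ⊓ stabilizer G a ≠ ⊥ := fun e => by
    have h1 := hR.card_eq
    rw [e, Subgroup.card_bot, eq_comm, Nat.pow_eq_one] at h1
    have h2 := hpr.factorization_pos_of_dvd Nat.card_pos.ne' hdvd
    have h3 := hpr.one_lt
    omega
  obtain ⟨z, hz, hz1, -, hzc⟩ := exists_central hQ.isPGroup
    fun e => hR1 (by rw [e, bot_inf_eq])
  have hzl : z • l = l := hQ.le hz
  have hfree : ∀ b : P, b ∉ l → z • b ≠ b := fun b hb e => hz1 (eq_one_of_fix_aff l fun x hx => by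
    obtain ⟨g₁, hg₁, rfl⟩ := htr b hb
    obtain ⟨g₂, hg₂, rfl⟩ := htr x hx
    rw [← mul_smul, ← hzc g₁ hg₁, mul_smul] at e
    rw [← mul_smul, ← hzc g₂ hg₂, mul_smul, MulAction.injective g₁ e])
  by_cases hm : ∃ m : L, m ≠ l ∧ z • m = m
  · obtain ⟨m, hml, hzm⟩ := hm
    obtain ⟨d, hdm, hdl⟩ := exists_meet (P := P) m l
    obtain ⟨b, hbm, hbd, -⟩ := exists_mem_ne_ne m d d
    have hbl : b ∉ l := fun h' => hbd (pu hml hbm h' hdm hdl)
    have hc : z ∈ centre G L d := fun k hk => by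
      by_cases hkl : k = l
      · exact hkl ▸ hzl
      obtain ⟨x, hxk, hxd, -⟩ := exists_mem_ne_ne k d d
      have hxl : x ∉ l := fun h' => hxd (pu hkl hxk h' hk hdl)
      obtain ⟨g₁, hg₁, h1⟩ := htr b hbl
      obtain ⟨g₂, hg₂, h2⟩ := htr x hxl
      have hg : g₂ * g₁⁻¹ ∈ Q := mul_mem hg₂ (inv_mem hg₁)
      have h3 : (g₂ * g₁⁻¹) • b = x := by rw [mul_smul, ← h1, inv_smul_smul, h2]
      generalize g₂ * g₁⁻¹ = g at hg h3
      have h4 : z • g • m = g • m := by rw [← mul_smul, ← hzc g hg, mul_smul, hzm]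
      have h5 : d ∈ g • m := by
        by_contra h5
        obtain ⟨y, hy1, hy2⟩ := exists_meet (P := P) m (g • m)
        have h6 : m ≠ g • m := fun e => h5 (e ▸ hdm)
        exact hfree y (fun h' => h5 (pu hml hy1 h' hdm hdl ▸ hy2)) (fix_point h6 hy1 hy2 hzm h4)
      rw [lu hxd hxk hk (h3 ▸ smul_mem g hbm) h5]
      exact h4
    obtain ⟨k, hk⟩ := exists_axis hc
    refine ⟨d, k, ?_, Subgroup.ne_bot_iff_exists_ne_one.2 ⟨⟨z, hc, hk⟩, fun e => hz1
      (congrArg Subtype.val e)⟩⟩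
    by_contra hdk
    have hkl : k ≠ l := fun e => hdk (e ▸ hdl)
    obtain ⟨y, hyk, hyl⟩ := exists_meet (P := P) k l
    obtain ⟨x, hxk, hxy, -⟩ := exists_mem_ne_ne k y y
    exact hfree x (fun h' => hxy (pu hkl hxk h' hyk hyl)) (hk x hxk)
  exfalso
  push Not at hm
  generalize hRdef : Q ⊓ stabilizer G a = R at hR hR1
  have hRQ : R ≤ Q := hRdef ▸ inf_le_left
  have hRa : ∀ g ∈ R, g • a = a := fun g hg => congrArg Prod.fst (hR.le hg)
  have hRl : ∀ g ∈ R, g • l = l := fun g hg => congrArg Prod.snd (hR.le hg)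
  have hRz : ∀ x : P, (∀ g ∈ R, g • x = x) → ∀ g ∈ R, g • z • x = z • x := fun x hx g hg => by
    rw [← mul_smul, hzc g (hRQ hg), mul_smul, hx g hg]
  have hp : Planar P L R := by
    have ha1 := hfree a hal
    have hzal : z • a ∉ l := smul_not_mem_of_fix hzl hal
    have ha2 := hfree _ hzal
    obtain ⟨m, ham, hzam⟩ := exists_join L a (z • a)
    have hml : m ≠ l := fun e => hal (e ▸ ham)
    have hzm := hm m hml
    have hRm : ∀ g ∈ R, g • m = m := fun g hg =>
      fix_line ha1.symm ham hzam (hRa g hg) (hRz a hRa g hg)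
    obtain ⟨d, hdm, hdl⟩ := exists_meet (P := P) m l
    have hRd : ∀ g ∈ R, g • d = d := fun g hg => fix_point hml hdm hdl (hRm g hg) (hRl g hg)
    have hzdl : z • d ∈ l := smul_mem_of_fix hzl hdl
    have hzd : z • d ∉ m := fun h' => hzm (smul_line_eq (fun e : a = d => hal (e ▸ hdl)) ham hdm
      hzam h')
    have hzza : z • z • a ∉ m := fun h' => hzm (smul_line_eq ha1.symm ham hzam hzam h')
    have hzzal : z • z • a ∉ l := smul_not_mem_of_fix hzl hzal
    have haz : a ≠ z • z • a := fun e => hzza (e ▸ ham)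
    obtain ⟨k, hak, hzk⟩ := exists_join L a (z • z • a)
    have hRk : ∀ g ∈ R, g • k = k := fun g hg =>
      fix_line haz hak hzk (hRa g hg) (hRz _ (hRz a hRa) g hg)
    refine ⟨z • z • a, d, z • d, k, l, m, ⟨hRz _ (hRz a hRa), hRd, hRz d hRd⟩, ⟨hRk, hRl, hRm⟩,
      hzzal, hzza, fun h' => ?_, hdl, hdm, fun h' => ?_, hzdl, hzd⟩
    · exact hzza (lu (fun e : a = d => hal (e ▸ hdl)) hak h' ham hdm ▸ hzk)
    · have h1 : k = z • m := lu (fun e : z • z • a = z • d => hzzal (e ▸ hzdl)) hzk h'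
        (smul_mem z hzam) (smul_mem z hdm)
      exact ha1 (pu hzm (smul_mem z ham) hzam (h1 ▸ hak) ham)
  have hanti : AntiTrans (Ind P L R) (Fx R P) (Fx R L) := by
    have key : ∀ (b : Fx R P) (m : Fx R L), b ∉ m → ∃ n ∈ Subgroup.normalizer (R : Set G),
        n • (b.1, m.1) = (a, l) := fun b m hb => by
      obtain ⟨g, h1, h2⟩ := h b.1 a m.1 l hb hal
      exact exists_normalizer_smul hR (fun t ht => Prod.ext (b.2 t ht) (m.2 t ht)) (g := g)
        (Prod.ext h1 h2)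
    intro b c m k hb hc
    obtain ⟨n₁, hn₁, h1⟩ := key b m hb
    obtain ⟨n₂, hn₂, h2⟩ := key c k hc
    have h3 : (n₂⁻¹ * n₁) • (b.1, m.1) = (c.1, k.1) := by rw [mul_smul, h1, ← h2, inv_smul_smul]
    exact ⟨ind P L R ⟨n₂⁻¹ * n₁, mul_mem (inv_mem hn₂) hn₁⟩, Fx.ext (congrArg Prod.fst h3),
      Fx.ext (congrArg Prod.snd h3)⟩
  obtain ⟨q, e, hq, he, t, ht1, htq, b, m, hbm, htb, htm⟩ := ih R hR1 hanti
  have hpq : p = q := by
    have h1 := ncard_modEq_fixed hR.isPGroup {x : P | x ∈ l}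
      fun g hg x hx => smul_mem_of_fix (l := l) (hRl g hg) hx
    have h2 := ncard_fix_line (P := P) R hRl
    simp only [Set.mem_ofPred_eq] at h1
    rw [h2, ncard_pts] at h1
    have h3 := (Nat.ModEq.add_right_cancel' 1 h1).dvd_iff (dvd_refl p)
    rw [fixOrder, he, hr] at h3
    exact (Nat.prime_dvd_prime_iff_eq hpr hq).1
      (hpr.dvd_of_dvd_pow (h3.1 (dvd_pow_self p hr0)))
  subst hpq
  obtain ⟨g, rfl⟩ := ind_surjective P L R t
  obtain ⟨g', h1, h2⟩ := h b.1 a m.1 l hbm hal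
  have h3 := isSylowIn_stabilizer_of_fix (a := (b.1, m.1)) hR
    (fun t ht => Prod.ext (b.2 t ht) (m.2 t ht)) (g := g') (Prod.ext h1 h2)
  exact ht1 (map_eq_one_of_sylow (ind P L R) ind_eq_one_of_mem h3 g
    (Prod.ext (congrArg Fx.val htb) (congrArg Fx.val htm)) htq)

theorem exists_elation_aux (N : ℕ) : ∀ (P : Type u) (L : Type v) (G : Type (max u v)) [Group G]
    [Membership P L] [MulAction G P] [MulAction G L] [CG G P L] [ProjectivePlane P L] [Finite P]
    [Finite L] [Finite G], Nat.card P ≤ N → TwoTrans G P →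
    ∃ (c : P) (l : L), c ∈ l ∧ persp G c l ≠ ⊥ := by
  induction N with
  | zero =>
    intro P L G _ _ _ _ _ _ _ _ _ hN
    rw [card_pts P L] at hN
    omega
  | succ N ih =>
    intro P L G _ _ _ _ _ _ _ _ _ hN h
    by_cases hev : 2 ∣ ProjectivePlane.order P L
    · exact exists_elation_of_even h hev
    refine exists_elation_of_powDvd h.anti (powDvd_of_odd h hev) fun R _ hR hanti => ?_
    obtain ⟨⟨g, hg⟩, hg1⟩ := Subgroup.ne_bot_iff_exists_ne_one.1 hR
    obtain ⟨x, hx⟩ := exists_move (P := P) (L := L) (s := g) fun e => hg1 (Subtype.ext e)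
    have hlt : Nat.card (Fx R P) < Nat.card P := by
      have := Fintype.ofFinite P
      have := Fintype.ofFinite (Fx R P)
      rw [Nat.card_eq_fintype_card, Nat.card_eq_fintype_card]
      exact Fintype.card_lt_of_injective_of_notMem _ (Fx.val_injective R P) (b := x)
        (by rintro ⟨y, rfl⟩; exact hx (y.2 g hg))
    obtain ⟨c, l, hc, hn⟩ := ih (Fx R P) (Fx R L) (Ind P L R) (by omega) hanti.two
    exact powAnti_of_elation hanti.two hc hn

/-- **Ostrom–Wagner**, first part: a plane with a 2-transitive collineation group has all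
elations. -/
theorem isMoufang_of_twoTrans {G : Type (max u v)} [Group G] [MulAction G P] [MulAction G L]
    [CG G P L] [Finite G] (h : TwoTrans G P) : IsMoufang G P L := by
  obtain ⟨c, l, hc, hn⟩ := exists_elation_aux _ P L G le_rfl h
  exact isMoufang_of_flag h.flag hc hn

end Cfsg.Lib.Perm.Plane
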