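import Cfsg.Agent.Perm.PlaneSub

/-!
# Transitivity properties of collineation groups; polarities; groups generated by homologies
-/

set_option autoImplicit false

namespace Cfsg.Lib.Perm.Plane

open Configuration MulAction

universe u v w

section Count

variable {P : Type u} {L : Type v} [Membership P L] [ProjectivePlane P L] [Finite P] [Finite L]

local notation "𝐧" => ProjectivePlane.order P L

open Classical in
theorem sum_card_inter [Fintype L] (O : Finset P) (p : P) :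
    ∑ m ∈ Finset.univ.filter (fun m : L => p ∈ m), (O.filter (· ∈ m)).card =
      (if p ∈ O then 𝐧 else 0) + O.card := by
  have h := Finset.sum_card_bipartiteAbove_eq_sum_card_bipartiteBelow
    (s := Finset.univ.filter (fun m : L => p ∈ m)) (t := O) (fun (m : L) (q : P) => q ∈ m)
  simp only [Finset.bipartiteAbove, Finset.bipartiteBelow] at h
  rw [h]
  have h1 : ∀ q ∈ O, ((Finset.univ.filter (fun m : L => p ∈ m)).filter (fun m => q ∈ m)).card =
      (if p = q then 𝐧 else 0) + 1 := fun q _ => by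
    split_ifs with hpq
    · subst hpq
      rw [← ncard_lns L p, ← Set.ncard_coe_finset]
      congr 1
      ext m; simp
    · obtain ⟨m, hpm, hqm⟩ := exists_join L p q
      rw [zero_add, Finset.card_eq_one]
      refine ⟨m, ?_⟩
      ext k
      simp only [Finset.mem_filter, Finset.mem_univ, true_and, Finset.mem_singleton]
      exact ⟨fun h => lu hpq h.1 h.2 hpm hqm, fun h => h ▸ ⟨hpm, hqm⟩⟩
  rw [Finset.sum_congr rfl h1, Finset.sum_add_distrib, Finset.sum_ite_eq]
  simp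

theorem mem_of_cnt (O : Set P) {p p' : P} {k : L} (hp : p ∈ k) (hp' : p' ∈ k) (c : ℕ)
    (h : ∀ m : L, m ≠ k → (p ∈ m ∨ p' ∈ m) → {q | q ∈ O ∧ q ∈ m}.ncard = c) (hO : p ∈ O) :
    p' ∈ O := by
  classical
  have := Fintype.ofFinite L
  let O' := (Set.toFinite O).toFinset
  have key : ∀ x : P, x ∈ k → (∀ m : L, m ≠ k → x ∈ m → {q | q ∈ O ∧ q ∈ m}.ncard = c) →
      (O'.filter (· ∈ k)).card + 𝐧 * c = (if x ∈ O' then 𝐧 else 0) + O'.card := by
    intro x hx H
    have h1 := sum_card_inter (L := L) O' x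
    rw [← Finset.add_sum_erase _ _ (a := k) (by simpa using hx)] at h1
    have h2 : ∀ m ∈ (Finset.univ.filter (fun m : L => x ∈ m)).erase k,
        (O'.filter (· ∈ m)).card = c := fun m hm => by
      simp only [Finset.mem_erase, Finset.mem_filter, Finset.mem_univ, true_and] at hm
      rw [← H m hm.1 hm.2, ← Set.ncard_coe_finset]
      congr 1
      ext q; simp [O']
    have h3 : ((Finset.univ.filter (fun m : L => x ∈ m)).erase k).card = 𝐧 := by
      rw [← ncard_lns_ne hx, ← Set.ncard_coe_finset]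
      congr 1
      ext q; simp [and_comm]
    convert h1 using 2
    convert (Finset.sum_congr rfl h2).symm using 1
    rw [Finset.sum_const, h3, smul_eq_mul]
  have h1 := key p hp fun m hm hpm => h m hm (Or.inl hpm)
  have h2 := key p' hp' fun m hm hpm => h m hm (Or.inr hpm)
  have h3 := two_le_order P L
  by_contra hn
  rw [if_pos (by simpa [O'] using hO)] at h1
  rw [if_neg (by simpa [O'] using hn)] at h2
  omega

/-- **Baer**: a polarity of a finite projective plane has an absolute point -/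
theorem exists_absolute (π : P → L) (hinj : Function.Injective π)
    (hsym : ∀ x y : P, x ∈ π y → y ∈ π x) : ∃ x : P, x ∈ π x := by
  classical
  by_contra! habs
  have := Fintype.ofFinite P
  obtain ⟨p, hp, hpn⟩ := Nat.exists_prime_and_dvd (n := 𝐧) (by have := two_le_order P L; omega)
  have := Fact.mk hp
  have hn : ((𝐧 : ℕ) : ZMod p) = 0 := (ZMod.natCast_eq_zero_iff _ _).2 hpn
  let A : Matrix P P (ZMod p) := Matrix.of fun x y => if y ∈ π x then 1 else 0
  let J : Matrix P P (ZMod p) := Matrix.of fun _ _ => 1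
  have hrow : ∀ x : P, (Finset.univ.filter fun z : P => z ∈ π x).card = 𝐧 + 1 := fun x => by
    rw [← ncard_pts (P := P) (π x), ← Set.ncard_coe_finset]
    congr 1
    ext m; simp
  have hAA : A * A = J := by
    ext x y
    simp only [A, J, Matrix.mul_apply, Matrix.of_apply, ite_mul, one_mul, zero_mul, ← ite_and,
      Finset.sum_boole]
    by_cases hxy : x = y
    · subst hxy
      have : (Finset.univ.filter fun z : P => z ∈ π x ∧ x ∈ π z) =
          Finset.univ.filter fun z : P => z ∈ π x := by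
        ext z
        simp only [Finset.mem_filter, Finset.mem_univ, true_and, and_iff_left_iff_imp]
        exact hsym z x
      rw [this, hrow, Nat.cast_add, hn]
      simp
    · obtain ⟨z, h1, h2⟩ := exists_meet (P := P) (π x) (π y)
      have : (Finset.univ.filter fun z : P => z ∈ π x ∧ y ∈ π z) = {z} := by
        ext w
        simp only [Finset.mem_filter, Finset.mem_univ, true_and, Finset.mem_singleton]
        exact ⟨fun h => pu (fun e => hxy (hinj e)) h.1 (hsym _ _ h.2) h1 h2,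
          fun h => h ▸ ⟨h1, hsym _ _ h2⟩⟩
      rw [this]
      simp
  have hAJ : A * J = J := by
    ext x y
    simp only [A, J, Matrix.mul_apply, Matrix.of_apply, mul_one, Finset.sum_boole]
    rw [hrow, Nat.cast_add, hn]
    simp
  have hpow : ∀ k, A ^ (k + 2) = J := fun k => by
    induction k with
    | zero => rw [zero_add, sq, hAA]
    | succ k ih => rw [show k + 1 + 2 = (k + 2) + 1 by ring, pow_succ', ih, hAJ]
  have h1 := ZMod.trace_pow_card A
  have h2 : A.trace = 0 := by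
    simp [A, Matrix.trace, habs]
  have h3 : J.trace = 1 := by
    have := card_pts P L
    rw [Nat.card_eq_fintype_card] at this
    simp [J, Matrix.trace, this, hn]
  obtain ⟨k, rfl⟩ : ∃ k, p = k + 2 := ⟨p - 2, by have := hp.two_le; omega⟩
  rw [hpow, h2, h3, zero_pow (by omega)] at h1
  exact one_ne_zero h1

end Count

variable {G : Type w} {P : Type u} {L : Type v} [Group G] [Membership P L] [MulAction G P]
  [MulAction G L] [hG : CG G P L] [ProjectivePlane P L] [Finite P] [Finite L]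

local notation "𝐧" => ProjectivePlane.order P L

variable (G P) in
/-- 2-transitivity -/
def TwoTrans : Prop :=
  ∀ p₁ p₂ q₁ q₂ : P, p₁ ≠ p₂ → q₁ ≠ q₂ → ∃ g : G, g • p₁ = q₁ ∧ g • p₂ = q₂

variable (G P L) in
/-- transitivity on antiflags -/
def AntiTrans : Prop :=
  ∀ (a b : P) (l m : L), a ∉ l → b ∉ m → ∃ g : G, g • a = b ∧ g • l = m

omit hG [ProjectivePlane P L] [Finite P] [Finite L] in
theorem AntiTrans.dual (h : AntiTrans G P L) : AntiTrans G (Dual L) (Dual P) :=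
  fun l m a b h1 h2 => by
    obtain ⟨g, h3, h4⟩ := h a b l m h1 h2
    exact ⟨g, h4, h3⟩

omit [ProjectivePlane P L] [Finite P] [Finite L] in
theorem cnt_smul (x y : P) {g : G} (hg : g • x = x) (m : L) :
    {q | q ∈ orbit (stabilizer G x) y ∧ q ∈ g • m}.ncard =
      {q | q ∈ orbit (stabilizer G x) y ∧ q ∈ m}.ncard := by
  rw [← Set.ncard_image_of_injective {q | q ∈ orbit (stabilizer G x) y ∧ q ∈ m}
    (MulAction.injective g)]
  congr 1
  ext q
  constructor
  · rintro ⟨⟨h, rfl⟩, h2⟩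
    refine ⟨g⁻¹ • h • y, ⟨⟨(⟨g, hg⟩ : stabilizer G x)⁻¹ * h, mul_smul g⁻¹ (h : G) y⟩,
      (mem_smul_iff _ _ _).1 h2⟩, smul_inv_smul _ _⟩
  · rintro ⟨_, ⟨⟨h, rfl⟩, h2⟩, rfl⟩
    exact ⟨⟨(⟨g, hg⟩ : stabilizer G x) * h, mul_smul g (h : G) y⟩, smul_mem g h2⟩

omit [ProjectivePlane P L] [Finite P] [Finite L] in
theorem cnt_smul' (x : P) (l : L) {g : G} (hg : g • x = x) (p : P) :
    {m | m ∈ orbit (stabilizer G x) l ∧ g • p ∈ m}.ncard =
      {m | m ∈ orbit (stabilizer G x) l ∧ p ∈ m}.ncard := by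
  rw [← Set.ncard_image_of_injective {m | m ∈ orbit (stabilizer G x) l ∧ p ∈ m}
    (MulAction.injective g)]
  congr 1
  ext q
  constructor
  · rintro ⟨⟨h, rfl⟩, h2⟩
    refine ⟨g⁻¹ • h • l, ⟨⟨(⟨g, hg⟩ : stabilizer G x)⁻¹ * h, mul_smul g⁻¹ (h : G) l⟩,
      (mem_smul_iff _ _ _).2 (by rw [inv_inv]; exact h2)⟩, smul_inv_smul _ _⟩
  · rintro ⟨_, ⟨⟨h, rfl⟩, h2⟩, rfl⟩
    exact ⟨⟨(⟨g, hg⟩ : stabilizer G x) * h, mul_smul g (h : G) l⟩, smul_mem g h2⟩

theorem TwoTrans.flag (h : TwoTrans G P) (c d : P) (l m : L) (hc : c ∈ l) (hd : d ∈ m) :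
    ∃ g : G, g • c = d ∧ g • l = m := by
  obtain ⟨c', hc', hcc, -⟩ := exists_mem_ne_ne l c c
  obtain ⟨d', hd', hdd, -⟩ := exists_mem_ne_ne m d d
  obtain ⟨g, h1, h2⟩ := h c c' d d' hcc.symm hdd.symm
  exact ⟨g, h1, smul_line_eq hcc.symm hc hc' (h1 ▸ hd) (h2 ▸ hd')⟩

theorem TwoTrans.anti (h : TwoTrans G P) : AntiTrans G P L := by
  have key : ∀ (x : P) (l m : L), x ∉ l → x ∉ m → m ∈ orbit (stabilizer G x) l := by
    intro x l m hl hm
    obtain ⟨z, hzl, hzm⟩ := exists_meet (P := P) l m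
    have hzx : z ≠ x := fun e => hl (e ▸ hzl)
    refine mem_of_cnt (P := Dual L) (L := Dual P) (orbit (stabilizer G x) l) (k := z) hzl hzm
      {m | m ∈ orbit (stabilizer G x) l ∧ z ∈ m}.ncard ?_ (mem_orbit_self l)
    intro p _ hp
    have hpx : (p : P) ≠ x := fun e => hp.elim (fun h => hl (e ▸ h)) (fun h => hm (e ▸ h))
    obtain ⟨g, h1, h2⟩ := h x z x p hzx.symm hpx.symm
    have := cnt_smul' x l h1 z
    rw [h2] at this
    exact this
  intro a b l m hl hm
  obtain ⟨x, hx, -⟩ := exists_meet (P := P) l l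
  obtain ⟨y, hy, -⟩ := exists_meet (P := P) m m
  obtain ⟨g, h1, -⟩ := h a x b y (fun e => hl (e ▸ hx)) (fun e => hm (e ▸ hy))
  obtain ⟨k, hk⟩ := key b (g • l) m (h1 ▸ smul_not_mem g hl) hm
  exact ⟨k * g, by rw [mul_smul, h1]; exact k.2, by rw [mul_smul]; exact hk⟩

theorem AntiTrans.two (h : AntiTrans G P L) : TwoTrans G P := by
  have key : ∀ (x y y' : P) (k : L), x ∈ k → y ∈ k → y' ∈ k → y ≠ x → y' ≠ x →
      ∃ g : G, g • x = x ∧ g • y = y' := by
    intro x y y' k hx hy hy' hyx hy'x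
    obtain ⟨m₀, hm₀⟩ := exists_line_not_mem L x
    have := mem_of_cnt (orbit (stabilizer G x) y) hy hy'
      {q | q ∈ orbit (stabilizer G x) y ∧ q ∈ m₀}.ncard ?_ (mem_orbit_self y)
    · obtain ⟨g, hg⟩ := this
      exact ⟨g, g.2, hg⟩
    intro m hmk hm
    have hxm : x ∉ m := fun h' => hm.elim (fun h'' => hmk (lu hyx h'' h' hy hx))
      (fun h'' => hmk (lu hy'x h'' h' hy' hx))
    obtain ⟨g, h1, h2⟩ := h x x m₀ m hm₀ hxm
    rw [← h2, cnt_smul x y h1]
  intro p₁ p₂ q₁ q₂ hp hq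
  obtain ⟨l, h1, h2⟩ := exists_join L p₁ p₂
  obtain ⟨m, h3, h4⟩ := exists_join L q₁ q₂
  obtain ⟨a, ha⟩ := exists_not_mem (P := P) l
  obtain ⟨b, hb⟩ := exists_not_mem (P := P) m
  obtain ⟨g₁, -, hg₁⟩ := h a b l m ha hb
  obtain ⟨z, hz, hz1, hz2⟩ := exists_mem_ne_ne m (g₁ • p₁) q₁
  have h5 : g₁ • p₁ ∈ m := hg₁ ▸ smul_mem g₁ h1
  have h6 : g₁ • p₂ ∈ m := hg₁ ▸ smul_mem g₁ h2
  obtain ⟨g₂, h7, h8⟩ := key z (g₁ • p₁) q₁ m hz h5 h3 hz1.symm hz2.symm
  have h9 : g₂ • m = m := smul_line_eq hz1 hz h5 (h7.symm ▸ hz) (h8.symm ▸ h3)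
  obtain ⟨g₃, h10, h11⟩ := key q₁ (g₂ • g₁ • p₂) q₂ m h3 (smul_mem_of_fix h9 h6) h4
    (fun e => hp (MulAction.injective g₁ (MulAction.injective g₂ (h8.trans e.symm)))) hq.symm
  exact ⟨g₃ * g₂ * g₁, by rw [mul_smul, mul_smul, h8, h10], by rw [mul_smul, mul_smul, h11]⟩

omit hG [ProjectivePlane P L] [Finite P] [Finite L] in
theorem persp_dual (c : P) (l : L) :
    persp G (P := Dual L) (L := Dual P) l c = persp G c l := inf_comm _ _

omit hG [ProjectivePlane P L] [Finite P] [Finite L] in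
theorem persp_to_dual {g : G} {c : P} {l : L} (h : g ∈ persp G c l) :
    g ∈ persp G (P := Dual L) (L := Dual P) l c := ⟨h.2, h.1⟩

omit hG [ProjectivePlane P L] [Finite P] [Finite L] in
theorem persp_of_dual {g : G} {c : P} {l : L} (h : g ∈ persp G (P := Dual L) (L := Dual P) l c) :
    g ∈ persp G c l := ⟨h.2, h.1⟩

omit hG [ProjectivePlane P L] [Finite P] [Finite L] in
theorem ne_bot_dual {c : P} {l : L} (h : persp G c l ≠ ⊥) :
    persp G (P := Dual L) (L := Dual P) l c ≠ ⊥ := fun e => h ((persp_dual c l).symm.trans e)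

omit [ProjectivePlane P L] [Finite P] [Finite L] in
theorem conj_mem_persp {g : G} {c : P} {l : L} (hg : g ∈ persp G c l) (x : G) :
    x * g * x⁻¹ ∈ persp G (x • c) (x • l) := ⟨conj_mem_centre hg.1 x, conj_mem_axis hg.2 x⟩

/-- two involutory homologies with the same axis and different centres give an elation -/
theorem elation_of_homologies {s t : G} {c d : P} {l : L} (hs : s * s = 1) (hs1 : s ≠ 1)
    (ht : t * t = 1) (ht1 : t ≠ 1) (hsc : s ∈ persp G c l) (htd : t ∈ persp G d l) (hcd : c ≠ d)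
    (hc : c ∉ l) :
    ∃ e : P, e ∈ l ∧ persp G e l ≠ ⊥ ∧ ∀ k : L, c ∈ k → d ∈ k → e ∈ k := by
  have ha : s * t ∈ axis G l := mul_mem hsc.2 htd.2
  obtain ⟨e, he⟩ := exists_centre (P := P) ha
  have hst : s * t ≠ 1 := fun h => hs1 (eq_one_of_two_centres hcd hsc.1
    (eq_inv_of_mul_eq_one_left h ▸ inv_mem htd.1))
  have hsi : s⁻¹ = s := inv_eq_of_mul_eq_one_left hs
  have hti : t⁻¹ = t := inv_eq_of_mul_eq_one_left ht
  have hel : e ∈ l := by
    by_contra hel
    have h1 := conj_mem_centre he s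
    have h2 := conj_mem_centre he t
    have e1 : s * (s * t) * s⁻¹ = (s * t)⁻¹ := by
      rw [← mul_assoc, hs, one_mul, mul_inv_rev, hti]
    have e2 : t * (s * t) * t⁻¹ = (s * t)⁻¹ := by
      rw [mul_assoc, mul_inv_cancel_right, mul_inv_rev, hti, hsi]
    rw [e1] at h1
    rw [e2] at h2
    have h3 := centre_unique (inv_ne_one.2 hst) h1 (inv_mem he)
    have h4 := centre_unique (inv_ne_one.2 hst) h2 (inv_mem he)
    exact hcd (((fix_point_cases hs1 hsc.1 hsc.2 h3).resolve_right hel).symm.trans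
      ((fix_point_cases ht1 htd.1 htd.2 h4).resolve_right hel))
  refine ⟨e, hel, Subgroup.ne_bot_iff_exists_ne_one.2 ⟨⟨s * t, he, ha⟩, fun h => hst
    (congrArg Subtype.val h)⟩, fun k hck hdk => ?_⟩
  refine (fix_line_cases hst he ha (m := k) ?_).resolve_left fun e => hc (e ▸ hck)
  rw [mul_smul, htd.1 k hdk, hsc.1 k hck]

variable (G P L) in
/-- all involutions are homologies -/
def AllHom : Prop := ∀ s : G, s * s = 1 → s ≠ 1 → ∃ (c : P) (l : L), c ∉ l ∧ s ∈ persp G c l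

omit hG [ProjectivePlane P L] [Finite P] [Finite L] in
theorem AllHom.dual (h : AllHom G P L) : AllHom G (Dual L) (Dual P) := fun s h1 h2 => by
  obtain ⟨c, l, h3, h4⟩ := h s h1 h2
  exact ⟨l, c, h3, persp_to_dual h4⟩

variable (G P) in
/-- any two points are fixed by an involution -/
def PairFix : Prop := ∀ x y : P, x ≠ y → ∃ s : G, s * s = 1 ∧ s ≠ 1 ∧ s • x = x ∧ s • y = y

variable (G P L) in
/-- every line is the axis of an involutory homology -/
def AllAxes : Prop := ∀ l : L, ∃ (s : G) (c : P), s * s = 1 ∧ s ≠ 1 ∧ c ∉ l ∧ s ∈ persp G c l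

variable (G P L) in
/-- every point is the centre of an involutory homology -/
def AllCentres : Prop := ∀ c : P, ∃ (s : G) (l : L), s * s = 1 ∧ s ≠ 1 ∧ c ∉ l ∧ s ∈ persp G c l

omit hG [ProjectivePlane P L] [Finite P] [Finite L] in
theorem AllAxes.dual (h : AllAxes G P L) : AllCentres G (Dual L) (Dual P) := fun l => by
  obtain ⟨s, c, h1, h2, h3, h4⟩ := h l
  exact ⟨s, c, h1, h2, h3, persp_to_dual (P := P) (L := L) h4⟩

omit hG [ProjectivePlane P L] [Finite P] [Finite L] in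
theorem AllAxes.of_dual (h : AllAxes G (Dual L) (Dual P)) : AllCentres G P L := fun c => by
  obtain ⟨s, l, h1, h2, h3, h4⟩ := h c
  exact ⟨s, l, h1, h2, h3, persp_of_dual (P := P) (L := L) h4⟩

theorem conj_invol {s : G} (hs : s * s = 1) (hs1 : s ≠ 1) (x : G) :
    x * s * x⁻¹ * (x * s * x⁻¹) = 1 ∧ x * s * x⁻¹ ≠ 1 :=
  ⟨by rw [conj_mul, hs, mul_one, mul_inv_cancel], fun h => hs1 (conj_eq_one_iff.1 h)⟩

theorem allAxes (hinv : AllHom G P L) (hpp : PairFix G P) : AllAxes G P L := by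
  intro l
  by_contra! H
  have key : ∀ x y : P, x ∈ l → y ∈ l → x ≠ y → ∀ s : G, s * s = 1 → s ≠ 1 → s • x = x →
      s • y = y → s ∈ centre G L x ∨ s ∈ centre G L y := by
    intro x y hx hy hxy s h1 h2 h3 h4
    obtain ⟨c, k, hck, hs⟩ := hinv s h1 h2
    rcases fix_point_cases h2 hs.1 hs.2 h3 with rfl | h5
    · exact Or.inl hs.1
    rcases fix_point_cases h2 hs.1 hs.2 h4 with rfl | h6
    · exact Or.inr hs.1
    obtain rfl := lu hxy h5 h6 hx hy
    exact absurd hs (H s c h1 h2 hck)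
  have key2 : ∀ x y : P, x ∈ l → y ∈ l → x ≠ y → ∀ s t : G, s * s = 1 → s ≠ 1 → t * t = 1 →
      t ≠ 1 → s ∈ centre G L x → s • y = y → t ∈ centre G L y → t • x = x → False := by
    intro x y hx hy hxy s t hs hs1 ht ht1 h1 h2 h3 h4
    have hc := commute_of_centres hxy h1 h3 h2 h4
    have hst : s * t ≠ 1 := fun h => hs1 (eq_one_of_two_centres hxy h1
      (eq_inv_of_mul_eq_one_left h ▸ inv_mem h3))
    rcases key x y hx hy hxy (s * t) (by
        rw [mul_assoc, ← mul_assoc t, ← hc, mul_assoc, ht, mul_one, hs]) hst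
      (by rw [mul_smul, h4, centre_fix h1]) (by rw [mul_smul, centre_fix h3, h2]) with h | h
    · have := mul_mem (inv_mem h1) h
      rw [inv_mul_cancel_left] at this
      exact ht1 (eq_one_of_two_centres hxy this h3)
    · have := mul_mem h (inv_mem h3)
      rw [mul_inv_cancel_right] at this
      exact hs1 (eq_one_of_two_centres hxy h1 this)
  have key3 : ∀ (x : P) (s : G), x ∈ l → s * s = 1 → s ≠ 1 → s ∈ centre G L x → False := by
    intro x s hx hs hs1 hsx
    obtain ⟨c, k, hck, hsk⟩ := hinv s hs hs1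
    obtain rfl := centre_unique hs1 hsx hsk.1
    obtain ⟨y, hyl, hyk⟩ := exists_meet (P := P) l k
    obtain ⟨w, hw, hwx, hwy⟩ := exists_mem_ne_ne l x y
    have hlk : l ≠ k := fun e => hck (e ▸ hx)
    have h1 : s • w ≠ w := fun e => (fix_point_cases hs1 hsk.1 hsk.2 e).elim hwx
      fun h => hwy (pu hlk hw h hyl hyk)
    have h2 : s • w ∈ l := smul_mem_of_centre hsx hx hw
    have h3 : s • s • w = w := by rw [← mul_smul, hs, one_smul]
    have hsi : s⁻¹ = s := inv_eq_of_mul_eq_one_left hs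
    obtain ⟨t, ht, ht1, h4, h5⟩ := hpp w (s • w) h1.symm
    obtain ⟨h6, h7⟩ := conj_invol ht ht1 s
    rcases key w (s • w) hw h2 h1.symm t ht ht1 h4 h5 with h | h
    · exact key2 w (s • w) hw h2 h1.symm t _ ht ht1 h6 h7 h h5 (conj_mem_centre h s)
        (by rw [hsi, mul_smul, mul_smul, h5, h3])
    · exact key2 w (s • w) hw h2 h1.symm _ t h6 h7 ht ht1 (h3 ▸ conj_mem_centre h s)
        (by rw [mul_smul, inv_smul_smul, mul_smul, h4]) h h4
  obtain ⟨x, hx, -⟩ := exists_meet (P := P) l l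
  obtain ⟨y, hy, hyx, -⟩ := exists_mem_ne_ne l x x
  obtain ⟨s, h1, h2, h3, h4⟩ := hpp x y hyx.symm
  rcases key x y hx hy hyx.symm s h1 h2 h3 h4 with h | h
  · exact key3 x s hx h1 h2 h
  · exact key3 y s hy h1 h2 h

theorem exists_elation_of_allCentres (hc : AllCentres G P L) :
    ∃ (c : P) (l : L), c ∈ l ∧ persp G c l ≠ ⊥ := by
  by_contra! H
  choose s π hs hs1 hπ hsp using hc
  have hinj : Function.Injective π := fun x y e => by
    by_contra hxy
    obtain ⟨z, h1, h2, -⟩ := elation_of_homologies (hs x) (hs1 x) (hs y) (hs1 y) (hsp x)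
      (e ▸ hsp y) hxy (hπ x)
    exact h2 (H z _ h1)
  obtain ⟨x, hx⟩ := exists_absolute π hinj fun x y hxy => by
    have h1 := conj_mem_persp (hsp x) (s y)
    rw [(hsp y).2 x hxy] at h1
    obtain ⟨h2, h3⟩ := conj_invol (hs x) (hs1 x) (s y)
    have h4 : s y • π x = π x := by
      by_contra h4
      obtain ⟨k, h5, h6, -⟩ := elation_of_homologies (P := Dual L) (L := Dual P) (l := x)
        (hs x) (hs1 x) h2 h3 (persp_to_dual (hsp x)) (persp_to_dual (P := P) (L := L) h1)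
        (Ne.symm h4) (hπ x)
      have h7 := H x k h5
      exact h6 ((persp_dual (G := G) (P := P) (L := L) x _).trans h7)
    exact (fix_line_cases (hs1 y) (hsp y).1 (hsp y).2 h4).resolve_left fun e => hπ x (e ▸ hxy)
  exact hπ x hx

theorem all_centres_of_two (hc : AllCentres G P L) {l : L} {c₁ c₂ : P} (h12 : c₁ ≠ c₂)
    (h₁ : c₁ ∈ l) (h₂ : c₂ ∈ l) (hn₁ : persp G c₁ l ≠ ⊥) (hn₂ : persp G c₂ l ≠ ⊥) (x : P)
    (hx : x ∈ l) : persp G x l ≠ ⊥ := by
  obtain ⟨h, a, hh, hh1, hxa, hha⟩ := hc x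
  have hal : a ≠ l := fun e => hxa (e ▸ hx)
  obtain ⟨c, hcl, hca, hn⟩ : ∃ c : P, c ∈ l ∧ c ∉ a ∧ persp G c l ≠ ⊥ := by
    by_cases h' : c₁ ∈ a
    · exact ⟨c₂, h₂, fun h'' => hal (lu h12 h' h'' h₁ h₂), hn₂⟩
    · exact ⟨c₁, h₁, h', hn₁⟩
  obtain ⟨⟨t, ht⟩, ht1⟩ := Subgroup.ne_bot_iff_exists_ne_one.1 hn
  have ht1' : t ≠ 1 := fun e => ht1 (Subtype.ext e)
  have h1 : t • a ≠ a := fun e => (fix_line_cases ht1' ht.1 ht.2 e).elim hal hca
  have h2 := conj_mem_persp hha t
  rw [ht.2 x hx] at h2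
  have h3 := conj_mem_axis ht.2 h
  rw [hha.1 l hx, inv_eq_of_mul_eq_one_left hh] at h3
  refine Subgroup.ne_bot_iff_exists_ne_one.2 ⟨⟨h * (t * h * t⁻¹), mul_mem hha.1 h2.1, ?_⟩,
    fun e => hh1 (eq_one_of_two_axes (P := P) h1 ?_ hha.2)⟩
  · have := mul_mem h3 (inv_mem (mem_persp.1 ht).2)
    simp only [mul_assoc] at this ⊢
    exact this
  · rw [eq_inv_of_mul_eq_one_left (congrArg Subtype.val e)]
    exact inv_mem h2.2

theorem two_centres_or_two_axes (hc : AllCentres G P L) {l : L} {c : P} (hcl : c ∈ l)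
    (hn : persp G c l ≠ ⊥) : (∃ d : P, d ≠ c ∧ d ∈ l ∧ persp G d l ≠ ⊥) ∨
      ∃ m : L, m ≠ l ∧ c ∈ m ∧ persp G c m ≠ ⊥ := by
  refine or_iff_not_imp_left.2 fun H => ?_
  push Not at H
  obtain ⟨⟨t, ht⟩, ht1⟩ := Subgroup.ne_bot_iff_exists_ne_one.1 hn
  have ht1' : t ≠ 1 := fun e => ht1 (Subtype.ext e)
  obtain ⟨h, b, hh, hh1, hcb, hhb⟩ := hc c
  obtain ⟨y, hyl, hyb⟩ := exists_meet (P := P) l b
  obtain ⟨x, hx, hxc, hxy⟩ := exists_mem_ne_ne l c y
  have hxb : x ∉ b := fun h' => hxy (pu (fun e : l = b => hcb (e ▸ hcl)) hx h' hyl hyb)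
  obtain ⟨h', a, hh', hh1', hxa, hha⟩ := hc x
  have h1 := conj_mem_persp ht h'
  rw [hha.1 l hx] at h1
  have h2 : h' • c = c := by
    by_contra h2
    have := H _ h2 (smul_mem_of_centre hha.1 hx hcl)
    rw [this, Subgroup.mem_bot] at h1
    exact ht1' (conj_eq_one_iff.1 h1)
  have hca : c ∈ a := (fix_point_cases hh1' hha.1 hha.2 h2).resolve_left hxc.symm
  have h3 := conj_mem_persp hha h
  rw [hhb.1 a hca] at h3
  obtain ⟨h4, h5⟩ := conj_invol hh' hh1' h
  have h6 : h • x ≠ x := fun e => (fix_point_cases hh1 hhb.1 hhb.2 e).elim hxc hxb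
  obtain ⟨e, he, hne, hk⟩ := elation_of_homologies hh' hh1' h4 h5 hha h3 h6.symm hxa
  have hal : a ≠ l := fun e => hxa (e ▸ hx)
  obtain rfl := pu hal he (hk l hx (smul_mem_of_centre hhb.1 hcl hx)) hca hcl
  exact ⟨a, hal, he, hne⟩

variable (G P L) in
/-- the order is a power of `p` and an element of order `p` fixes an antiflag -/
def PowAnti : Prop := ∃ p e : ℕ, p.Prime ∧ 𝐧 = p ^ e ∧ ∃ t : G, t ≠ 1 ∧ t ^ p = 1 ∧
  ∃ (a : P) (l : L), a ∉ l ∧ t • a = a ∧ t • l = l

omit hG in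
theorem PowAnti.of_dual (h : PowAnti G (Dual L) (Dual P)) : PowAnti G P L := by
  obtain ⟨p, e, hp, he, t, h1, h2, l, a, h3, h4, h5⟩ := h
  exact ⟨p, e, hp, (ProjectivePlane.Dual.order P L).symm.trans he, t, h1, h2, a, l, h3, h5, h4⟩

variable [Finite G]

theorem powAnti_of_all {l : L} (h : ∀ c : P, c ∈ l → persp G c l ≠ ⊥) : PowAnti G P L := by
  obtain ⟨p, e, hp, he, hT⟩ := order_eq_pow h
  obtain ⟨c, hc, -⟩ := exists_meet (P := P) l l
  obtain ⟨⟨t, ht⟩, ht1⟩ := Subgroup.ne_bot_iff_exists_ne_one.1 (h c hc)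
  obtain ⟨a, ha, hac, -⟩ := exists_mem_ne_ne l c c
  obtain ⟨k, hk, hkl, -⟩ := exists_line_ne_ne c l l
  exact ⟨p, e, hp, he, t, fun e => ht1 (Subtype.ext e), hT t (persp_le_trans hc ht), a, k,
    fun h' => hac (pu hkl h' ha hk hc), ht.2 a ha, ht.1 k hk⟩

theorem powAnti_of_pairs (hinv : AllHom G P L) (hpp : PairFix G P) (hll : PairFix G L) :
    PowAnti G P L := by
  have ha := allAxes hinv hpp
  have hc := (allAxes hinv.dual hll).of_dual
  obtain ⟨c, l, hcl, hn⟩ := exists_elation_of_allCentres hc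
  rcases two_centres_or_two_axes hc hcl hn with ⟨d, hdc, hd, hn'⟩ | ⟨m, hml, hm, hn'⟩
  · exact powAnti_of_all (all_centres_of_two hc hdc hd hcl hn' hn)
  · exact (powAnti_of_all (all_centres_of_two (P := Dual L) (L := Dual P) (l := c) ha.dual hml
      hm hcl (ne_bot_dual hn') (ne_bot_dual hn))).of_dual

theorem powAnti_of_elation (h : TwoTrans G P) {c : P} {l : L} (hc : c ∈ l)
    (hn : persp G c l ≠ ⊥) : PowAnti G P L := by
  refine powAnti_of_all (l := l) fun d hd e => hn ?_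
  obtain ⟨g, h1, h2⟩ := h.flag c d l l hc hd
  rw [← Subgroup.card_eq_one, ← card_persp_smul g, h1, h2, e, Subgroup.card_bot]

end Cfsg.Lib.Perm.Plane
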