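import Mathlib.GroupTheory.GroupAction.MultipleTransitivity
import Mathlib.GroupTheory.GroupAction.Quotient
import Mathlib.GroupTheory.GroupAction.ConjAct
import Mathlib.GroupTheory.Sylow
import Mathlib.GroupTheory.Rank
import Mathlib.GroupTheory.Perm.Cycle.Type

/-!
Finite sharply doubly transitive groups: the identity and the elements without fixed points form
a regular normal elementary abelian subgroup.
-/

set_option autoImplicit false

namespace Cfsg.Lib.Perm

open MulAction

/-- A sharply doubly transitive action, elementwise. -/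
structure IsSharp2 (G α : Type*) [Group G] [MulAction G α] : Prop where
  exists_smul : ∀ {a b c d : α}, a ≠ b → c ≠ d → ∃ g : G, g • a = c ∧ g • b = d
  eq_one : ∀ {g : G} {a b : α}, a ≠ b → g • a = a → g • b = b → g = 1

variable {G α : Type*} [Group G] [MulAction G α]

theorem isSharp2_of (h2 : IsMultiplyPretransitive G α 2)
    (hsharp : ∀ x : Fin 2 ↪ α, stabilizer G x = ⊥) : IsSharp2 G α where
  exists_smul := fun hab hcd => is_two_pretransitive_iff.mp h2 hab hcd
  eq_one := by
    intro g a b hab ha hb
    have : g ∈ stabilizer G (Function.Embedding.embFinTwo hab) := by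
      rw [mem_stabilizer_iff]
      ext i
      fin_cases i
      · exact ha
      · exact hb
    rwa [hsharp, Subgroup.mem_bot] at this

namespace IsSharp2

theorem eq_of_smul_eq (h : IsSharp2 G α) {g g' : G} {a b : α} (hab : a ≠ b)
    (ha : g • a = g' • a) (hb : g • b = g' • b) : g = g' := by
  have : g'⁻¹ * g = 1 := h.eq_one hab (by rw [mul_smul, ha, inv_smul_smul])
    (by rw [mul_smul, hb, inv_smul_smul])
  exact (inv_mul_eq_one.mp this).symm

theorem isPretransitive (h : IsSharp2 G α) : IsPretransitive G α := by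
  constructor
  intro x y
  by_cases hxy : x = y
  · exact ⟨1, by rw [one_smul, hxy]⟩
  · obtain ⟨g, hg, -⟩ := h.exists_smul hxy (Ne.symm hxy)
    exact ⟨g, hg⟩

theorem finite (h : IsSharp2 G α) [Finite α] [Nontrivial α] : Finite G := by
  obtain ⟨a, b, hab⟩ := exists_pair_ne α
  exact Finite.of_injective (fun g : G => (g • a, g • b)) fun g g' hg =>
    h.eq_of_smul_eq hab (congrArg Prod.fst hg) (congrArg Prod.snd hg)

theorem card_stabilizer (h : IsSharp2 G α) [Finite α] [Nontrivial α] (a : α) :
    Nat.card (stabilizer G a) + 1 = Nat.card α := by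
  classical
  obtain ⟨b, hb⟩ := exists_ne a
  have e : stabilizer G a ≃ {x : α // x ≠ a} := by
    refine Equiv.ofBijective (fun g => ⟨(g : G) • b, fun hg => hb ?_⟩) ⟨?_, ?_⟩
    · have : (g : G) • b = (g : G) • a := by rw [hg, g.2]
      exact smul_left_cancel _ this
    · intro g g' hg
      exact Subtype.ext (h.eq_of_smul_eq hb (congrArg Subtype.val hg) (by rw [g.2, g'.2]))
    · rintro ⟨x, hx⟩
      obtain ⟨g, hg1, hg2⟩ := h.exists_smul hb hx
      exact ⟨⟨g, hg2⟩, Subtype.ext hg1⟩
  rw [Nat.card_congr e]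
  have := Fintype.ofFinite α
  simp only [Nat.card_eq_fintype_card, Fintype.card_subtype_compl, Fintype.card_unique]
  have : 0 < Fintype.card α := Fintype.card_pos
  omega

theorem card_eq (h : IsSharp2 G α) [Finite α] [Nontrivial α] :
    Nat.card G = Nat.card α * (Nat.card α - 1) := by
  obtain ⟨a⟩ : Nonempty α := inferInstance
  have := h.isPretransitive
  rw [← (stabilizer G a).index_mul_card, index_stabilizer_of_transitive, ← h.card_stabilizer a]
  simp

/-- There are `n - 1` elements without fixed points. -/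
theorem card_fpf (h : IsSharp2 G α) [Finite α] [Nontrivial α] :
    Nat.card {g : G // ∀ a : α, g • a ≠ a} + 1 = Nat.card α := by
  classical
  have := h.finite
  have := h.isPretransitive
  have := Fintype.ofFinite G
  have := Fintype.ofFinite α
  have hB := sum_card_fixedBy_eq_card_orbits_mul_card_group G α
  have h1 : Fintype.card (orbitRel.Quotient G α) = 1 := by
    rw [Fintype.card_eq_one_iff_nonempty_unique]
    have : Subsingleton (orbitRel.Quotient G α) :=
      (pretransitive_iff_subsingleton_quotient G α).mp inferInstance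
    exact ⟨uniqueOfSubsingleton (Quotient.mk _ (Classical.arbitrary α))⟩
  have hB' : ∑ g : G, Fintype.card (fixedBy α g) = Fintype.card G := by
    rw [hB]; convert one_mul _
  have h2 : ∀ g : G, Fintype.card (fixedBy α g) + (if (∀ a : α, g • a ≠ a) then 1 else 0)
      = 1 + if g = 1 then Fintype.card α - 1 else 0 := by
    intro g
    by_cases hg : g = 1
    · subst hg
      have : 0 < Fintype.card α := Fintype.card_pos
      simp
      omega
    · by_cases hf : ∀ a : α, g • a ≠ a
      · rw [if_pos hf, if_neg hg]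
        have : IsEmpty (fixedBy α g) := ⟨fun x => hf x x.2⟩
        simp
      · rw [if_neg hf, if_neg hg]
        push Not at hf
        obtain ⟨a, ha⟩ := hf
        rw [add_zero, add_zero, Fintype.card_eq_one_iff]
        refine ⟨⟨a, ha⟩, fun y => Subtype.ext ?_⟩
        by_contra hy
        exact hg (h.eq_one hy y.2 ha)
  have h3 := Finset.sum_congr (rfl : (Finset.univ : Finset G) = Finset.univ) fun g _ => h2 g
  rw [Finset.sum_add_distrib, Finset.sum_add_distrib, hB'] at h3
  simp only [Finset.sum_boole, Nat.cast_id, Finset.sum_const, Finset.card_univ, smul_eq_mul,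
    mul_one, Finset.sum_ite_eq', Finset.mem_univ, if_true, add_right_inj] at h3
  rw [Nat.card_eq_fintype_card, Nat.card_eq_fintype_card, Fintype.card_subtype, h3]
  have : 0 < Fintype.card α := Fintype.card_pos
  omega

theorem fpf_of_commute (h : IsSharp2 G α) {x y : G} (hx : ∀ a : α, x • a ≠ a)
    (hxy : y * x = x * y) : y = 1 ∨ ∀ a : α, y • a ≠ a := by
  by_cases hy : y = 1
  · exact Or.inl hy
  refine Or.inr fun a ha => hy (h.eq_one (hx a) ?_ ha)
  rw [← mul_smul, hxy, mul_smul, ha]

/-- The centraliser of an element without fixed points is the set of all such, with `1`. -/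
theorem mem_centralizer_iff (h : IsSharp2 G α) [Finite α] [Nontrivial α] {x : G}
    (hx : ∀ a : α, x • a ≠ a) :
    (∀ y : G, y ∈ Subgroup.centralizer {x} ↔ y = 1 ∨ ∀ a : α, y • a ≠ a) ∧
      ∀ y : G, (∀ a : α, y • a ≠ a) → IsConj x y := by
  classical
  have := h.finite
  set F : Set G := {g : G | ∀ a : α, g • a ≠ a} with hF
  have hFc : F.ncard + 1 = Nat.card α := h.card_fpf
  have h1F : (1 : G) ∉ F := fun h1 => h1 (Classical.arbitrary α) (one_smul _ _)
  have hK : (insert 1 F).ncard = Nat.card α := by rw [Set.ncard_insert_of_notMem h1F, hFc]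
  have hC : (Subgroup.centralizer {x} : Set G) ⊆ insert 1 F := by
    intro y hy
    exact h.fpf_of_commute hx (Subgroup.mem_centralizer_singleton_iff.mp hy)
  have hO : orbit (ConjAct G) x ⊆ F := by
    rintro _ ⟨g, rfl⟩ a ha
    apply hx ((ConjAct.ofConjAct g)⁻¹ • a)
    change (ConjAct.ofConjAct g * x * (ConjAct.ofConjAct g)⁻¹) • a = a at ha
    rw [mul_smul, mul_smul, ← eq_inv_smul_iff] at ha
    exact ha
  have hCle := Set.ncard_le_ncard hC
  have hOle := Set.ncard_le_ncard hO
  have hmul : (orbit (ConjAct G) x).ncard * (Subgroup.centralizer {x} : Set G).ncard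
      = Nat.card G := by
    have e1 := (stabilizer (ConjAct G) x).index_mul_card
    rw [index_stabilizer, ← Subgroup.nat_card_centralizer_nat_card_stabilizer] at e1
    exact e1
  rw [h.card_eq, ← hFc, Nat.add_sub_cancel] at hmul
  rw [hK, ← hFc] at hCle
  have hpos : 0 < F.ncard := by
    have : 1 < Nat.card α := Finite.one_lt_card
    omega
  have e1 : (Subgroup.centralizer {x} : Set G).ncard = F.ncard + 1 := by
    by_contra hne
    have h1 : (Subgroup.centralizer {x} : Set G).ncard ≤ F.ncard := by omega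
    have := Nat.mul_le_mul hOle h1
    nlinarith
  have e2 : (orbit (ConjAct G) x).ncard = F.ncard := by
    rw [e1, mul_comm] at hmul
    exact Nat.eq_of_mul_eq_mul_left (Nat.succ_pos _) hmul
  have e3 := Set.eq_of_subset_of_ncard_le hC (by rw [hK, e1, hFc])
  have e4 := Set.eq_of_subset_of_ncard_le hO e2.ge
  refine ⟨fun y => ?_, fun y hy => ?_⟩
  · rw [← SetLike.mem_coe, e3]; rfl
  · have : y ∈ orbit (ConjAct G) x := by rw [e4]; exact hy
    exact (ConjAct.mem_orbit_conjAct.mp this).symm

/-- The regular normal subgroup of a finite sharply doubly transitive group. -/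
theorem exists_kernel (h : IsSharp2 G α) [Finite α] [Nontrivial α] :
    ∃ (K : Subgroup G) (p j : ℕ), p.Prime ∧ 1 ≤ j ∧ Nat.card α = p ^ j ∧ K.Normal ∧
      (∀ x ∈ K, ∀ y ∈ K, x * y = y * x) ∧ (∀ x ∈ K, x ^ p = 1) ∧ Nat.card K = Nat.card α ∧
      (∀ g : G, g ∈ K ↔ g = 1 ∨ ∀ a : α, g • a ≠ a) ∧
      (∀ a b : α, ∃ k ∈ K, k • a = b) := by
  classical
  have := h.finite
  have h1 : 1 < Nat.card α := Finite.one_lt_card
  obtain ⟨p, hp, hpn⟩ := Nat.exists_prime_and_dvd h1.ne'
  have := Fact.mk hp
  obtain ⟨x, hx⟩ := exists_prime_orderOf_dvd_card' (G := G) p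
    (by rw [h.card_eq]; exact hpn.mul_right _)
  have hxf : ∀ a : α, x • a ≠ a := by
    intro a ha
    have h2 : orderOf x ∣ Nat.card (stabilizer G a) := Subgroup.orderOf_dvd_natCard _ ha
    rw [hx] at h2
    rw [← h.card_stabilizer a] at hpn
    exact hp.one_lt.ne' (Nat.dvd_one.mp ((Nat.dvd_add_right h2).mp hpn))
  obtain ⟨hK, hconj⟩ := h.mem_centralizer_iff hxf
  set K := Subgroup.centralizer {x}
  have hpow : ∀ y ∈ K, y ^ p = 1 := by
    intro y hy
    rcases (hK y).mp hy with rfl | hy
    · exact one_pow _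
    · obtain ⟨c, rfl⟩ := isConj_iff.mp (hconj y hy)
      rw [conj_pow, ← hx, pow_orderOf_eq_one, mul_one, mul_inv_cancel]
  have hcard : Nat.card K = Nat.card α := by
    have h1F : (1 : G) ∉ {g : G | ∀ a : α, g • a ≠ a} :=
      fun h1 => h1 (Classical.arbitrary α) (one_smul _ _)
    have : (K : Set G) = insert 1 {g : G | ∀ a : α, g • a ≠ a} := Set.ext hK
    change (K : Set G).ncard = _
    rw [this, Set.ncard_insert_of_notMem h1F]
    exact h.card_fpf
  have hpg : IsPGroup p K := fun y => ⟨1, Subtype.ext (by simpa using hpow y y.2)⟩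
  obtain ⟨j, hj⟩ := IsPGroup.iff_card.mp hpg
  refine ⟨K, p, j, hp, ?_, hcard ▸ hj, ⟨?_⟩, ?_, hpow, hcard, hK, ?_⟩
  · rw [hcard] at hj
    by_contra hj0
    have : j = 0 := by omega
    rw [this, pow_zero] at hj
    omega
  · intro n hn g
    rcases (hK n).mp hn with rfl | hn
    · simp
    · refine (hK _).mpr (Or.inr fun a ha => hn (g⁻¹ • a) ?_)
      rw [mul_smul, mul_smul, ← eq_inv_smul_iff] at ha
      exact ha
  · intro y hy z hz
    rcases (hK y).mp hy with rfl | hy
    · simp
    · have := ((h.mem_centralizer_iff hy).1 z).mpr ((hK z).mp hz)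
      exact (Subgroup.mem_centralizer_singleton_iff.mp this).symm
  · intro a b
    have hinj : Function.Injective fun k : K => (k : G) • a := by
      intro k k' hk
      have h3 : ((k'⁻¹ * k : K) : G) • a = a := by
        change ((k' : G)⁻¹ * k) • a = a
        have hk' : (k : G) • a = (k' : G) • a := hk
        rw [mul_smul, hk', inv_smul_smul]
      rcases (hK _).mp (k'⁻¹ * k).2 with h4 | h4
      · exact (inv_mul_eq_one.mp (Subtype.ext h4)).symm
      · exact absurd h3 (h4 a)
    obtain ⟨k, hk⟩ := (hinj.bijective_of_nat_card_le hcard.ge).2 b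
    exact ⟨k, k.2, hk⟩

end IsSharp2

end Cfsg.Lib.Perm
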