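import Mathlib.GroupTheory.GroupAction.MultipleTransitivity
import Cfsg.Agent.Perm.Socle
import Cfsg.Agent.Perm.Derange
import Cfsg.Agent.Perm.Sharp2

/-!
# Classes of derangements in primitive groups that are not almost simple
-/

set_option autoImplicit false
set_option linter.unusedSectionVars false

namespace Cfsg.Lib.Perm.Socle

open MulAction

variable {G : Type*} [Group G] [Finite G] {Ω : Type*} [MulAction G Ω] [FaithfulSMul G Ω]

variable (G Ω) in
/-- The conjugacy classes of derangements. -/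
abbrev DerCl : Type _ := {c : ConjClasses G // ∃ g : G, ConjClasses.mk g = c ∧ ∀ ω : Ω, g • ω ≠ ω}

/-- The class of a derangement. -/
def derCl (g : G) (h : ∀ ω : Ω, g • ω ≠ ω) : DerCl G Ω := ⟨ConjClasses.mk g, g, rfl, h⟩

theorem derCl_eq_iff {g g' : G} (h : ∀ ω : Ω, g • ω ≠ ω) (h' : ∀ ω : Ω, g' • ω ≠ ω) :
    derCl g h = derCl g' h' ↔ IsConj g g' := by
  rw [derCl, derCl, Subtype.mk.injEq, ConjClasses.mk_eq_mk_iff_isConj]

theorem exists_minN_top [Nontrivial Ω] (hprim : IsPreprimitive G Ω) :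
    ∃ N : Subgroup G, MinN N := by
  obtain ⟨a, b, hab⟩ := exists_pair_ne Ω
  obtain ⟨g, hg⟩ := hprim.toIsPretransitive.exists_smul_eq a b
  obtain ⟨N, hN, -⟩ := exists_minN (⊤ : Subgroup G) (fun h0 => by
    have : g ∈ (⊤ : Subgroup G) := trivial
    rw [h0, Subgroup.mem_bot] at this
    rw [this, one_smul] at hg
    exact hab hg)
  exact ⟨N, hN⟩

variable {N : Subgroup G}

theorem three_le_card_derCl (hprim : IsPreprimitive G Ω) (hnas : NotAS G) (hN : MinN N)
    (hna : ¬ IsMulCommutative N) : 3 ≤ Nat.card (DerCl G Ω) := by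
  obtain ⟨p, x, -, -, -, hder, hconj⟩ := exists_three_der hprim hnas hN hna
  have := Nat.card_le_card_of_injective (fun i => derCl (x i) (hder i))
    (fun i j hij => hconj i j ((derCl_eq_iff _ _).1 hij))
  simpa using this

theorem der_of_mem (hprim : IsPreprimitive G Ω) (hN : MinN N) (hc : IsMulCommutative N) {n : G}
    (hn : n ∈ N) (h1 : n ≠ 1) (ω : Ω) : n • ω ≠ ω := fun h =>
  h1 (eq_one_of_comm_normal hprim hN.normal hN.ne hc hn h)

theorem two_trans_of_conj (hprim : IsPreprimitive G Ω) (hN : MinN N) (hc : IsMulCommutative N)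
    (h : ∀ n ∈ N, ∀ n' ∈ N, n ≠ 1 → n' ≠ 1 → IsConj n n') : IsMultiplyPretransitive G Ω 2 := by
  have htr := exists_smul_of_normal hprim hN.normal hN.ne
  rw [is_two_pretransitive_iff]
  intro a b c d hab hcd
  obtain ⟨n, hn, rfl⟩ := htr a b
  obtain ⟨n', hn', rfl⟩ := htr c d
  obtain ⟨g, hg⟩ := isConj_iff.1 (h n hn n' hn' (fun e => hab (by rw [e, one_smul]))
    (fun e => hcd (by rw [e, one_smul])))
  obtain ⟨m, hm, hmg⟩ := htr (g • a) c
  refine ⟨m * g, by rw [mul_smul, hmg], ?_⟩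
  have e : m * n' = n' * m := congrArg Subtype.val (hc.is_comm.comm (⟨m, hm⟩ : N) ⟨n', hn'⟩)
  have e2 : m * g * n = n' * (m * g) := by
    rw [← mul_assoc, ← e, ← hg]; group
  rw [← mul_smul, e2, mul_smul, mul_smul, hmg]

theorem fix_le_one [Finite Ω] (hprim : IsPreprimitive G Ω) (hN : MinN N)
    (hc : IsMulCommutative N) (h : ∀ g : G, (∀ ω : Ω, g • ω ≠ ω) → g ∈ N) {g : G} (h1 : g ≠ 1) :
    Nat.card (fixedBy Ω g) ≤ 1 := by
  have := hprim.toIsPretransitive
  by_cases hg : g ∈ N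
  · have : IsEmpty (fixedBy Ω g) := ⟨fun x => der_of_mem hprim hN hc hg h1 x.1 x.2⟩
    simp
  · refine ((Derange.der_main (G := G) (Ω := Ω)).2 g fun hd => hg ?_).le
    exact (Subgroup.closure_le N).2 (fun x hx => h x hx) hd

theorem eq_one_of_fix_le_one [Finite Ω] {g : G} (h : g ≠ 1 → Nat.card (fixedBy Ω g) ≤ 1)
    {a b : Ω} (hab : a ≠ b) (ha : g • a = a) (hb : g • b = b) : g = 1 := by
  by_contra h1
  have := Finite.card_le_one_iff_subsingleton.1 (h h1)
  exact hab (congrArg Subtype.val (Subsingleton.elim (⟨a, ha⟩ : fixedBy Ω g) ⟨b, hb⟩))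

theorem card_derCl_of_sharp [Finite Ω] [Nontrivial Ω] (h : IsSharp2 G Ω) :
    Nat.card (DerCl G Ω) = 1 := by
  rw [Nat.card_eq_one_iff_unique]
  constructor
  · refine ⟨?_⟩
    rintro ⟨_, x, rfl, hx⟩ ⟨_, y, rfl, hy⟩
    exact (derCl_eq_iff hx hy).2 ((h.mem_centralizer_iff hx).2 y hy)
  · have h1 := h.card_fpf
    have h2 := Finite.one_lt_card (α := Ω)
    have : 0 < Nat.card {g : G // ∀ a : Ω, g • a ≠ a} := by omega
    obtain ⟨x, hx⟩ := (Nat.card_pos_iff.1 this).1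
    exact ⟨derCl x hx⟩

theorem isSharp2_of_two (h2 : IsMultiplyPretransitive G Ω 2)
    (h : ∀ g : G, g ≠ 1 → ∀ a b : Ω, a ≠ b → g • a = a → g • b ≠ b) : IsSharp2 G Ω :=
  ⟨fun hab hcd => is_two_pretransitive_iff.1 h2 hab hcd, fun {g a b} hab ha hb => by
    by_contra h1
    exact h g h1 a b hab ha hb⟩

end Cfsg.Lib.Perm.Socle
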