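import Cfsg.Agent.Perm.FCExist
import Cfsg.Agent.FT.BG1.Coprime
import Cfsg.Agent.FT.Elem
import Cfsg.Agent.Solv.PSolvable
import Cfsg.Agent.Solv.CoprimeFixed
import Cfsg.Agent.Solv.CoprimeSylow
import Cfsg.Agent.S0205

/-!
Hall TI-subgroups: a TI-subgroup that acts non-trivially on a normal subgroup of coprime order is a
Frobenius complement.
-/

set_option autoImplicit false

namespace Cfsg.Lib.Perm

open Subgroup Cfsg.Lib.Solv Cfsg.Lib.FT

variable {G : Type*} [Group G] [Finite G]

theorem isSolvable_or_of_coprime {A K : Subgroup G} (h : (Nat.card A).Coprime (Nat.card K)) :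
    Group.IsSolvable A ∨ Group.IsSolvable K := by
  rcases (Nat.card A).even_or_odd with h2 | h2
  · exact Or.inr (Cfsg.Agent.S0205.result (Nat.odd_iff.2 (Nat.two_dvd_ne_zero.1 fun h3 =>
      Nat.not_coprime_of_dvd_of_dvd one_lt_two h2.two_dvd h3 h)))
  · exact Or.inl (Cfsg.Agent.S0205.result h2)

theorem IsFC.of_section {H X Y : Subgroup G} [Y.Normal] (hHX : H ≤ normalizer (X : Set G))
    (hY : Y < X) (hco : (Nat.card H).Coprime (Nat.card X))
    (hC : ∀ h ∈ H, h ≠ 1 → X ⊓ centralizer {h} ≤ Y) : IsFC H := by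
  have h1 : IsFC (H.map (QuotientGroup.mk' Y)) := by
    refine IsFC.of_ambient (K := X.map (QuotientGroup.mk' Y))
      ((map_mono hHX).trans (le_normalizer_map _)) ?_ ?_
    · rw [Ne, Subgroup.map_eq_bot_iff, QuotientGroup.ker_mk']
      exact hY.2
    · rintro _ ⟨h, hh, rfl⟩ h1
      have h2 := Coprime.map_inf_centralizer (A := zpowers h) (K := X) (QuotientGroup.mk' Y)
        ((zpowers_le.2 hh).trans hHX) (hco.coprime_dvd_left (card_dvd_of_le (zpowers_le.2 hh)))
        (Or.inl inferInstance)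
      rw [MonoidHom.map_zpowers, zpowers_eq_closure, zpowers_eq_closure, centralizer_closure,
        centralizer_closure] at h2
      rw [← h2, Subgroup.map_eq_bot_iff, QuotientGroup.ker_mk']
      exact hC h hh fun e => h1 (by rw [e, map_one])
  refine h1.of_injective ((QuotientGroup.mk' Y).subgroupMap H) ?_
  rw [injective_iff_map_eq_one]
  intro a ha
  have h2 : (a : G) ∈ H ⊓ X := ⟨a.2, hY.1 ((QuotientGroup.eq_one_iff _).1 (congrArg Subtype.val ha))⟩
  rw [coprime_TIg hco, mem_bot] at h2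
  exact Subtype.ext h2

/-- A group with a non-trivial coprime "prime" action is a Frobenius complement. -/
theorem IsFC.of_prime_action {H K : Subgroup G} (hHK : H ≤ normalizer (K : Set G))
    (hco : (Nat.card H).Coprime (Nat.card K))
    (hC : ∀ h ∈ H, h ≠ 1 → K ⊓ centralizer {h} ≤ centralizer (H : Set G))
    (hK : ¬ K ≤ centralizer (H : Set G)) : IsFC H := by
  by_contra hn
  refine hK (Coprime.le_of_forall_invariant_pgroup_le hHK hco (isSolvable_or_of_coprime hco) ?_)
  intro q _ P hPK hP hHP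
  by_contra hPC
  have hlt : P ⊓ centralizer (H : Set G) < P :=
    lt_of_le_of_ne inf_le_left fun e => hPC (e ▸ inf_le_right)
  have h1 := PG.lt_inf_normalizer hP hlt
  have hHY : H ≤ normalizer ((P ⊓ centralizer (H : Set G) : Subgroup G) : Set G) :=
    cents_norm (le_centralizer_iff.1 inf_le_right)
  have hYC : ∀ h ∈ H, h ≠ 1 → P ⊓ centralizer {h} ≤ P ⊓ centralizer (H : Set G) :=
    fun h hh h1 => le_inf inf_le_left ((inf_le_inf_right _ hPK).trans (hC h hh h1))
  generalize P ⊓ centralizer (H : Set G) = Y at h1 hHY hYC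
  have : (Y.subgroupOf (normalizer (Y : Set G))).Normal := normal_in_normalizer
  have h2 : IsFC (H.subgroupOf (normalizer (Y : Set G))) := by
    refine IsFC.of_section (X := P.subgroupOf (normalizer (Y : Set G)))
      (Y := Y.subgroupOf (normalizer (Y : Set G))) ?_ ?_ ?_ ?_
    · exact fun g hg => mem_normalizer_fintype fun x hx => (hHP hg x).1 hx
    · obtain ⟨x, hx, hx'⟩ := SetLike.exists_of_lt h1
      exact ⟨fun y hy => (h1.1 hy).1, fun h => hx' (h (show (⟨x, hx.2⟩ : normalizer (Y : Set G)) ∈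
        P.subgroupOf _ from hx.1))⟩
    · exact (hco.coprime_dvd_left (card_comap_dvd_of_injective H _ (subtype_injective _))
        ).coprime_dvd_right ((card_comap_dvd_of_injective P _ (subtype_injective _)).trans
          (card_dvd_of_le hPK))
    · intro h hh h1 x hx
      exact hYC h hh (fun e => h1 (Subtype.ext e)) ⟨hx.1, mem_centralizer_singleton_iff.2
        (congrArg Subtype.val (mem_centralizer_singleton_iff.1 hx.2))⟩
  exact hn (h2.of_equiv (subgroupOfEquivOfLe hHY).symm)

namespace TI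

variable {H : Subgroup G}

omit [Finite G] in
theorem mem_normalizer (hTI : IsTISubset (H : Set G)) {g x : G} (hx : x ∈ H) (hx1 : x ≠ 1)
    (h : g * x * g⁻¹ ∈ H) : g ∈ normalizer (H : Set G) :=
  by_contra fun hg => hx1 (hTI g hg x hx h)

theorem isPiHall (hTI : IsTISubset (H : Set G))
    (hHall : (Nat.card H).Coprime (H.subgroupOf (normalizer (H : Set G))).index) :
    IsPiHall (piOf (Nat.card H)) H := by
  have hHL : IsPiHallOf (piOf (Nat.card H)) H (normalizer (H : Set G)) :=
    ⟨le_normalizer, fun p hp h => ⟨hp, h⟩, fun p hp h h' =>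
      hp.ne_one (Nat.eq_one_of_dvd_coprimes hHall h.2 h')⟩
  have hSyl : ∀ p : ℕ, p.Prime → p ∣ Nat.card H → ∀ P, IsSylowOf p P H → ¬ p ∣ P.index := by
    intro p hp hpd P hP
    have := Fact.mk hp
    obtain ⟨⟨x, hx⟩, hx1⟩ := ne_bot_iff_exists_ne_one.1 (show P ≠ ⊥ by
      rintro rfl
      exact Sylow_index hP (by rwa [relIndex_bot_left]))
    have h1 := (Sylow_subnorm (le_top : P ≤ ⊤)).1 (pHall_subl (le_inf le_top le_normalizer)
      (fun g hg => mem_normalizer hTI (hP.1 hx) (fun e => hx1 (Subtype.ext e))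
        (hP.1 ((hg.2 x).1 hx)))
      (subHall_Sylow hHL ⟨hp, hpd⟩ hP))
    simpa using Sylow_index h1
  exact ⟨fun p hp h => ⟨hp, h⟩, fun p hp h h' => by
    have := Fact.mk hp
    obtain ⟨P, hP⟩ := Sylow_exists p H
    exact hSyl p hp h.2 P hP (h'.trans (index_dvd_of_le hP.1))⟩

theorem coprime_index (hTI : IsTISubset (H : Set G))
    (hHall : (Nat.card H).Coprime (H.subgroupOf (normalizer (H : Set G))).index) :
    (Nat.card H).Coprime H.index :=
  Nat.coprime_of_dvd fun p hp h1 h2 => (isPiHall hTI hHall).2 p hp ⟨hp, h1⟩ h2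

omit [Finite G] in
theorem eq_bot_of_normal (hTI : IsTISubset (H : Set G)) (hnn : ¬ H.Normal) {N : Subgroup G}
    [hN : N.Normal] (h : N ≤ H) : N = ⊥ := by
  by_contra h0
  obtain ⟨⟨x, hx⟩, hx1⟩ := ne_bot_iff_exists_ne_one.1 h0
  exact hnn (normalizer_eq_top_iff.1 (eq_top_iff.2 fun g _ => mem_normalizer hTI
    (h hx) (fun e => hx1 (Subtype.ext e)) (h (hN.conj_mem x hx g))))

theorem isFC (hTI : IsTISubset (H : Set G)) {K : Subgroup G} [hKn : K.Normal]
    (hco : (Nat.card H).Coprime (Nat.card K)) (hK : ¬ K ≤ centralizer (H : Set G)) : IsFC H := by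
  refine IsFC.of_prime_action (by rw [normalizer_eq_top]; exact le_top) hco
    (fun a ha ha1 k hk => ?_) hK
  have h2 : k ∈ normalizer (H : Set G) := mem_normalizer hTI ha ha1 (by
    rw [mem_centralizer_singleton_iff.1 hk.2, mul_inv_cancel_right]; exact ha)
  intro h hh
  have h3 : h * (k * h⁻¹ * k⁻¹) ∈ H ⊓ K := ⟨H.mul_mem hh ((h2 _).1 (H.inv_mem hh)), by
    rw [← mul_assoc, ← mul_assoc]
    exact K.mul_mem (hKn.conj_mem k hk.1 h) (K.inv_mem hk.1)⟩
  rw [coprime_TIg hco, mem_bot] at h3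
  calc h * k = h * (k * h⁻¹ * k⁻¹) * (k * h) := by group
    _ = _ := by rw [h3, one_mul]

end TI

end Cfsg.Lib.Perm
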