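import Cfsg.Agent.Perm.TIInv
import Cfsg.Agent.S2202
import Cfsg.Agent.S0265
import Cfsg.Agent.Class.PGL2Torus
import Cfsg.Agent.Class.PGL2Sub
import Cfsg.Agent.Solv.FrobeniusComplement
import Cfsg.Agent.Solv.RealLift
import Cfsg.Agent.Solv.Conj
import Cfsg.Agent.Solv.Quaternion
import Cfsg.Agent.Char.Blichfeldt
import Cfsg.Agent.Local.InvolCount
import Cfsg.Agent.FT.Metacyclic

/-!
# TI-subgroups and the number of involutions, II
-/

set_option autoImplicit false

open MulAction Subgroup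
open scoped MatrixGroups

namespace Cfsg.Lib.TIInv

variable {G : Type*} [Group G]

/-- The case of a generalised dihedral normaliser. -/
structure Bc (M : Subgroup G) (z : G) : Prop extends Fu M z where
  two : ∀ y ∈ normalizer (M : Set G), y * z = z * y → y = 1 ∨ y = z
  ntop : normalizer (M : Set G) ≠ ⊤

theorem Fu.bc [Finite G] {M : Subgroup G} {z : G} (h : Fu M z) {u v : G}
    (hu : u ∉ normalizer (M : Set G)) (hv : v ∉ normalizer (M : Set G)) (hu' : u * z = z * u)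
    (hv' : v * z = z * v) (huv : u * v ∉ normalizer (M : Set G)) : Bc M z := by
  refine ⟨h, fun y hy hc => h.eq_of_sq hy hc ?_, fun e => hu (e ▸ mem_top u)⟩
  have e1 := h.inv_of_comm huv (Commute.mul_left hu' hv').eq hy hc
  have e2 := h.inv_of_comm hv hv' hy hc
  have e3 := h.inv_of_comm hu hu' hy hc
  have e4 : u * v * y * (u * v)⁻¹ = (u * (v * y * v⁻¹)⁻¹ * u⁻¹)⁻¹ := by group
  rw [e4, e2, inv_inv, e3, inv_inv] at e1
  exact mul_eq_one_iff_eq_inv.2 e1

namespace Bc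

open Hy

variable {M : Subgroup G} {z : G} [Finite G]

theorem sq_of_comm' (h : Bc M z) {s : G} (hs : s * z = z * s) : s * s = 1 := by
  by_cases hN : s ∈ normalizer (M : Set G)
  · rcases h.two s hN hs with rfl | rfl
    · exact mul_one _
    · exact h.z2
  · exact h.sq_of_comm hN hs

theorem conj_inj (h : Bc M z) {s t b c : G} (hs1 : s ≠ 1) (hs : s * z = z * s) (ht : t * z = z * t)
    (hb : b ∈ M) (hc : c ∈ M) (e : b * s * b⁻¹ = c * t * c⁻¹) : b = c ∧ s = t := by
  have hd := M.mul_mem (M.inv_mem hc) hb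
  have e1 : t = (c⁻¹ * b) * s * (c⁻¹ * b)⁻¹ := by
    calc t = c⁻¹ * (c * t * c⁻¹) * c := by group
      _ = _ := by rw [← e]; group
  have hbc : c⁻¹ * b = 1 := by
    generalize c⁻¹ * b = d at hd e1
    refine h.sq hd ?_
    by_contra h1
    refine hs1 (h.odd _ (M.mul_mem hd hd) h1 s (h.sq_of_comm' hs) ?_)
    have e2 : d * d = z * (d⁻¹ * z * d) := by
      calc d * d = (z * d⁻¹ * z⁻¹) * d := by rw [h.zinv (M.inv_mem hd), inv_inv]
        _ = _ := by rw [inv_eq_of_sq h.z2]; group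
    have e3 : s * (d⁻¹ * z * d) = (d⁻¹ * z * d) * s := by
      calc s * (d⁻¹ * z * d) = d⁻¹ * (d * s * d⁻¹ * z) * d := by group
        _ = _ := by rw [← e1, ht, e1]; group
    rw [e2]
    exact (Commute.mul_right hs e3).eq
  refine ⟨(inv_mul_eq_one.1 hbc).symm, ?_⟩
  rw [e1, hbc]; group

omit [Finite G] in
theorem mem_iff (h : Bc M z) {g : G} : g ∈ normalizer (M : Set G) ↔ g ∈ M ∨ g * z ∈ M := by
  constructor
  · intro hg
    obtain ⟨a, ha, y, hy, hc, rfl⟩ := h.fac g hg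
    rcases h.two y hy hc with rfl | rfl
    · left; rwa [mul_one]
    · right; rwa [mul_assoc, h.z2, mul_one]
  · rintro (hg | hg)
    · exact le_normalizer hg
    · exact (Subgroup.mul_mem_cancel_right _ h.zN).1 (le_normalizer hg)

omit [Finite G] in
theorem z_not_mem (h : Bc M z) : z ∉ M := fun hz => h.z1 (h.sq hz h.z2)

omit [Finite G] in
theorem card_normalizer (h : Bc M z) : Nat.card (normalizer (M : Set G)) = 2 * Nat.card M := by
  have hi : M.relIndex (normalizer (M : Set G)) = 2 := by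
    refine Subgroup.index_eq_two_iff.2 ⟨⟨z, h.zN⟩, fun b => ?_⟩
    simp only [mem_subgroupOf, Subgroup.coe_mul]
    rcases h.mem_iff.1 b.2 with hb | hb
    · exact Or.inr ⟨hb, fun h' => h.z_not_mem ((Subgroup.mul_mem_cancel_left _ hb).1 h')⟩
    · exact Or.inl ⟨hb, fun h' => h.z_not_mem ((Subgroup.mul_mem_cancel_left _ h').1 hb)⟩
  rw [← hi, ← Class.relIndex_mul_card_inf M, inf_eq_left.2 le_normalizer]

theorem card_group (h : Bc M z) : Nat.card G = 2 * Nat.card M +
    Nat.card M * (Nat.card M * {s | s * z = z * s ∧ s ∉ normalizer (M : Set G)}.ncard) := by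
  rw [← h.card_normalizer, ← Set.ncard_add_ncard_compl (normalizer (M : Set G) : Set G),
    ← Nat.card_coe_set_eq, ← Nat.card_coe_set_eq, ← Nat.card_coe_set_eq, ← Nat.card_prod,
    ← Nat.card_prod]
  congr 1
  have hmem : ∀ {b u : G}, b ∈ M → u ∉ normalizer (M : Set G) →
      b * u * b⁻¹ ∉ normalizer (M : Set G) := fun hb hu h' => hu
    ((Subgroup.mul_mem_cancel_left _ (le_normalizer hb)).1
      ((Subgroup.mul_mem_cancel_right _ (Subgroup.inv_mem _ (le_normalizer hb))).1 h'))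
  have hsq : ∀ {b u : G}, u * z = z * u → b * u * b⁻¹ * (b * u * b⁻¹) = 1 := fun {b u} hu => by
    calc _ = b * (u * u) * b⁻¹ := by group
      _ = 1 := by rw [h.sq_of_comm' hu]; group
  refine (Nat.card_congr (Equiv.ofBijective (fun x : M × M × {s | s * z = z * s ∧
      s ∉ normalizer (M : Set G)} => (⟨x.1 * (x.2.1 * x.2.2 * (x.2.1 : G)⁻¹), fun h' =>
        hmem x.2.1.2 x.2.2.2.2 ((Subgroup.mul_mem_cancel_left _ (le_normalizer x.1.2)).1 h')⟩ :
      ((normalizer (M : Set G) : Set G)ᶜ : Set G))) ⟨?_, ?_⟩)).symm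
  · rintro ⟨⟨a, ha⟩, ⟨b, hb⟩, ⟨u, hu, hu'⟩⟩ ⟨⟨a', ha'⟩, ⟨b', hb'⟩, ⟨v, hv, hv'⟩⟩ e
    have e' : a * (b * u * b⁻¹) = a' * (b' * v * b'⁻¹) := congrArg Subtype.val e
    have e1 : a'⁻¹ * a = 1 := by
      refine h.uniq (hmem hb hu') (hsq hu) (M.mul_mem (M.inv_mem ha') ha) ?_
      rw [mul_assoc a'⁻¹, e', inv_mul_cancel_left]
      exact hsq hv
    obtain rfl : a' = a := inv_mul_eq_one.1 e1
    obtain ⟨rfl, rfl⟩ := h.conj_inj (fun e : u = 1 => hu' (e ▸ one_mem _)) hu hv hb hb' (mul_left_cancel e')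
    rfl
  · rintro ⟨g, hg⟩
    obtain ⟨a, ha, b, hb, u, hu, hc, rfl⟩ := h.exists_form hg
    exact ⟨⟨⟨a, ha⟩, ⟨b, hb⟩, ⟨u, hc, hu⟩⟩, rfl⟩

theorem exists_comm' (h : Bc M z) {w : G} (h2 : w * w = 1) :
    ∃ b ∈ M, ∃ s : G, s * z = z * s ∧ w = b * s * b⁻¹ := by
  by_cases h1 : w = 1
  · exact ⟨1, M.one_mem, 1, by simp, by simp [h1]⟩
  by_cases hN : w ∈ normalizer (M : Set G)
  · obtain ⟨b, hb, e⟩ := h.invol_conj hN h2 h1
    exact ⟨b, hb, z, rfl, e⟩
  · obtain ⟨b, hb, e⟩ := h.exists_comm hN h2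
    exact ⟨b, hb, _, e, by group⟩

omit [Finite G] in
theorem sq_of_isConj (h : Bc M z) {w : G} (hw : IsConj z w) : w * w = 1 ∧ w ≠ 1 := by
  obtain ⟨c, rfl⟩ := isConj_iff.1 hw
  refine ⟨?_, fun e => h.z1 (by simpa using e)⟩
  calc _ = c * (z * z) * c⁻¹ := by group
    _ = 1 := by rw [h.z2]; group

theorem card_class (h : Bc M z) :
    Nat.card {w // IsConj z w} = Nat.card M * {s | s * z = z * s ∧ IsConj z s}.ncard := by
  rw [← Nat.card_coe_set_eq, ← Nat.card_prod]
  refine (Nat.card_congr (Equiv.ofBijective (fun x : M × {s | s * z = z * s ∧ IsConj z s} =>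
    (⟨x.1 * x.2 * (x.1 : G)⁻¹, x.2.2.2.trans (isConj_iff.2 ⟨_, rfl⟩)⟩ : {w // IsConj z w}))
      ⟨?_, ?_⟩)).symm
  · rintro ⟨⟨b, hb⟩, ⟨u, hu, hu'⟩⟩ ⟨⟨b', hb'⟩, ⟨v, hv, hv'⟩⟩ e
    obtain ⟨rfl, rfl⟩ := h.conj_inj (h.sq_of_isConj hu').2 hu hv hb hb' (congrArg Subtype.val e)
    rfl
  · rintro ⟨w, hw⟩
    obtain ⟨b, hb, s, hs, rfl⟩ := h.exists_comm' (h.sq_of_isConj hw).1
    exact ⟨⟨⟨b, hb⟩, ⟨s, hs, hw.trans (isConj_iff.2 ⟨b⁻¹, by group⟩)⟩⟩, rfl⟩

theorem card_cent (h : Bc M z) : Nat.card (centralizer ({z} : Set G)) =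
    {s | s * z = z * s ∧ s ∉ normalizer (M : Set G)}.ncard + 2 := by
  have e : ((centralizer ({z} : Set G) : Subgroup G) : Set G) =
      insert 1 (insert z {s | s * z = z * s ∧ s ∉ normalizer (M : Set G)}) := by
    ext s
    simp only [SetLike.mem_coe, mem_centralizer_singleton_iff, Set.mem_insert_iff, Set.mem_ofPred_eq]
    constructor
    · intro hs
      by_cases hN : s ∈ normalizer (M : Set G)
      · rcases h.two s hN hs with e | e
        · exact Or.inl e
        · exact Or.inr (Or.inl e)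
      · exact Or.inr (Or.inr ⟨hs, hN⟩)
    · rintro (rfl | rfl | hs)
      · simp
      · rfl
      · exact hs.1
  rw [← SetLike.coe_sort_coe, Nat.card_coe_set_eq, e, Set.ncard_insert_of_notMem,
    Set.ncard_insert_of_notMem]
  · exact fun h' => h'.2 h.zN
  · rintro (h' | h')
    · exact h.z1 h'.symm
    · exact h'.2 (one_mem _)

theorem card_cent' (h : Bc M z) : Nat.card (centralizer ({z} : Set G)) =
    {s | s * z = z * s ∧ IsConj z s}.ncard + {s | s * z = z * s ∧ s ≠ 1 ∧ ¬ IsConj z s}.ncard + 1 := by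
  have e : ((centralizer ({z} : Set G) : Subgroup G) : Set G) =
      insert 1 ({s | s * z = z * s ∧ IsConj z s} ∪ {s | s * z = z * s ∧ s ≠ 1 ∧ ¬ IsConj z s}) := by
    ext s
    simp only [SetLike.mem_coe, mem_centralizer_singleton_iff, Set.mem_insert_iff, Set.mem_ofPred_eq,
      Set.mem_union]
    constructor
    · intro hs
      by_cases h1 : s = 1
      · exact Or.inl h1
      by_cases h2 : IsConj z s
      · exact Or.inr (Or.inl ⟨hs, h2⟩)
      · exact Or.inr (Or.inr ⟨hs, h1, h2⟩)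
    · rintro (rfl | hs | hs)
      · simp
      · exact hs.1
      · exact hs.1
  rw [← SetLike.coe_sort_coe, Nat.card_coe_set_eq, e, Set.ncard_insert_of_notMem,
    Set.ncard_union_eq]
  · exact Set.disjoint_left.2 fun s h1 h2 => h2.2.2 h1.2
  · rintro (h' | h')
    · exact (h.sq_of_isConj h'.2).2 rfl
    · exact h'.2.1 rfl

/-- The numerical alternative. -/
theorem numbers (h : Bc M z) : ∃ d : ℕ, 1 ≤ d ∧ Nat.card (centralizer ({z} : Set G)) = 2 ^ (d + 1) ∧
    ((Nat.card M = 2 ^ d + 1 ∧ Nat.card G = 2 * (2 ^ d + 1) * 2 ^ (2 * d) ∧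
        {s | s * z = z * s ∧ s ≠ 1 ∧ ¬ IsConj z s}.ncard + 1 = 2 ^ d) ∨
      (Nat.card M = 2 ^ (d + 1) + 1 ∧
        Nat.card G = 2 ^ (d + 1) * (2 ^ (d + 1) - 1) * (2 ^ (d + 1) + 1) ∧
        ∀ s : G, s * z = z * s → s ≠ 1 → IsConj z s)) := by
  have hp : IsPGroup 2 (centralizer ({z} : Set G)) := fun s => ⟨1, Subtype.ext (by
    simpa [pow_two] using h.sq_of_comm' (mem_centralizer_singleton_iff.1 s.2))⟩
  obtain ⟨k, hk⟩ := hp.exists_card_eq
  have h1 := h.card_group
  have h2 := Local.card_isConj_mul_card_centralizer z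
  have h3 := h.card_cent
  have h4 := h.card_cent'
  rw [h.card_class] at h2
  have ht : 0 < {s | s * z = z * s ∧ s ∉ normalizer (M : Set G)}.ncard := by
    obtain ⟨g0, hg0⟩ : ∃ g0, g0 ∉ normalizer (M : Set G) := by
      by_contra h'
      push Not at h'
      exact h.ntop ((Subgroup.eq_top_iff' _).2 h')
    obtain ⟨-, -, -, -, u, hu, hc, -⟩ := h.exists_form hg0
    exact (Set.ncard_pos (Set.toFinite _)).2 ⟨u, hc, hu⟩
  have hm : 1 < Nat.card M := (one_lt_card_iff_ne_bot M).2 h.ne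
  have hemp : {s | s * z = z * s ∧ s ≠ 1 ∧ ¬ IsConj z s}.ncard = 0 →
      ∀ s : G, s * z = z * s → s ≠ 1 → IsConj z s := by
    intro e s hs hs1
    by_contra h'
    rw [Set.ncard_eq_zero] at e
    exact (e ▸ (show s ∈ {s | s * z = z * s ∧ s ≠ 1 ∧ ¬ IsConj z s} from ⟨hs, hs1, h'⟩) :
      s ∈ (∅ : Set G))
  generalize {s | s * z = z * s ∧ s ∉ normalizer (M : Set G)}.ncard = t at *
  generalize {s | s * z = z * s ∧ IsConj z s}.ncard = c at *
  generalize {s | s * z = z * s ∧ s ≠ 1 ∧ ¬ IsConj z s}.ncard = j at *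
  generalize Nat.card M = m at *
  obtain ⟨d, rfl⟩ : ∃ d, k = d + 1 + 1 := by
    rcases k with _ | _ | k
    · omega
    · omega
    · exact ⟨k, rfl⟩
  refine ⟨d + 1, by omega, hk, ?_⟩
  have hf : 2 ^ (d + 1 + 1) = 2 * 2 ^ (d + 1) := by ring
  have hf2 : 2 ^ (2 * (d + 1)) = 2 ^ (d + 1) * 2 ^ (d + 1) := by ring
  have hf1 : 2 ≤ 2 ^ (d + 1) := by
    have := Nat.one_le_two_pow (n := d); omega
  rw [hk, hf] at h2 h3 h4
  rw [hf, hf2]
  generalize 2 ^ (d + 1) = f at *
  obtain ⟨f, rfl⟩ : ∃ f', f = f' + 1 := ⟨f - 1, by omega⟩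
  obtain rfl : t = 2 * f := by omega
  have h5 : c * (f + 1) = 1 + m * f := by
    have : m * (2 * (c * (f + 1))) = m * (2 * (1 + m * f)) := by
      calc m * (2 * (c * (f + 1))) = m * c * (2 * (f + 1)) := by ring
        _ = _ := by rw [h2, h1]; ring
    have := Nat.eq_of_mul_eq_mul_left (by omega) this
    omega
  have h6 : c < m := by
    by_contra h'
    have : m * f ≤ c * f := Nat.mul_le_mul_right _ (by omega)
    nlinarith
  obtain ⟨i, rfl⟩ : ∃ i, m = c + i := ⟨m - c, by omega⟩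
  have h7 : c = 1 + i * f := by nlinarith
  have h8 : i ≤ 2 := by
    by_contra h'
    have : 3 * f ≤ i * f := Nat.mul_le_mul_right _ (by omega)
    omega
  obtain rfl | rfl : i = 1 ∨ i = 2 := by omega
  · left
    subst h7
    refine ⟨by omega, by rw [h1]; ring, by omega⟩
  · right
    subst h7
    refine ⟨by omega, ?_, hemp (by omega)⟩
    rw [h1, show 2 * (f + 1) - 1 = 2 * f + 1 by omega]; ring

omit [Finite G] in
theorem eq_one_of_pow (h : Bc M z) {a : G} (ha : a ∈ M) {k : ℕ} (e : a ^ 2 ^ k = 1) : a = 1 := by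
  induction k with
  | zero => simpa using e
  | succ k ih =>
    refine ih (h.sq (M.pow_mem ha _) ?_)
    rw [← pow_add, ← two_mul, mul_comm, ← pow_succ, e]

theorem inf_eq_bot (h : Bc M z) {E : Subgroup G} [hE : E.Normal] (hp : IsPGroup 2 E) :
    E ⊓ normalizer (M : Set G) = ⊥ := by
  have h1 : ∀ a ∈ E, a ∈ M → a = 1 := fun a ha ha' => by
    obtain ⟨k, hk⟩ := hp ⟨a, ha⟩
    exact h.eq_one_of_pow ha' (congrArg Subtype.val hk)
  rw [eq_bot_iff]
  rintro e ⟨he, heN⟩
  rcases h.mem_iff.1 heN with h' | h'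
  · exact h1 e he h'
  exfalso
  obtain ⟨⟨x, hx⟩, hx1⟩ := ne_bot_iff_exists_ne_one.1 h.ne
  have e2 : e * e = 1 := by
    calc e * e = (e * z) * (z * (e * z) * z⁻¹) * (e⁻¹ * (z * z)⁻¹ * e) * 1 := by
          rw [h.z2, inv_eq_of_sq h.z2]; simp only [mul_assoc, h.z2, ← mul_assoc z z, one_mul,
            mul_one, inv_one, inv_mul_cancel]
      _ = 1 := by rw [h.zinv h', h.z2]; group
  have e1 : e ≠ 1 := fun e1 => h.z_not_mem (by simpa [e1] using h')
  have e3 := h.inv heN e2 e1 hx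
  refine hx1 (Subtype.ext (h.sq hx (h1 _ ?_ (M.mul_mem hx hx))))
  have : x * x = (x * e * x⁻¹) * e⁻¹ := by
    calc x * x = x * (e * x * e⁻¹)⁻¹ := by rw [e3, inv_inv]
      _ = _ := by group
  rw [this]
  exact E.mul_mem (hE.conj_mem e he x) (E.inv_mem he)

theorem affine (h : Bc M z) {d : ℕ} (hd : 1 ≤ d) (hM : Nat.card M = 2 ^ d + 1)
    (hG : Nat.card G = 2 * (2 ^ d + 1) * 2 ^ (2 * d))
    (hJ : {s | s * z = z * s ∧ s ≠ 1 ∧ ¬ IsConj z s}.ncard + 1 = 2 ^ d) :
    ∃ E : Subgroup G, E.Normal ∧ IsElementaryAbelian 2 E ∧ Nat.card E = 2 ^ (2 * d) ∧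
      E ⊓ normalizer (M : Set G) = ⊥ ∧ E ⊔ normalizer (M : Set G) = ⊤ ∧
      Nonempty (normalizer (M : Set G) ≃* DihedralGroup (2 ^ d + 1)) := by
  have hidx : M.index = 2 ^ (2 * d + 1) := by
    have := M.card_mul_index
    rw [hG, hM] at this
    refine Nat.eq_of_mul_eq_mul_left (show 0 < 2 ^ d + 1 by positivity) (this.trans ?_)
    rw [pow_succ]; ring
  have hmem : ∀ s : G, s * s = 1 → ¬ IsConj z s → s ∈ pCore 2 G := by
    intro s hs hzs
    by_contra h'
    obtain ⟨x, q, hq, hq2, hx, e⟩ := Solv.Real.exists_inverted_of_not_mem_pCore hs h'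
    have : Fact q.Prime := ⟨hq⟩
    obtain ⟨g, hg⟩ := Char.exists_conj_mem_of_not_dvd_index (p := q) (H := M) (x := x) (k := 1)
      (fun h' => hq2 ((Nat.prime_dvd_prime_iff_eq hq Nat.prime_two).1
        (hq.dvd_of_dvd_pow (hidx ▸ h')))) (by rw [pow_one, ← hx, pow_orderOf_eq_one])
    have hx1 : x ≠ 1 := fun e => hq.ne_one (by rw [← hx, e, orderOf_one])
    have hN := h.mem_of_inv (v := g * s * g⁻¹) hg (fun e => hx1 (by simpa using e)) (by
      calc _ = g * (s * x * s⁻¹) * g⁻¹ := by group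
        _ = _ := by rw [e]; group)
    obtain ⟨b, -, hb⟩ := h.invol_conj hN (by
      calc _ = g * (s * s) * g⁻¹ := by group
        _ = 1 := by rw [hs]; group) (fun e => h' (by
          have : s = 1 := by simpa using e
          exact this ▸ one_mem _))
    exact hzs (isConj_iff.2 ⟨g⁻¹ * b, by
      calc _ = g⁻¹ * (b * z * b⁻¹) * g := by group
        _ = s := by rw [← hb]; group⟩)
  have hp : IsPGroup 2 (pCore 2 G) := Solv.pCore_isPGroup 2 G
  set E := pCore 2 G
  have hEn : E.Normal := inferInstance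
  have hinf := h.inf_eq_bot hp
  have hsup := Solv.card_sup_of_disjoint_of_le_normalizer (H := normalizer (M : Set G)) (N := E)
    (le_normalizer_of_normal) hinf
  rw [h.card_normalizer, hM] at hsup
  have hle : Nat.card E ≤ 2 ^ (2 * d) := by
    have h1 : Nat.card (E ⊔ normalizer (M : Set G) : Subgroup G) ≤ Nat.card G :=
      Subgroup.card_le_card_group _
    rw [hsup, hG, mul_comm] at h1
    exact Nat.le_of_mul_le_mul_left h1 (by positivity)
  let f : Option (M × {s | s * z = z * s ∧ s ≠ 1 ∧ ¬ IsConj z s}) → E := fun o =>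
    match o with
    | none => 1
    | some x => ⟨x.1 * x.2 * (x.1 : G)⁻¹,
        hEn.conj_mem _ (hmem _ (h.sq_of_comm' x.2.2.1) x.2.2.2.2) _⟩
  have hf : Function.Injective f := by
    rintro (_ | ⟨⟨b, hb⟩, ⟨s, hs, hs1, hs2⟩⟩) (_ | ⟨⟨c, hc⟩, ⟨t, ht, ht1, ht2⟩⟩) e
    · rfl
    · exact absurd (by simpa [f] using (congrArg Subtype.val e).symm) ht1
    · exact absurd (by simpa [f] using congrArg Subtype.val e) hs1
    · obtain ⟨rfl, rfl⟩ := h.conj_inj hs1 hs ht hb hc (congrArg Subtype.val e)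
      rfl
  have hc : Nat.card (Option (M × {s | s * z = z * s ∧ s ≠ 1 ∧ ¬ IsConj z s})) = 2 ^ (2 * d) := by
    rw [Finite.card_option, Nat.card_prod, Nat.card_coe_set_eq, hM, two_mul, pow_add, ← hJ]
    ring
  have hE : Nat.card E = 2 ^ (2 * d) :=
    le_antisymm hle (hc ▸ Nat.card_le_card_of_injective f hf)
  have hsq : ∀ e ∈ E, e * e = 1 := by
    intro e he
    obtain ⟨o, ho⟩ := ((Nat.bijective_iff_injective_and_card f).2 ⟨hf, hc.trans hE.symm⟩).2 ⟨e, he⟩
    have ho' := congrArg Subtype.val ho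
    rcases o with _ | ⟨⟨b, hb⟩, ⟨s, hs, hs'⟩⟩
    · rw [← show (1 : G) = e from ho', mul_one]
    · rw [← show b * s * b⁻¹ = e from ho']
      calc _ = b * (s * s) * b⁻¹ := by group
        _ = 1 := by rw [h.sq_of_comm' hs]; group
  refine ⟨E, hEn, ⟨⟨⟨fun x y => Subtype.ext ?_⟩⟩, fun a ha => by rw [pow_two, hsq a ha]⟩, hE, hinf,
    Subgroup.eq_top_of_card_eq _ (by rw [hsup, hE, hG, mul_comm]), ?_⟩
  · have := inv_eq_of_sq (hsq _ (E.mul_mem x.2 y.2))
    rw [mul_inv_rev, inv_eq_of_sq (hsq _ x.2), inv_eq_of_sq (hsq _ y.2)] at this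
    exact this.symm
  have : IsMulCommutative M := ⟨⟨fun x y => Subtype.ext (h.comm x.2 y.2)⟩⟩
  have hcyc : IsCyclic M := by
    refine Solv.Fpf.isCyclic_of_isMulCommutative (K := E) (H := M) le_normalizer_of_normal
      (fun e => ?_) (fun x hx hx1 => ?_) le_rfl
    · rw [e, Subgroup.card_bot] at hE
      have := Nat.one_lt_two_pow (n := 2 * d) (by omega)
      omega
    · rw [eq_bot_iff]
      rintro e ⟨he, hc⟩
      exact h.odd x hx hx1 e (hsq e he) (mem_centralizer_singleton_iff.1 hc)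
  obtain ⟨⟨r, hr⟩, hr'⟩ := hcyc.exists_generator
  have hzr : zpowers r = M := le_antisymm (zpowers_le_of_mem hr) fun x hx => by
    obtain ⟨n, hn⟩ := hr' ⟨x, hx⟩
    exact ⟨n, congrArg Subtype.val hn⟩
  obtain ⟨e⟩ := Solv.PG.nonempty_sup_mulEquiv_dihedralGroup (n := 2 ^ d + 1) (s := z) (r := r)
    (by rw [← Nat.card_zpowers, hzr, hM]) h.z2 (h.zinv hr) (by rw [hzr]; exact h.z_not_mem)
  refine ⟨(MulEquiv.subgroupCongr ?_).trans e⟩
  rw [hzr]
  refine le_antisymm (fun g hg => ?_) (sup_le le_normalizer (zpowers_le_of_mem h.zN))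
  rcases h.mem_iff.1 hg with h' | h'
  · exact mem_sup_left h'
  · rw [← mul_inv_cancel_right g z]
    exact Subgroup.mul_mem _ (mem_sup_left h') (mem_sup_right (Subgroup.inv_mem _ (mem_zpowers z)))

theorem linear (h : Bc M z) {d : ℕ} (hd : 1 ≤ d)
    (hC : Nat.card (centralizer ({z} : Set G)) = 2 ^ (d + 1))
    (hG : Nat.card G = 2 ^ (d + 1) * (2 ^ (d + 1) - 1) * (2 ^ (d + 1) + 1))
    (hJ : ∀ s : G, s * z = z * s → s ≠ 1 → IsConj z s) :
    ∃ (F : Type) (_ : Field F) (_ : Fintype F), Fintype.card F = 2 ^ (d + 1) ∧ IsCyclic M ∧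
      Nonempty (G ≃* PSL(2, F)) := by
  have hcomm : ∀ a b : G, a * z = z * a → b * z = z * b → a * b = b * a := fun a b ha hb => by
    have := inv_eq_of_sq (h.sq_of_comm' (Commute.mul_left ha hb).eq)
    rw [mul_inv_rev, inv_eq_of_sq (h.sq_of_comm' ha), inv_eq_of_sq (h.sq_of_comm' hb)] at this
    exact this.symm
  have hz : orderOf z = 2 := orderOf_eq_prime (by rw [pow_two, h.z2]) h.z1
  have hp : IsPGroup 2 (centralizer ({z} : Set G)) := IsPGroup.of_card hC
  obtain ⟨P, hP⟩ := hp.exists_le_sylow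
  rcases Cfsg.Agent.S2202.result (G := G) (even_iff_two_dvd.2 (hz ▸ orderOf_dvd_natCard z)) (by
    intro t ht
    have ht2 : t * t = 1 := by rw [← pow_two, ← ht, pow_orderOf_eq_one]
    obtain ⟨b, -, s, hs, rfl⟩ := h.exists_comm' ht2
    obtain ⟨c, rfl⟩ := isConj_iff.1 (hJ s hs (fun e => by simp [e] at ht))
    refine ⟨⟨fun x y => Subtype.ext ?_⟩⟩
    have key : ∀ x : G, x ∈ centralizer ({b * (c * z * c⁻¹) * b⁻¹} : Set G) →
        ((b * c)⁻¹ * x * (b * c)) * z = z * ((b * c)⁻¹ * x * (b * c)) := fun x hx => by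
      calc _ = (b * c)⁻¹ * (x * (b * (c * z * c⁻¹) * b⁻¹)) * (b * c) := by group
        _ = _ := by rw [mem_centralizer_singleton_iff.1 hx]; group
    have := hcomm _ _ (key x x.2) (key y y.2)
    calc (x : G) * y = (b * c) * ((b * c)⁻¹ * x * (b * c) * ((b * c)⁻¹ * y * (b * c))) * (b * c)⁻¹ := by
          group
      _ = y * x := by rw [this]; group) with h1 | h1 | ⟨F, _, _, A, _, _, hF, hA, ⟨e⟩⟩
  · exfalso
    have := h1 P
    have h2 : IsCyclic (centralizer ({z} : Set G)) := Subgroup.isCyclic_of_le hP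
    have h3 := FT.Metacyclic.card_le_of_isCyclic_of_pow_eq_one two_pos h2 (fun s => Subtype.ext (by
      simpa [pow_two] using h.sq_of_comm' (mem_centralizer_singleton_iff.1 s.2)))
    rw [hC, pow_succ] at h3
    have := Nat.one_lt_two_pow (n := d) (by omega)
    omega
  · exfalso
    have := h1 P
    have h2 : z ∈ (P : Subgroup G) ⊓ normalizer (M : Set G) :=
      ⟨hP (mem_centralizer_singleton_iff.2 rfl), h.zN⟩
    rw [h.inf_eq_bot P.isPGroup'] at h2
    exact h.z1 h2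
  have hA1 : ∀ a : A, a = 1 := fun a => by
    have h1 := h.sq_of_comm' (s := e.symm (1, a)) (e.injective (by
      rw [map_mul, map_mul, e.apply_symm_apply]; ext : 1 <;> simp [mul_comm]))
    have h2 : a * a = 1 := by simpa using congrArg (fun x => (e x).2) h1
    have h3 := orderOf_dvd_natCard a
    have h4 : orderOf a ∣ 2 := orderOf_dvd_of_pow_eq_one (by rw [pow_two, h2])
    rcases (Nat.dvd_prime Nat.prime_two).1 h4 with h5 | h5
    · exact orderOf_eq_one_iff.1 h5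
    · exact absurd (even_iff_two_dvd.2 (h5 ▸ h3)) (Nat.not_even_iff_odd.2 hA)
  have : Unique A := ⟨⟨1⟩, hA1⟩
  let e1 : G ≃* SL(2, F) := e.trans MulEquiv.prodUnique
  have hcard : Nat.card F = 2 ^ (d + 1) := by
    have h1 := Class.card_SL2 (F := F)
    rw [← Nat.card_congr e1.toEquiv, hG] at h1
    have mono : ∀ x y : ℕ, x < y → x * (x - 1) * (x + 1) < y * (y - 1) * (y + 1) ∨ y ≤ 1 := by
      intro x y hxy
      by_cases hy : y ≤ 1
      · exact Or.inr hy
      left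
      exact Nat.mul_lt_mul_of_le_of_lt (Nat.mul_le_mul hxy.le (by omega)) (by omega)
        (Nat.mul_pos (by omega) (by omega))
    have h2 : 1 < Nat.card F := Finite.one_lt_card
    have h3 := Nat.one_lt_two_pow (n := d + 1) (by omega)
    rcases lt_trichotomy (Nat.card F) (2 ^ (d + 1)) with h4 | h4 | h4
    · have := mono _ _ h4; omega
    · exact h4
    · have := mono _ _ h4; omega
  have hbij : Function.Bijective (Matrix.SpecialLinearGroup.toPGL (n := Fin 2) (R := F)) := by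
    have : Finite (Matrix.ProjGenLinGroup (Fin 2) F) :=
      Finite.of_surjective _ Matrix.ProjGenLinGroup.mk_surjective
    rw [Nat.bijective_iff_injective_and_card]
    refine ⟨?_, (Cfsg.Agent.S0265.result 2).symm⟩
    rw [← MonoidHom.ker_eq_bot_iff, Matrix.SpecialLinearGroup.toPGL_ker, eq_bot_iff]
    intro g hg
    obtain ⟨c, hc, hg⟩ := Matrix.SpecialLinearGroup.mem_center_iff.1 hg
    have h1 : c = 1 := by
      rw [Fintype.card_fin] at hc
      have h2 : (c - 1) ^ 2 = 0 := by rw [sub_pow_char, hc, one_pow, sub_self]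
      exact sub_eq_zero.1 (pow_eq_zero_iff two_ne_zero |>.1 h2)
    rw [Subgroup.mem_bot]
    ext1
    rw [← hg, h1, map_one]
    rfl
  let e2 : G ≃* PGL(2, F) := e1.trans (MulEquiv.ofBijective _ hbij)
  have hsurj : Function.Surjective (Class.pslι (F := F)) := by
    intro g
    obtain ⟨H, hH⟩ := Class.exists_subgroup_psl_of_le (F := F) (M := ⊤)
      (by rw [Class.psl2_eq_top (ringChar.eq F 2)])
    obtain ⟨x, -, hx⟩ := (hH ▸ mem_top g : g ∈ H.map Class.pslι)
    exact ⟨x, hx⟩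
  refine ⟨F, inferInstance, inferInstance, by rw [← Nat.card_eq_fintype_card, hcard], ?_,
    ⟨e2.trans (MulEquiv.ofBijective _ ⟨Class.pslι_injective, hsurj⟩).symm⟩⟩
  obtain ⟨⟨t, ht⟩, ht1⟩ := ne_bot_iff_exists_ne_one.1 h.ne
  have ht1' : t ≠ 1 := fun e => ht1 (Subtype.ext e)
  obtain ⟨x, y, hxy, htf⟩ := Class.exists_torusPair 2 (g := e2 t) (fun e => ht1' (h.sq ht (by
    rw [← map_pow, pow_two] at e; exact e2.injective (by rw [e, map_one]))))
  have hle : M.map e2.toMonoidHom ≤ Class.fixPair x y := by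
    rintro _ ⟨g, hg, rfl⟩
    by_cases hg1 : g = 1
    · rw [hg1, map_one]; exact one_mem _
    refine Class.mem_fixPair_of_mul_self_ne hxy.ne (Class.mem_stabPair_of_commute hxy.ne
      (fun e => ht1' (e2.injective (by rw [e, map_one]))) htf ?_) (fun e => hg1 (h.sq hg ?_))
    · change e2 t * e2 g = e2 g * e2 t
      rw [← map_mul, h.comm ht hg, map_mul]
    · exact e2.injective (by rw [map_mul, map_one]; exact e)
  have : IsCyclic (M.map (e2 : G →* PGL(2, F))) := Class.isCyclic_of_le_fixPair hxy.ne hle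
  exact isCyclic_of_surjective _ (e2.subgroupMap M).symm.surjective

end Bc

end Cfsg.Lib.TIInv
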