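import Mathlib
import Cfsg.Agent.Local.PCoreOf
import Cfsg.Agent.Trans.GenFitting
import Cfsg.Agent.Solv.FittingOf
import Cfsg.Agent.S3752

/-!
# The Thompson–Wielandt theorem for two conjugate primitive subgroups
-/

namespace Cfsg.Lib.Perm

open Subgroup Cfsg Cfsg.Lib.Solv Cfsg.Lib.Trans Cfsg.Lib.Local Cfsg.Lib.Local.MSS
open scoped Pointwise

set_option linter.unusedSectionVars false

variable {G : Type*} [Group G]

/-- The largest normal subgroup of `M` contained in `Y`. -/
def coreIn (M Y : Subgroup G) : Subgroup G := (Y.subgroupOf M).normalCore.map M.subtype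

theorem mem_coreIn {M Y : Subgroup G} {x : G} :
    x ∈ coreIn M Y ↔ x ∈ M ∧ ∀ m ∈ M, m * x * m⁻¹ ∈ Y := by
  constructor
  · rintro ⟨y, hy, rfl⟩
    exact ⟨y.2, fun m hm => hy ⟨m, hm⟩⟩
  · rintro ⟨h1, h2⟩
    exact ⟨⟨x, h1⟩, fun m => h2 m m.2, rfl⟩

theorem coreIn_le_left (M Y : Subgroup G) : coreIn M Y ≤ M := map_subtype_le _

theorem coreIn_le_right (M Y : Subgroup G) : coreIn M Y ≤ Y := fun x hx => by
  simpa using (mem_coreIn.1 hx).2 1 M.one_mem

theorem le_normalizer_coreIn (M Y : Subgroup G) : M ≤ normalizer (coreIn M Y : Set G) :=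
  le_normalizer_map_subtype _

theorem le_coreIn {M Y N : Subgroup G} (h1 : N ≤ M) (h2 : N ≤ Y)
    (hn : M ≤ normalizer (N : Set G)) : N ≤ coreIn M Y := fun _ hx =>
  mem_coreIn.2 ⟨h1 hx, fun _ hm => h2 (conj_mem_of_mem_normalizer (hn hm) hx)⟩

theorem coreIn_mono (M : Subgroup G) {Y Z : Subgroup G} (h : Y ≤ Z) : coreIn M Y ≤ coreIn M Z :=
  le_coreIn (coreIn_le_left _ _) ((coreIn_le_right _ _).trans h) (le_normalizer_coreIn _ _)

theorem coreIn_inf_self (M Y : Subgroup G) : coreIn M (M ⊓ Y) = coreIn M Y := by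
  rw [coreIn, inf_subgroupOf_left]; rfl

theorem coreIn_inf_self' (M Y : Subgroup G) : coreIn M (Y ⊓ M) = coreIn M Y := by
  rw [inf_comm, coreIn_inf_self]

/-- Two distinct conjugate subgroups, each the normaliser of all its nontrivial normal
subgroups. -/
structure PrimPair (H K : Subgroup G) : Prop where
  ne : H ≠ K
  left : ∀ N : Subgroup G, N ≠ ⊥ → N ≤ H → H ≤ normalizer (N : Set G) → normalizer (N : Set G) ≤ H
  conj : ∃ g : G, K = cj g H

theorem normalizer_le_of_isCoatom {H : Subgroup G} (hH : IsCoatom H) (hc : H.normalCore = ⊥)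
    (N : Subgroup G) (h0 : N ≠ ⊥) (h1 : N ≤ H) (h2 : H ≤ normalizer (N : Set G)) :
    normalizer (N : Set G) ≤ H := by
  rcases h2.eq_or_lt with h | h
  · exact h.ge
  · have : N.Normal := normalizer_eq_top_iff.1 (hH.2 _ h)
    exact absurd (le_bot_iff.1 (hc ▸ normal_le_normalCore.2 h1)) h0

namespace PrimPair

variable {H K : Subgroup G}

theorem right (h : PrimPair H K) (N : Subgroup G) (h0 : N ≠ ⊥) (h1 : N ≤ K)
    (h2 : K ≤ normalizer (N : Set G)) : normalizer (N : Set G) ≤ K := by
  obtain ⟨g, rfl⟩ := h.conj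
  have := h.left (cj g⁻¹ N) (by rwa [Ne, cj_eq_bot]) (cj_inv_le_iff_le_cj.2 h1)
    (by rw [← cj_normalizer]; exact cj_le_iff_le_cj_inv.1 h2)
  rwa [← cj_normalizer, cj_inv_le_iff_le_cj] at this

theorem symm (h : PrimPair H K) : PrimPair K H :=
  ⟨h.ne.symm, h.right, by obtain ⟨g, rfl⟩ := h.conj; exact ⟨g⁻¹, (cj_inv_cj g H).symm⟩⟩

theorem card_eq (h : PrimPair H K) : Nat.card K = Nat.card H := by
  obtain ⟨g, rfl⟩ := h.conj; exact card_cj g H

variable [Finite G]

theorem not_le (h : PrimPair H K) : ¬ K ≤ H := fun hle =>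
  h.ne (eq_of_le_of_card_ge hle h.card_eq.ge).symm

theorem eq_bot (h : PrimPair H K) {N : Subgroup G} (h1 : N ≤ H) (h2 : H ≤ normalizer (N : Set G))
    (h3 : K ≤ normalizer (N : Set G)) : N = ⊥ := by
  by_contra h0
  exact h.not_le (h3.trans (h.left N h0 h1 h2))

theorem relIndex_eq (h : PrimPair H K) : H.relIndex K = K.relIndex H := by
  have h1 := card_inf_mul_relIndex H K
  have h2 := card_inf_mul_relIndex K H
  rw [inf_comm, ← h.card_eq, ← h1] at h2
  exact (Nat.eq_of_mul_eq_mul_left Nat.card_pos h2).symm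

variable {p : ℕ}

theorem card_pCoreOf (h : PrimPair H K) : Nat.card (pCoreOf p K) = Nat.card (pCoreOf p H) := by
  obtain ⟨g, rfl⟩ := h.conj
  rw [pCoreOf_cj, card_cj]

theorem pCoreOf_eq_bot_iff (h : PrimPair H K) : pCoreOf p K = ⊥ ↔ pCoreOf p H = ⊥ := by
  rw [← card_le_one_iff_eq_bot, ← card_le_one_iff_eq_bot, h.card_pCoreOf]

theorem pCoreOf_eq_bot_of_le (h : PrimPair H K) (hle : pCoreOf p H ≤ pCoreOf p K) :
    pCoreOf p H = ⊥ := by
  have e := eq_of_le_of_card_ge hle h.card_pCoreOf.le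
  exact h.eq_bot (MSS.pCoreOf_le H) (self_le_normalizer_pCoreOf H)
    (e ▸ self_le_normalizer_pCoreOf K)

theorem card_layer (h : PrimPair H K) :
    Nat.card ((layer K).map K.subtype) = Nat.card ((layer H).map H.subtype) := by
  obtain ⟨g, rfl⟩ := h.conj
  rw [← map_layer_subtype_map_of_injective _ (MulAut.conj g).injective]
  exact card_cj g _

theorem layer_eq_bot_of_le (h : PrimPair H K)
    (hle : (layer H).map H.subtype ≤ (layer K).map K.subtype) : (layer H).map H.subtype = ⊥ := by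
  have e := eq_of_le_of_card_ge hle h.card_layer.le
  exact h.eq_bot (map_subtype_le _) (le_normalizer.trans (normalizer_le_normalizer_map_layer H))
    (e ▸ le_normalizer.trans (normalizer_le_normalizer_map_layer K))

theorem subnormalIn_core₂ (H K : Subgroup G) : SubnormalIn (coreIn H (coreIn K H)) K :=
  SubnormalIn.step (coreIn_le_right _ _)
    ((coreIn_le_right _ _).trans (le_normalizer_coreIn _ _))
    (SubnormalIn.of_le_normalizer (coreIn_le_left _ _) (le_normalizer_coreIn _ _))

/-- If `O_p(H) ⊓ K ≤ O_p(K) ≤ H` then `O_p(H) = 1`. -/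
theorem pCoreOf_eq_bot_of_inf_le [Fact p.Prime] (h : PrimPair H K) (h1 : pCoreOf p K ≤ H)
    (h2 : pCoreOf p H ⊓ K ≤ pCoreOf p K) : pCoreOf p H = ⊥ := by
  by_contra h0
  have hK0 : pCoreOf p K ≠ ⊥ := fun e => h0 (h.pCoreOf_eq_bot_iff.1 e)
  refine h0 (h.pCoreOf_eq_bot_of_le ?_)
  have hn : pCoreOf p K ≤ normalizer (pCoreOf p H : Set G) := h1.trans (self_le_normalizer_pCoreOf H)
  have hS : IsPGroup p (pCoreOf p H ⊔ pCoreOf p K : Subgroup G) :=
    isPGroup_sup' (MSS.isPGroup_pCoreOf H) (MSS.isPGroup_pCoreOf K) hn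
  by_contra hlt
  have hlt' : pCoreOf p K < pCoreOf p H ⊔ pCoreOf p K :=
    lt_of_le_of_ne le_sup_right fun e => hlt (e ▸ le_sup_left)
  have hnil := hS.isNilpotent
  have h3 := Group.normalizerCondition_of_isNilpotent
    ((pCoreOf p K).subgroupOf (pCoreOf p H ⊔ pCoreOf p K)) (by
      rw [lt_top_iff_ne_top, Ne, subgroupOf_eq_top]; exact hlt'.not_ge)
  obtain ⟨x, hx1, hx2⟩ := SetLike.exists_of_lt h3
  rw [← subgroupOf_normalizer_eq le_sup_right] at hx1
  have hxK : (x : G) ∈ K :=
    h.right _ hK0 (MSS.pCoreOf_le K) (self_le_normalizer_pCoreOf K) hx1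
  obtain ⟨a, ha, b, hb, e⟩ := (Solv.mem_sup_of_le_normalizer hn).1 x.2
  apply hx2
  rw [mem_subgroupOf, ← e]
  refine mul_mem (h2 ⟨ha, ?_⟩) hb
  have : a = x * b⁻¹ := by rw [← e]; group
  rw [this]
  exact K.mul_mem hxK (K.inv_mem (MSS.pCoreOf_le K hb))

/-- The key step: if the second core of `H` is not a `p`-group then `O_p(H) = 1`. -/
theorem pCoreOf_eq_bot_of_not_isPGroup [Fact p.Prime] (h : PrimPair H K)
    (hX : ¬ IsPGroup p (coreIn H (coreIn K H))) : pCoreOf p H = ⊥ := by
  set B := coreIn K H with hB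
  set X := resOf p (coreIn H B) with hXd
  have hX0 : X ≠ ⊥ := fun e => hX (MSS.resOf_eq_bot_iff.1 e)
  have hXH : X ≤ H := (MSS.resOf_le _).trans (coreIn_le_left _ _)
  have hXB : X ≤ B := (MSS.resOf_le _).trans (coreIn_le_right _ _)
  have hN : normalizer (X : Set G) ≤ H :=
    h.left X hX0 hXH (MSS.le_normalizer_resOf (le_normalizer_coreIn _ _))
  have hQX : pCoreOf p K ≤ normalizer (X : Set G) :=
    le_normalizer_resOf_of_subnormalIn (subnormalIn_core₂ H K) (MSS.pCoreOf_le K)
      (self_le_normalizer_pCoreOf K) (MSS.isPGroup_pCoreOf K)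
  refine h.pCoreOf_eq_bot_of_inf_le (hQX.trans hN) ?_
  set D := pCoreOf p H ⊓ K with hD
  have hBK : B ≤ K := coreIn_le_left _ _
  have hBH : B ≤ H := coreIn_le_right _ _
  have hBD : B ≤ normalizer (D : Set G) :=
    le_normalizer_inf (hBH.trans (self_le_normalizer_pCoreOf H)) (hBK.trans le_normalizer)
  have hDp : IsPGroup p D := (MSS.isPGroup_pCoreOf H).to_le inf_le_left
  have hOB : pCoreOf p B ≤ pCoreOf p K := MSS.pCoreOf_le_of_normal hBK (le_normalizer_coreIn _ _)
  have hDB : D ⊓ B ≤ pCoreOf p K := (MSS.le_pCoreOf inf_le_right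
    (le_normalizer_inf hBD le_normalizer) (hDp.to_le inf_le_left)).trans hOB
  have hcomm : ⁅D, B⁆ ≤ pCoreOf p K :=
    (commutator_le_inf_of_le_normalizer (inf_le_right.trans (le_normalizer_coreIn _ _)) hBD).trans
      hDB
  suffices hDle : D ≤ B from fun x hx => hDB ⟨hx, hDle hx⟩
  intro d hd
  refine mem_coreIn.2 ⟨hd.2, fun k hk => hN ?_⟩
  have hsub : X ≤ B := hXB
  have hd' : k * d * k⁻¹ ∈ normalizer ((X ⊔ pCoreOf p K : Subgroup G) : Set G) := by
    refine mem_normalizer_of_conj_mem fun y hy => ?_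
    obtain ⟨x, hx, q, hq, rfl⟩ := (Solv.mem_sup_of_le_normalizer hQX).1 hy
    have hk' : k * d * k⁻¹ ∈ K := mul_mem (mul_mem hk hd.2) (inv_mem hk)
    have e : k * d * k⁻¹ * (x * q) * (k * d * k⁻¹)⁻¹ =
        (k * (d * (k⁻¹ * x * k) * d⁻¹ * (k⁻¹ * x * k)⁻¹) * k⁻¹) * x *
          (k * d * k⁻¹ * q * (k * d * k⁻¹)⁻¹) := by group
    rw [e]
    refine mul_mem (mul_mem (mem_sup_right ?_) (mem_sup_left hx)) (mem_sup_right ?_)
    · refine conj_mem_of_mem_normalizer (self_le_normalizer_pCoreOf K hk) (hcomm ?_)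
      exact commutator_mem_commutator hd
        (inv_conj_mem_of_mem_normalizer (le_normalizer_coreIn K H hk) (hXB hx))
    · exact conj_mem_of_mem_normalizer (self_le_normalizer_pCoreOf K hk') hq
  have := MSS.normalizer_le_normalizer_resOf (p := p) _ hd'
  rwa [MSS.resOf_sup_eq_of_isPGroup hQX (MSS.isPGroup_pCoreOf K), hXd, MSS.resOf_resOf] at this

theorem layer_le (h : PrimPair H K) (hX : coreIn H (coreIn K H) ≠ ⊥) :
    (layer K).map K.subtype ≤ H := by
  refine le_trans ?_ (h.left _ hX (coreIn_le_left _ _) (le_normalizer_coreIn _ _))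
  have hs := subnormalIn_core₂ H K
  have h1 := map_mono (f := K.subtype) (layer_le_normalizer_of_isSubnormal hs.2)
  rw [map_subtype_normalizer, map_subgroupOf_eq_of_le hs.1] at h1
  exact h1.trans inf_le_right

theorem resOf_eq_self_of_perfect [Fact p.Prime] {L : Subgroup G} (hL : ⁅L, L⁆ = L) :
    resOf p L = L := by
  have h1 : ⁅(⊤ : Subgroup L), (⊤ : Subgroup L)⁆ = ⊤ := by
    apply map_injective L.subtype_injective
    rw [← commutator_def, Solv.map_subtype_commutator, hL, ← MonoidHom.range_eq_map, range_subtype]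
  have h2 : IsPGroup p ((⊤ : Subgroup L).map (QuotientGroup.mk' (pResidual p L))) := by
    rw [MSS.isPGroup_map_iff, MSS.resOf_top, QuotientGroup.ker_mk']
  have h3 := perfect_le_ker_of_isSolvable h1 (QuotientGroup.mk' (pResidual p L))
    (by have := h2.isNilpotent; infer_instance)
  rw [QuotientGroup.ker_mk', top_le_iff] at h3
  change (pResidual p L).map L.subtype = L
  rw [h3, ← MonoidHom.range_eq_map, range_subtype]

theorem layer_eq_bot [Fact p.Prime] (h : PrimPair H K)
    (hX : coreIn H (coreIn K H) ≠ ⊥) (hp : IsPGroup p (coreIn H (coreIn K H)))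
    (hY : coreIn K (coreIn H K) ≠ ⊥) : (layer H).map H.subtype = ⊥ := by
  set X := coreIn H (coreIn K H) with hXd
  set E := (layer H).map H.subtype with hE
  have hXH : X ≤ H := coreIn_le_left _ _
  have hEH : E ≤ H := map_subtype_le _
  have hEK : E ≤ K := h.symm.layer_le hY
  have hN : normalizer (X : Set G) ≤ H := h.left X hX hXH (le_normalizer_coreIn _ _)
  have hXQ : X ≤ pCoreOf p K := MSS.le_pCoreOf_of_subnormalIn (subnormalIn_core₂ H K) hp
  have hsol : ∀ {P : Subgroup G}, IsPGroup p P → Group.IsSolvable P := fun hP => by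
    have := hP.isNilpotent; infer_instance
  have hres : resOf p E = E := resOf_eq_self_of_perfect (perfect_map_layer_subtype H)
  have hEX : ⁅E, X⁆ = ⊥ := commutator_map_layer_eq_bot_of_isSolvable hXH (hsol hp)
    (hEH.trans (le_normalizer_coreIn _ _))
  have hEX' : E ≤ centralizer (X : Set G) := commutator_eq_bot_iff_le_centralizer.1 hEX
  have hEQ : E ≤ normalizer (pCoreOf p K : Set G) := hEK.trans (self_le_normalizer_pCoreOf K)
  have hc : E ≤ centralizer (pCoreOf p K : Set G) := by
    rw [← hres]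
    refine p_times_q (R := X) (MSS.isPGroup_pCoreOf K) (hXQ.trans le_normalizer) (hres.le.trans hEQ)
      (resOf_le_of_isPGroup hp _) (by rw [hres, commutator_comm, hEX]; exact bot_le) ?_
    rw [hres]
    refine commutator_eq_bot_iff_le_centralizer.1 (commutator_map_layer_eq_bot_of_isSolvable
      (inf_le_right.trans ((centralizer_le_normalizer _).trans hN))
      (hsol ((MSS.isPGroup_pCoreOf K).to_le inf_le_left)) ?_)
    exact le_normalizer_inf_centralizer hEQ (hEH.trans (le_normalizer_coreIn _ _))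
  set D := K ⊓ centralizer (pCoreOf p K : Set G) with hD
  have hDH : D ≤ H := inf_le_right.trans ((centralizer_le (SetLike.coe_subset_coe.2 hXQ)).trans
    ((centralizer_le_normalizer _).trans hN))
  refine h.layer_eq_bot_of_le ((map_layer_subtype_le_of_le hDH (le_inf hEK hc)).trans ?_)
  exact map_layer_subtype_mono inf_le_left (isSubnormal_subgroupOf_of_le_normalizer
    (le_normalizer_inf_centralizer le_normalizer (self_le_normalizer_pCoreOf K)))

/-- **Thompson–Wielandt.** -/
theorem thompson_wielandt (h : PrimPair H K) (hX : coreIn H (coreIn K H) ≠ ⊥)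
    (hY : coreIn K (coreIn H K) ≠ ⊥) : ∃ p : ℕ, p.Prime ∧ IsPGroup p (coreIn H (coreIn K H)) ∧
      IsPGroup p (coreIn K (coreIn H K)) ∧ generalizedFittingSubgroup H = pCore p H ∧
      generalizedFittingSubgroup K = pCore p K := by
  have hfit : ∀ {H K : Subgroup G}, PrimPair H K →
      (∀ q : ℕ, q.Prime → ¬ IsPGroup q (coreIn H (coreIn K H))) → fittingOf H = ⊥ := by
    intro H K h hq
    refine le_bot_iff.1 (fittingOf_le_of_forall_pCore_le fun q hq' => ?_)
    exact (h.pCoreOf_eq_bot_of_not_isPGroup (hq q hq'.out)).le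
  have hex : ∃ p : ℕ, p.Prime ∧ IsPGroup p (coreIn H (coreIn K H)) := by
    by_contra hn
    push Not at hn
    have h1 := hfit h hn
    have h2 : fittingOf K = ⊥ := by
      refine le_bot_iff.1 (fittingOf_le_of_forall_pCore_le fun q hq' => ?_)
      exact (h.pCoreOf_eq_bot_iff.2 (le_bot_iff.1 ((map_pCore_le_fittingOf q H).trans h1.le))).le
    have e1 : (generalizedFittingSubgroup H).map H.subtype = (layer H).map H.subtype := by
      rw [map_genFitting_subtype]; exact sup_eq_left.2 (h1.le.trans bot_le)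
    have e2 : (generalizedFittingSubgroup K).map K.subtype = (layer K).map K.subtype := by
      rw [map_genFitting_subtype]; exact sup_eq_left.2 (h2.le.trans bot_le)
    have h3 := h.layer_eq_bot_of_le (Cfsg.Agent.S3752.layer_le (e1 ▸ h.symm.layer_le hY)
      (e2 ▸ h.layer_le hX))
    rw [← e1, map_eq_bot_iff_of_injective _ H.subtype_injective, genFitting_eq_bot_iff] at h3
    exact hX (le_bot_iff.1 ((coreIn_le_left _ _).trans (eq_bot_of_subsingleton H).le))
  obtain ⟨p, hp, hXp⟩ := hex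
  have := Fact.mk hp
  have hO : pCoreOf p H ≠ ⊥ := fun e => hX (le_bot_iff.1 (e ▸ MSS.le_pCoreOf (coreIn_le_left _ _)
    (le_normalizer_coreIn _ _) hXp))
  have hYp : IsPGroup p (coreIn K (coreIn H K)) := by
    by_contra hn
    exact hO (h.pCoreOf_eq_bot_iff.1 (h.symm.pCoreOf_eq_bot_of_not_isPGroup hn))
  have key : ∀ {H K : Subgroup G}, PrimPair H K → coreIn H (coreIn K H) ≠ ⊥ →
      IsPGroup p (coreIn H (coreIn K H)) → coreIn K (coreIn H K) ≠ ⊥ →
      generalizedFittingSubgroup H = pCore p H := by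
    intro H K h hX hXp hY
    apply map_injective H.subtype_injective
    rw [map_genFitting_subtype, h.layer_eq_bot hX hXp hY, bot_sup_eq]
    refine le_antisymm (fittingOf_le_of_forall_pCore_le fun q hq => ?_) (map_pCore_le_fittingOf p H)
    by_cases hqp : q = p
    · subst hqp; exact le_rfl
    · refine (h.pCoreOf_eq_bot_of_not_isPGroup fun hq' => hX ?_).le.trans bot_le
      exact disjoint_self.1 (IsPGroup.disjoint_of_ne q p hqp _ _ hq' hXp)
  exact ⟨p, hp, hXp, hYp, key h hX hXp hY, key h.symm hY hYp hX⟩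

end PrimPair

/-! ### Index bounds -/

theorem index_iInf_dvd_prod {ι : Type*} [Fintype ι] (N : ι → Subgroup G) [∀ i, (N i).Normal] :
    (⨅ i, N i).index ∣ ∏ i, (N i).index := by
  let φ : G →* ∀ i, G ⧸ N i := MonoidHom.pi fun i => QuotientGroup.mk' (N i)
  have hk : φ.ker = ⨅ i, N i := by
    ext x
    simp [φ, MonoidHom.mem_ker, funext_iff, mem_iInf]
  rw [← hk, index_ker]
  simpa [Nat.card_pi, index] using card_subgroup_dvd_card φ.range

theorem index_normalCore_dvd [Finite G] (Y : Subgroup G) : Y.normalCore.index ∣ Y.index.factorial := by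
  classical
  have := Fintype.ofFinite (G ⧸ Y)
  rw [normalCore_eq_ker, index_ker, index_eq_card, ← Nat.card_perm]
  exact card_subgroup_dvd_card _

theorem relIndex_normalCore_dvd [Finite G] (Y : Subgroup G) :
    Y.normalCore.relIndex Y ∣ (Y.index - 1).factorial := by
  classical
  have h1 : (MulAction.stabilizer (Equiv.Perm (G ⧸ Y)) ((1 : G) : G ⧸ Y)).index = Y.index := by
    rw [MulAction.index_stabilizer_of_transitive, index_eq_card]
  have h2 := (MulAction.stabilizer (Equiv.Perm (G ⧸ Y)) ((1 : G) : G ⧸ Y)).card_mul_index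
  have h3 : 0 < Y.index := Nat.pos_of_ne_zero index_ne_zero_of_finite
  rw [h1, Nat.card_perm, ← index_eq_card, ← Nat.mul_factorial_pred h3.ne', mul_comm] at h2
  rw [← Nat.eq_of_mul_eq_mul_left h3 h2, normalCore_eq_ker, relIndex_ker]
  apply card_dvd_of_le
  rintro _ ⟨y, hy, rfl⟩
  change y • ((1 : G) : G ⧸ Y) = _
  rw [MulAction.Quotient.smul_mk, QuotientGroup.eq]
  simpa using hy

theorem relIndex_coreIn_dvd [Finite G] (M Y : Subgroup G) :
    (coreIn M Y).relIndex M ∣ (Y.relIndex M).factorial := by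
  rw [coreIn, relIndex_map_subtype]
  exact index_normalCore_dvd _

theorem relIndex_coreIn_inf_dvd [Finite G] (M Y : Subgroup G) :
    (coreIn M Y).relIndex (M ⊓ Y) ∣ (Y.relIndex M - 1).factorial := by
  have := relIndex_normalCore_dvd (Y.subgroupOf M)
  rwa [← relIndex_map_map_of_injective _ _ M.subtype_injective, subgroupOf_map_subtype,
    inf_comm] at this

theorem relIndex_dvd_of_le_of_le_normalizer {B A T : Subgroup G} (hA : A ≤ T)
    (hn : T ≤ normalizer (B : Set G)) : B.relIndex A ∣ B.relIndex T := by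
  have : (B.subgroupOf T).Normal := normal_subgroupOf_of_le_normalizer hn
  rw [← relIndex_subgroupOf hA]
  exact relIndex_dvd_index_of_normal _ _

theorem relIndex_core₂_dvd [Finite G] (H K : Subgroup G) :
    (coreIn H (coreIn K H)).relIndex H ∣
      (K.relIndex H).factorial * (H.relIndex K - 1).factorial ^ K.relIndex H := by
  classical
  set A := coreIn H K with hA
  set B := coreIn K H with hB
  have hXA : coreIn H B ≤ A := coreIn_mono H (coreIn_le_left _ _)
  rw [← relIndex_mul_relIndex _ _ _ hXA (coreIn_le_left H K), mul_comm]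
  refine mul_dvd_mul (relIndex_coreIn_dvd H K) ?_
  have := Fintype.ofFinite (H ⧸ K.subgroupOf H)
  have hAn : ∀ x : H, A ≤ normalizer (cj (x : G) B : Set G) := fun x => by
    rw [← cj_normalizer, ← cj_inv_le_iff_le_cj,
      cj_eq_of_mem_normalizer (le_normalizer_coreIn H K (inv_mem x.2))]
    exact (coreIn_le_right H K).trans (le_normalizer_coreIn K H)
  have hn : ∀ q : H ⧸ K.subgroupOf H, ((cj (q.out : G) B).subgroupOf A).Normal := fun q =>
    normal_subgroupOf_of_le_normalizer (hAn _)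
  have e : (coreIn H B).subgroupOf A = ⨅ q : H ⧸ K.subgroupOf H, (cj (q.out : G) B).subgroupOf A := by
    ext x
    simp only [mem_iInf, mem_subgroupOf, mem_coreIn, mem_cj]
    refine ⟨fun h q => by simpa using h.2 _ (inv_mem q.out.2), fun h =>
      ⟨coreIn_le_left H K x.2, fun m hm => ?_⟩⟩
    obtain ⟨t, ht⟩ := QuotientGroup.mk_out_eq_mul (K.subgroupOf H) (⟨m, hm⟩⁻¹ : H)
    have h1 := h (QuotientGroup.mk (⟨m, hm⟩⁻¹ : H))
    rw [ht] at h1
    have h2 := conj_mem_of_mem_normalizer (le_normalizer_coreIn K H t.2) h1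
    simpa [mul_assoc] using h2
  rw [relIndex, e]
  refine (index_iInf_dvd_prod _).trans ?_
  rw [show K.relIndex H = Fintype.card (H ⧸ K.subgroupOf H) by
    rw [← Nat.card_eq_fintype_card]; rfl, ← Finset.card_univ, ← Finset.prod_const]
  refine Finset.prod_dvd_prod_of_dvd _ _ fun q _ => ?_
  change (cj (q.out : G) B).relIndex A ∣ _
  have e2 : cj (q.out : G) A = A := cj_eq_of_mem_normalizer (le_normalizer_coreIn H K q.out.2)
  rw [← e2, relIndex_cj]
  exact (relIndex_dvd_of_le_of_le_normalizer (le_inf (coreIn_le_right H K) (coreIn_le_left H K))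
    (inf_le_left.trans (le_normalizer_coreIn K H))).trans (relIndex_coreIn_inf_dvd K H)

theorem PrimPair.card_dvd [Finite G] {H K : Subgroup G} (h : PrimPair H K)
    (h0 : coreIn H (coreIn K H) = ⊥ ∨ coreIn K (coreIn H K) = ⊥) :
    Nat.card H ∣ (K.relIndex H).factorial * (K.relIndex H - 1).factorial ^ K.relIndex H := by
  rcases h0 with h0 | h0
  · have := relIndex_core₂_dvd H K
    rwa [h0, relIndex_bot_left, h.relIndex_eq] at this
  · have := relIndex_core₂_dvd K H
    rwa [h0, relIndex_bot_left, h.relIndex_eq, h.card_eq] at this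

/-! ### Primitive actions -/

section Action
open MulAction
variable {Ω : Type*} [MulAction G Ω]

theorem normalCore_stabilizer_eq_bot [FaithfulSMul G Ω] [IsPretransitive G Ω] (a : Ω) :
    (stabilizer G a).normalCore = ⊥ := by
  refine le_bot_iff.1 fun x hx => ?_
  refine FaithfulSMul.eq_of_smul_eq_smul (α := Ω) fun y => ?_
  obtain ⟨g, rfl⟩ := exists_smul_eq G a y
  have := hx g⁻¹
  rw [mem_stabilizer_iff, inv_inv, mul_smul, mul_smul, inv_smul_eq_iff] at this
  rw [this, one_smul]

theorem stabilizer_smul_eq_cj (g : G) (a : Ω) : stabilizer G (g • a) = cj g (stabilizer G a) :=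
  stabilizer_smul_eq_stabilizer_map_conj g a

theorem card_orbit_stabilizer (a b : Ω) :
    Nat.card (orbit (stabilizer G a) b) = (stabilizer G b).relIndex (stabilizer G a) := by
  rw [relIndex, Nat.card_coe_set_eq, ← index_stabilizer]
  rfl

theorem primPair_stabilizer [FaithfulSMul G Ω] (hprim : IsPreprimitive G Ω) {a b : Ω}
    (h : Nat.card (orbit (stabilizer G a) b) ≠ 1) : PrimPair (stabilizer G a) (stabilizer G b) := by
  have hne : stabilizer G a ≠ stabilizer G b := fun e => h (by
    rw [card_orbit_stabilizer, e, relIndex_self])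
  have : Nontrivial Ω := ⟨a, b, fun e => hne (e ▸ rfl)⟩
  obtain ⟨g, rfl⟩ := exists_smul_eq G a b
  exact ⟨hne, normalizer_le_of_isCoatom (IsPreprimitive.isCoatom_stabilizer_of_isPreprimitive G a)
    (normalCore_stabilizer_eq_bot a), g, stabilizer_smul_eq_cj g a⟩

end Action

end Cfsg.Lib.Perm
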